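import Cfsg.Agent.SB.Exc.Card
import Cfsg.Agent.Nodes.Coroot
import Cfsg.Agent.BpExc.FixRel
import Cfsg.Agent.DL.Ex.Fin_m3
import Cfsg.Agent.DL.CF.Uni_m3
import Cfsg.Agent.TAB.F22.FxB_m3
import Cfsg.Agent.H316.U6Norm_m3
import Cfsg.Agent.Nodes.SimplyLaced
import Cfsg.Agent.StdL2.G23Aut
import Cfsg.Agent.TwoFusion.PerfCore
import Cfsg.Agent.S0058
import Cfsg.Agent.S0044
import Cfsg.Agent.H373.TS.TDFour
import Cfsg.Agent.FastGrp
import Cfsg.Agent.Prune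
set_option linter.all false

section
prune_inst 0x7ffcfff8afb9bddfdfff7e7ffefddffc29909fffe6dff9437fe061ff0b9f03000fe5fba78de090fd1ed6e2b410387853fb7eefffea6bdc7ffffd5ff41ffbee1fb5e6b50851d59c340fbc0fff03f07f8e7f3fffffffffffffffffffffffffffbefffdffffffff

-- part: SB/Exc/Max/Defs
section
set_option linter.all false

/-!
# S5765, `BoxMax`: the facts on root systems (interface, helper50)
-/

set_option autoImplicit false
set_option linter.unusedSectionVars false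

namespace Cfsg.Agent.SB.Exc.Max

open CoxeterSystem Cfsg Cfsg.Lie Cfsg.Lie.ChevalleyDatum
open Cfsg.Agent.ChevalleyStructure Cfsg.Agent.ChevalleyStructure.Elts Cfsg.Agent.ChevalleyStructure.CoxeterGeom
  Cfsg.Agent.ChevalleyStructure.CoxeterGeomTypes
open Cfsg.Agent.Tits.Roots Cfsg.Agent.Tits.Core Cfsg.Agent.Nodes Cfsg.Agent.Nodes.Reps Cfsg.Agent.Nodes.BNOf
  Cfsg.Agent.Nodes.RGDChev Cfsg.Agent.Nodes.Bruhat Cfsg.Agent.Nodes.Coroot
open Cfsg.Agent.KFacts.RgdField Cfsg.Agent.KFacts.RgdChevCoord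
open Cfsg.Agent.BpExc Cfsg.Agent.BpExc.TorCent Cfsg.Agent.BpExc.TorChev Cfsg.Agent.BpExc.Tow
  Cfsg.Agent.BpExc.TowChev Cfsg.Agent.BpExc.Fr Cfsg.Agent.BpExc.LangFr
open Cfsg.Agent.H469.Exc Cfsg.Agent.H316.U6 Cfsg.Agent.H129.TorusChar Cfsg.Agent.DS.Ex Cfsg.Agent.H786.FC

section Gen

variable {I W : Type*} [Fintype I] [DecidableEq I] [Group W] {M : CoxeterMatrix I}
  (cs : CoxeterSystem M W) {A : I → I → ℤ} (h : IsCartan M A)

/-- root groups of roots with non-negative inner product commute -/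
def DC {Y : Type*} [Group Y] (X : (I → ℤ) → Subgroup Y) : Prop :=
  ∀ a b, IsRoot cs h a → IsRoot cs h b → 0 ≤ cpr cs h b a → ∀ u ∈ X a, ∀ v ∈ X b, u * v = v * u

/-- every root has three neighbours -/
def IR3 : Prop := ∀ b, IsRoot cs h b → ∃ c₁ c₂ c₃, IsRoot cs h c₁ ∧ IsRoot cs h c₂ ∧ IsRoot cs h c₃ ∧
  c₁ ≠ c₂ ∧ c₁ ≠ c₃ ∧ c₂ ≠ c₃ ∧ cpr cs h c₁ b = 1 ∧ cpr cs h c₂ b = 1 ∧ cpr cs h c₃ b = 1

/-- long roots -/
def Lg (a : I → ℤ) : Prop := ∀ c, IsRoot cs h c → c ≠ a → cpr cs h c a ≤ 1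

/-- facts on `F₄` -/
structure F4C : Prop where
  long : ∀ a c, IsRoot cs h a → IsRoot cs h c → c ≠ a → 2 ≤ cpr cs h c a → Lg cs h c
  even : ∀ a b, IsRoot cs h a → IsRoot cs h b → ¬ Lg cs h a → Lg cs h b → Even (cpr cs h b a)
  pair : ∃ b b', IsRoot cs h b ∧ IsRoot cs h b' ∧ Lg cs h b ∧ Lg cs h b' ∧ cpr cs h b' b = 1
  short : ∃ a, IsRoot cs h a ∧ ¬ Lg cs h a
  add : ∀ a a', IsRoot cs h a → IsRoot cs h a' → ¬ Lg cs h a → ¬ Lg cs h a' → cpr cs h a' a = 0 → IsRoot cs h (a + a')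

/-- facts on `E₆` -/
structure E6C : Prop where
  /-- simply laced -/
  symm : ∀ a b, IsRoot cs h a → IsRoot cs h b → cpr cs h a b = cpr cs h b a
  /-- a symmetric set of mutually orthogonal roots to which no root is orthogonal is `4 A₁` in `D₄` -/
  orth : ∀ P : Set (I → ℤ), (∀ a ∈ P, IsRoot cs h a) → (∀ a ∈ P, -a ∈ P) →
    (∀ a ∈ P, ∀ b ∈ P, b = a ∨ b = -a ∨ cpr cs h b a = 0) →
    (∀ r, IsRoot cs h r → ∃ a ∈ P, cpr cs h r a ≠ 0) →
    (∃ f : (I → ℤ) →+ ℤ, f ≠ 0 ∧ ∀ a ∈ P, f a = 0) ∧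
    ∃ a ∈ P, ∃ b ∈ P, ∃ c ∈ P, ∃ d ∈ P, ∃ r, IsRoot cs h r ∧ (2 : ℤ) • r = a + b + c + d ∧
      cpr cs h a r = 1 ∧ cpr cs h b r = 1 ∧ cpr cs h c r = 1 ∧ a ≠ b ∧ a ≠ c ∧ b ≠ c
  /-- an `A₂` is orthogonal to an `A₂` -/
  perp : ∀ a b, IsRoot cs h a → IsRoot cs h b → cpr cs h a b = -1 → ∃ r r', IsRoot cs h r ∧ IsRoot cs h r' ∧
    cpr cs h r' r = -1 ∧ cpr cs h r a = 0 ∧ cpr cs h r b = 0 ∧ cpr cs h r' a = 0 ∧ cpr cs h r' b = 0
  /-- no element of `W` inverts an `A₂ + A₁` -/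
  inv : ∀ (w : W) a b c, IsRoot cs h a → IsRoot cs h b → IsRoot cs h c → cpr cs h a b = -1 → cpr cs h c a = 0 →
    cpr cs h c b = 0 → ¬ (rep cs h w a = -a ∧ rep cs h w b = -b ∧ rep cs h w c = -c)

end Gen

/-- [MC] the facts on the root systems and root groups -/
structure BoxMC : Prop where
  dc : ∀ (D : ChevalleyDatum) (l : ℕ) (M : CoxeterMatrix (Fin l)) (hp : IsType D l M), Typ D →
    ∀ (p : ℕ) [Fact p.Prime], (D = chevF4 → p = 2) → DC M.toCoxeterSystem hp.isCartan (XX D l (KK p))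
  ir : ∀ (D : ChevalleyDatum) (l : ℕ) (M : CoxeterMatrix (Fin l)) (hp : IsType D l M), Typ D →
    IR3 M.toCoxeterSystem hp.isCartan
  f4 : ∀ (l : ℕ) (M : CoxeterMatrix (Fin l)) (hp : IsType chevF4 l M), F4C M.toCoxeterSystem hp.isCartan
  e6 : ∀ (l : ℕ) (M : CoxeterMatrix (Fin l)) (hp : IsType chevE6 l M), E6C M.toCoxeterSystem hp.isCartan

end Cfsg.Agent.SB.Exc.Max
end

-- part: SB/Exc/Max/Iface
section
prune_inst 0x10007500042202000000000020000100300000020000000000e0020402408000004000010000241210100008000000000000000040000000080004000000000000801002a008000002000e000000000000000000000000000000000000000000000000000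
set_option linter.all false
open scoped Cfsg.Agent.FastGrp

-- part: SB/Exc/Max/Crd
section
/-!
# S5765, `BoxMax`: coordinates on unipotent subgroups (helper50)

* `exists_perturb`, `exists_generic`, `eq_one_of_sum` : functionals on the root lattice;
* `S_ind`, `inf_S`, `pel_of_uni`;
* `CRel D C` : commutator relations with supports `C a b`; `Crd D A B κ` : the coordinates at the roots in `B ⊆ A` are
  homomorphisms on `D.S A`; `exists_crd`, `Crd.map`, `Crd.exists_fix`.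
-/

set_option autoImplicit false
set_option linter.unusedSectionVars false

namespace Cfsg.Agent.SB.Exc.Max

open CoxeterSystem Cfsg.Agent.ChevalleyStructure.CoxeterGeom Cfsg.Agent.Tits.Roots Cfsg.Agent.Nodes.Reps
  Cfsg.Agent.Nodes.BNOf Cfsg.Agent.Nodes.Bruhat Cfsg.Agent.LangThm Cfsg.Agent.Nodes.SubComb
  Cfsg.Agent.Nodes.Coroot Cfsg.Agent.Nodes.Slope Cfsg.Agent.Nodes.NormalForm Cfsg.Agent.DL.Base Cfsg.Agent.DL
open scoped Pointwise commutatorElement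

section Fun

variable {V : Type*} [AddCommGroup V]

theorem exists_perturb {S : Set V} (hS : S.Finite) (lam mu : V →+ ℤ) : ∃ f : V →+ ℤ, ∀ v ∈ S,
    (0 < lam v → 0 < f v) ∧ (lam v < 0 → f v < 0) ∧ (lam v = 0 → f v = mu v) := by
  obtain ⟨n, hn⟩ := (hS.image fun v => |mu v|).bddAbove
  refine ⟨(n + 1) • lam + mu, fun v hv => ?_⟩
  have h1 : |mu v| ≤ n := hn ⟨v, hv, rfl⟩
  have h2 := abs_le.1 h1
  have h3 : 0 ≤ n := (abs_nonneg _).trans h1
  have e : ((n + 1) • lam + mu) v = (n + 1) * lam v + mu v := by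
    rw [AddMonoidHom.add_apply, AddMonoidHom.zsmul_apply, smul_eq_mul]
  rw [e]
  refine ⟨fun h => ?_, fun h => ?_, fun h => by rw [h, mul_zero, zero_add]⟩
  · nlinarith
  · nlinarith

theorem exists_generic {I : Type*} {S : Set (I → ℤ)} (hS : S.Finite) (h0 : ∀ v ∈ S, v ≠ 0) :
    ∃ f : (I → ℤ) →+ ℤ, ∀ v ∈ S, f v ≠ 0 := by
  induction S, hS using Set.Finite.induction_on with
  | empty => exact ⟨0, fun _ h => h.elim⟩
  | @insert a S _ hS ih =>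
    obtain ⟨f, hf⟩ := ih fun v hv => h0 v (Set.mem_insert_of_mem _ hv)
    obtain ⟨i, hi⟩ := Function.ne_iff.1 (h0 a (Set.mem_insert _ _))
    obtain ⟨f', hf'⟩ := exists_perturb (hS.insert a) f (Pi.evalAddMonoidHom (fun _ => ℤ) i)
    refine ⟨f', fun v hv => ?_⟩
    obtain ⟨h1, h2, h3⟩ := hf' v hv
    rcases lt_trichotomy (f v) 0 with h | h | h
    · exact (h2 h).ne
    · rcases hv with rfl | hv
      · rw [h3 h]; exact hi
      · exact absurd h (hf v hv)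
    · exact (h1 h).ne'

end Fun

variable {p : ℕ} [Fact p.Prime] {k : Type} [Field k] [CharP k p] {Y : Type} [Group Y] {N : Type} [Fintype N]
  [DecidableEq N] {ρ : Y →* GL N k} {F : MulAut Y} {G : Subgroup Y} (D : Datum p ρ F G)

theorem act_mul (v w : D.W) (a : D.I → ℤ) : D.act (v * w) a = D.act v (D.act w a) := by
  rw [Datum.act, map_mul]; rfl

theorem act_one (a : D.I → ℤ) : D.act 1 a = a := by
  rw [Datum.act, map_one]; rfl

theorem act_inv_act (w : D.W) (a : D.I → ℤ) : D.act w⁻¹ (D.act w a) = a := by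
  rw [← act_mul, inv_mul_cancel, act_one]

theorem act_act_inv (w : D.W) (a : D.I → ℤ) : D.act w (D.act w⁻¹ a) = a := by
  rw [← act_mul, mul_inv_cancel, act_one]

theorem act_neg (w : D.W) (a : D.I → ℤ) : D.act w (-a) = -D.act w a := map_neg _ _

/-- an element of `W` preserving the positive roots is trivial -/
theorem eq_one_of_pos {w : D.W} (h : ∀ i, 0 ≤ D.act w (sr i)) : w = 1 := eq_one_of_nonneg D.cs D.h _ h

/-- an element of `W` fixing a regular functional is trivial -/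
theorem eq_one_of_fix_fun {w : D.W} (f : (D.I → ℤ) →+ ℤ) (hf : ∀ a, D.Rt a → f a ≠ 0)
    (hw : ∀ a, D.Rt a → f (D.act w a) = f a) : w = 1 := by
  obtain ⟨v, hv⟩ := D.exists_chamber f hf
  have h1 : v⁻¹ * w * v = 1 := eq_one_of_pos D fun i => by
    have h2 := isRoot_sr D.cs D.h i
    rw [← hv _ (h2.act _), ← act_mul, show v * (v⁻¹ * w * v) = w * v by group, act_mul, hw _ (h2.act _), hv _ h2]
    exact sr_nonneg i
  calc w = v * (v⁻¹ * w * v) * v⁻¹ := by group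
    _ = 1 := by rw [h1]; group

theorem eq_one_of_sum {w : D.W} {s : ℕ} (hs : w ^ s = 1)
    (h : ∀ a, D.Rt a → ∑ i ∈ Finset.range s, D.act (w ^ i) a ≠ 0) : w = 1 := by
  obtain ⟨f, hf⟩ := exists_generic (S := (fun a => ∑ i ∈ Finset.range s, D.act (w ^ i) a) '' {a | D.Rt a})
    (D.finite_roots.image _) (by rintro _ ⟨a, ha, rfl⟩; exact h a ha)
  let Sg : (D.I → ℤ) →+ (D.I → ℤ) := ∑ i ∈ Finset.range s, (rep D.cs D.h (w ^ i)).toAddMonoidHom
  have e : ∀ a, Sg a = ∑ i ∈ Finset.range s, D.act (w ^ i) a := fun a => by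
    simp only [Sg, AddMonoidHom.finsetSum_apply]; rfl
  refine eq_one_of_fix_fun D (f.comp Sg) (fun a ha => ?_) fun a _ => ?_
  · rw [AddMonoidHom.comp_apply, e]
    exact hf _ ⟨a, ha, rfl⟩
  · rw [AddMonoidHom.comp_apply, AddMonoidHom.comp_apply, e, e]
    congr 1
    have h1 := Finset.sum_range_succ (fun i => D.act (w ^ i) a) s
    rw [Finset.sum_range_succ', hs, pow_zero] at h1
    rw [← add_right_cancel h1]
    exact Finset.sum_congr rfl fun i _ => by rw [← act_mul, pow_succ]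

variable {D}

theorem S_ind {A : Set (D.I → ℤ)} (hA : ∀ a ∈ A, D.Rt a) {P : Y → Prop} (h1 : P 1)
    (hx : ∀ a ∈ A, ∀ s, P (D.x a s)) (hm : ∀ y ∈ D.S A, ∀ y' ∈ D.S A, P y → P y' → P (y * y')) {y : Y}
    (hy : y ∈ D.S A) : P y := by
  refine Subgroup.iSup_induction' (fun z : A => D.X z.1) (C := fun y _ => P y) (fun a u hu => ?_) h1
    (fun u v hu hv => hm u hu v hv) hy
  obtain ⟨s, rfl⟩ := (D.mem_X a (hA a a.2) _).1 hu
  exact hx a a.2 s

theorem x_mem_S {A : Set (D.I → ℤ)} {a : D.I → ℤ} (ha : a ∈ A) (hr : D.Rt a) (s : k) : D.x a s ∈ D.S A :=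
  RGD.le_Sup (X := D.X) ha (D.x_mem hr s)

theorem inf_S {A B : Set (D.I → ℤ)} (hA : D.Uni A) (hB : D.Uni B) {u : Y} (h1 : u ∈ D.S A) (h2 : u ∈ D.S B) :
    u ∈ D.S (A ∩ B) := by
  obtain ⟨lam, hl⟩ := hA.pos
  obtain ⟨ell, he⟩ := hB.pos
  obtain ⟨a, ha, c, hc, e⟩ := D.split hA.cl lam ell hl h1
  have h3 : c = 1 := by
    refine D.sup_inf_sup' ell lam ?_ (RGD.Sup_mono ?_ hc)
    · rw [show c = a⁻¹ * u by rw [e, inv_mul_cancel_left]]
      refine mul_mem (inv_mem (RGD.Sup_mono ?_ ha)) (RGD.Sup_mono ?_ h2)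
      · exact fun x hx => ⟨hA.root x hx.1, hx.2⟩
      · exact fun x hx => ⟨hB.root x hx, he x hx⟩
    · exact fun x hx => ⟨hA.root x hx.1, hx.2, hl x hx.1⟩
  rw [h3, mul_one] at e
  have h4 := Datum.S_inf_S (hA.cl.pos ell) hB.cl ell (by rintro x (hx | hx); exacts [hx.2, he x hx])
  have h5 : u ∈ D.S ({x | x ∈ A ∧ 0 < ell x} ∩ B) := h4 ▸ (⟨e ▸ ha, h2⟩ : u ∈ D.S _ ⊓ D.S B)
  refine RGD.Sup_mono ?_ h5
  exact fun x hx => ⟨hx.1.1, hx.2⟩

theorem pel_of_pos {A : Set (D.I → ℤ)} (hA : ∀ a ∈ A, D.Rt a) (lam : (D.I → ℤ) →+ ℤ) (hl : ∀ a ∈ A, 0 < lam a) {u : Y}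
    (hu : u ∈ D.S A) : ∃ j : ℕ, u ^ p ^ j = 1 := by
  obtain ⟨f, hf⟩ := exists_perturb D.finite_roots lam htHom
  obtain ⟨w, hw⟩ := D.exists_chamber f fun a ha => by
    obtain ⟨h1, h2, h3⟩ := hf a ha
    rcases lt_trichotomy (lam a) 0 with h | h | h
    · exact (h2 h).ne
    · rw [h3 h]
      rcases ha.pos_or_neg with h4 | h4
      · exact (D.ht_pos_of_pos a ⟨ha, h4⟩).ne'
      · have := D.ht_pos_of_pos (-a) ⟨ha.neg, neg_nonneg.2 h4⟩
        rw [map_neg] at this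
        omega
    · exact (h1 h).ne'
  obtain ⟨m, hm, -⟩ := D.exists_rp w⁻¹
  have h1 : m * u * m⁻¹ ∈ D.U := D.conj_mem_S (S' := RGD.Pos D.cs D.h) hm hA (fun a ha => ⟨(hA a ha).act _, by
    rw [← hw _ ((hA a ha).act _), act_act_inv]
    exact (hf a (hA a ha)).1 (hl a ha)⟩) hu
  obtain ⟨j, hj⟩ := D.isPGroup_U ⟨_, h1⟩
  refine ⟨j, ?_⟩
  have h2 : (m * u * m⁻¹) ^ p ^ j = 1 := congrArg Subtype.val hj
  rw [conj_pow] at h2
  exact conj_eq_one_iff.1 h2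

theorem pel_of_uni {A : Set (D.I → ℤ)} (hA : D.Uni A) {u : Y} (hu : u ∈ D.S A) : ∃ j : ℕ, u ^ p ^ j = 1 := by
  obtain ⟨lam, hl⟩ := hA.pos
  exact pel_of_pos hA.root lam hl hu

theorem eq_one_of_T_pel {t : Y} (ht : t ∈ D.T) {j : ℕ} (h : t ^ p ^ j = 1) : t = 1 := by
  obtain ⟨c, rfl⟩ := (D.mem_T t).1 ht
  rw [← map_pow, ← map_one D.τ] at h
  have h1 := D.τ_inj h
  rw [show c = 1 from ?_, map_one]
  funext i
  have h2 : ((c i : kˣ) : k) ^ p ^ j = 1 := by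
    have := congrArg (fun d => ((d i : kˣ) : k)) h1
    simpa using this
  apply Units.ext
  have h3 : (((c i : kˣ) : k) - 1) ^ p ^ j = 0 := by rw [sub_pow_char_pow, h2, one_pow, sub_self]
  exact sub_eq_zero.1 (pow_eq_zero_iff (pow_ne_zero _ (Fact.out : p.Prime).ne_zero) |>.1 h3)

theorem x_pow_p {a : D.I → ℤ} (ha : D.Rt a) (s : k) : D.x a s ^ p = 1 := by
  have h : ∀ n : ℕ, D.x a s ^ n = D.x a (n * s) := fun n => by
    induction n with
    | zero => rw [pow_zero, Nat.cast_zero, zero_mul, D.x_zero ha]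
    | succ n ih => rw [pow_succ, ih, ← D.x_add a ha, Nat.cast_succ, add_mul, one_mul]
  rw [h, CharP.cast_eq_zero, zero_mul, D.x_zero ha]

theorem x_comm {a : D.I → ℤ} (ha : D.Rt a) {u v : Y} (hu : u ∈ D.X a) (hv : v ∈ D.X a) : u * v = v * u := by
  obtain ⟨s, rfl⟩ := (D.mem_X a ha _).1 hu
  obtain ⟨t, rfl⟩ := (D.mem_X a ha _).1 hv
  rw [← D.x_add a ha, ← D.x_add a ha, add_comm]

/-- `y` commutes with `D.S A` if it commutes with the root groups -/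
theorem comm_S {A : Set (D.I → ℤ)} {y : Y} (h : ∀ a ∈ A, ∀ u ∈ D.X a, y * u = u * y) {u : Y} (hu : u ∈ D.S A) :
    y * u = u * y :=
  ((RGD.Sup_le fun a ha u hu => Subgroup.mem_centralizer_singleton_iff.2 (h a ha u hu).symm :
    D.S A ≤ Subgroup.centralizer {y}) hu) y rfl

theorem comm_S_S {A B : Set (D.I → ℤ)} (h : ∀ a ∈ A, ∀ b ∈ B, ∀ u ∈ D.X a, ∀ v ∈ D.X b, u * v = v * u) {u v : Y}
    (hu : u ∈ D.S A) (hv : v ∈ D.S B) : u * v = v * u :=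
  comm_S (fun b hb v hv => (comm_S (fun a ha u hu => (h a ha b hb u hu v hv).symm) hu).symm) hv

/-- conjugation preserves `D.S B` if it maps the root groups into it -/
theorem conj_S {B : Set (D.I → ℤ)} {H : Subgroup Y} {y : Y} (h : ∀ b ∈ B, ∀ v ∈ D.X b, y * v * y⁻¹ ∈ H) {v : Y}
    (hv : v ∈ D.S B) : y * v * y⁻¹ ∈ H :=
  (RGD.Sup_le fun b hb v hv => h b hb v hv : D.S B ≤ H.comap (MulAut.conj y).toMonoidHom) hv

theorem conj_S_S {A B : Set (D.I → ℤ)} (hA : ∀ a ∈ A, D.Rt a)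
    (h : ∀ a ∈ A, ∀ b ∈ B, ∀ u ∈ D.X a, ∀ v ∈ D.X b, u * v * u⁻¹ ∈ D.S B) {u : Y} (hu : u ∈ D.S A) :
    ∀ v ∈ D.S B, u * v * u⁻¹ ∈ D.S B := by
  refine S_ind hA (P := fun u => ∀ v ∈ D.S B, u * v * u⁻¹ ∈ D.S B) (fun v hv => by simpa using hv)
    (fun a ha s v hv => conj_S (fun b hb => h a ha b hb _ (D.x_mem (hA a ha) s)) hv) (fun y _ y' _ h1 h2 v hv => ?_) hu
  have := h1 _ (h2 v hv)
  convert this using 1
  group

variable (D) in
/-- commutator relations with supports `C a b` -/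
def CRel (C : (D.I → ℤ) → (D.I → ℤ) → Set (D.I → ℤ)) : Prop :=
  ∀ a b, D.Rt a → D.Rt b → a ≠ b → a ≠ -b →
    (∀ c ∈ C a b, Btwn D.cs D.h a b c) ∧ ∀ u ∈ D.X a, ∀ v ∈ D.X b, ⁅u, v⁆ ∈ D.S (C a b)

variable {C : (D.I → ℤ) → (D.I → ℤ) → Set (D.I → ℤ)}

theorem ne_neg_of_pos {V : Type*} [AddCommGroup V] {lam : V →+ ℤ} {a b : V} (ha : 0 < lam a) (hb : 0 < lam b) :
    a ≠ -b := fun h => by
  rw [h, map_neg] at ha
  omega

theorem CRel.conj (hC : CRel D C) {r : D.I → ℤ} {A : Set (D.I → ℤ)} (hr : D.Rt r) (hA : ∀ a ∈ A, D.Rt a ∧ r ≠ -a)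
    (h : ∀ a ∈ A, r ≠ a → C r a ⊆ A) {u v : Y} (hu : u ∈ D.X r) (hv : v ∈ D.S A) : u * v * u⁻¹ ∈ D.S A := by
  refine conj_S (fun a ha v hv => ?_) hv
  by_cases e : r = a
  · subst e
    rw [x_comm hr hu hv, mul_inv_cancel_right]
    exact RGD.le_Sup (X := D.X) ha hv
  · have h1 := RGD.Sup_mono (h a ha e) ((hC r a hr (hA a ha).1 e (hA a ha).2).2 u hu v hv)
    have h2 := mul_mem h1 (RGD.le_Sup (X := D.X) ha hv)
    rwa [commutatorElement_def, inv_mul_cancel_right] at h2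

theorem exists_split {r : D.I → ℤ} {A : Set (D.I → ℤ)} (hr : D.Rt r) (hA : ∀ a ∈ A, D.Rt a)
    (h : ∀ u ∈ D.X r, ∀ v ∈ D.S (A \ {r}), u * v * u⁻¹ ∈ D.S (A \ {r})) {y : Y} (hy : y ∈ D.S A) :
    ∃ t, (r ∉ A → t = 0) ∧ (D.x r t)⁻¹ * y ∈ D.S (A \ {r}) := by
  refine S_ind hA (P := fun y => ∃ t, (r ∉ A → t = 0) ∧ (D.x r t)⁻¹ * y ∈ D.S (A \ {r}))
    ⟨0, fun _ => rfl, by rw [D.x_zero hr, inv_one, one_mul]; exact one_mem _⟩ (fun a ha s => ?_) ?_ hy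
  · by_cases e : a = r
    · subst e
      exact ⟨s, fun h => absurd ha h, by rw [inv_mul_cancel]; exact one_mem _⟩
    · exact ⟨0, fun _ => rfl, by rw [D.x_zero hr, inv_one, one_mul]; exact x_mem_S (A := A \ {r}) ⟨ha, e⟩ (hA a ha) s⟩
  · rintro y - y' - ⟨t, ht0, ht⟩ ⟨t', ht0', ht'⟩
    refine ⟨t + t', fun h => by rw [ht0 h, ht0' h, add_zero], ?_⟩
    have := mul_mem (h _ (inv_mem (D.x_mem hr t')) _ ht) ht'
    rw [D.x_add r hr]
    convert this using 1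
    group

theorem exists_lp_cr (hC : CRel D C) (lam : (D.I → ℤ) →+ ℤ) : ∀ {L : List (D.I → ℤ)}, Conv L →
    (∀ a ∈ L, D.Rt a ∧ 0 < lam a) → ∀ {A : Set (D.I → ℤ)}, (∀ a ∈ A, ∀ b ∈ A, a ≠ b → C a b ⊆ A) → (∀ a ∈ A, a ∈ L) →
      ∀ {u : Y}, u ∈ D.S A → ∃ c : (D.I → ℤ) → k, (∀ a, a ∉ A → c a = 0) ∧ u = D.lp L c
  | [], _, _, A, _, hA, u, hu => by
    have : A = ∅ := Set.eq_empty_of_forall_notMem fun a ha => by simpa using hA a ha
    rw [this, Datum.S, Nodes.OppDec.Sup_empty, Subgroup.mem_bot] at hu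
    exact ⟨0, fun _ _ => rfl, hu⟩
  | r :: L, ⟨⟨f, hf0, hf⟩, hL⟩, hr, A, hcl, hA, u, hu => by
    classical
    have hr0 := hr r List.mem_cons_self
    have hr' : ∀ a ∈ L, D.Rt a ∧ 0 < lam a := fun a ha => hr a (List.mem_cons_of_mem _ ha)
    have hrL : r ∉ L := fun h => (hf r h).ne' hf0
    have hA' : ∀ a ∈ A \ {r}, a ∈ L := fun a ha => (List.mem_cons.1 (hA a ha.1)).resolve_left ha.2
    have key : ∀ a ∈ A, ∀ b ∈ A \ {r}, a ≠ b → C a b ⊆ A \ {r} := fun a ha b hb hab c hc => by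
      refine ⟨hcl a ha b hb.1 hab hc, fun e => ?_⟩
      have h1 := hr a (hA a ha)
      have h2 := hr b (hA b hb.1)
      have h3 := ((hC a b h1.1 h2.1 hab (ne_neg_of_pos h1.2 h2.2)).1 c hc).symm
      have h4 : 0 ≤ f a := by
        rcases List.mem_cons.1 (hA a ha) with rfl | h
        · exact hf0.ge
        · exact (hf a h).le
      have h5 := btwn_pos' h3 f (hf b (hA' b hb)) h4
      rw [Set.mem_singleton_iff.1 e, hf0] at h5
      exact lt_irrefl _ h5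
    obtain ⟨t, ht0, ht⟩ : ∃ t, (r ∉ A → t = 0) ∧ (D.x r t)⁻¹ * u ∈ D.S (A \ {r}) := by
      by_cases hrA : r ∈ A
      · exact exists_split hr0.1 (fun a ha => (hr a (hA a ha)).1) (fun u hu v hv => hC.conj hr0.1
          (fun a ha => ⟨(hr' a (hA' a ha)).1, ne_neg_of_pos hr0.2 (hr' a (hA' a ha)).2⟩) (key r hrA) hu hv) hu
      · refine ⟨0, fun _ => rfl, ?_⟩
        rwa [D.x_zero hr0.1, inv_one, one_mul, Set.sdiff_singleton_eq_self hrA]
    obtain ⟨c, hc0, hc⟩ := exists_lp_cr hC lam hL hr' (fun a ha => key a ha.1) hA' ht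
    refine ⟨Function.update c r t, fun x hx => ?_, ?_⟩
    · by_cases e : x = r
      · rw [e, Function.update_self, ht0 (e ▸ hx)]
      · rw [Function.update_of_ne e]
        exact hc0 x fun h => hx h.1
    · rw [Datum.lp_cons, Function.update_self, ← D.lp_congr (c := c)
        fun x hx => (Function.update_of_ne (fun h : x = r => hrL (h ▸ hx)) _ _).symm, ← hc, mul_inv_cancel_left]

variable (D) in
/-- the coordinates at the roots of `B` -/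
structure Crd (A B : Set (D.I → ℤ)) (κ : (D.I → ℤ) → Y → k) : Prop where
  root : ∀ a ∈ A, D.Rt a
  sub : B ⊆ A
  mul : ∀ b ∈ B, ∀ y ∈ D.S A, ∀ y' ∈ D.S A, κ b (y * y') = κ b y + κ b y'
  self : ∀ b ∈ B, ∀ s, κ b (D.x b s) = s
  ne : ∀ b ∈ B, ∀ a ∈ A, a ≠ b → ∀ s, κ b (D.x a s) = 0
  ker : ∀ y ∈ D.S A, (∀ b ∈ B, κ b y = 0) → y ∈ D.S (A \ B)

theorem exists_crd (hC : CRel D C) {A B : Set (D.I → ℤ)} (hA : ∀ a ∈ A, D.Rt a) (lam : (D.I → ℤ) →+ ℤ)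
    (hl : ∀ a ∈ A, 0 < lam a) (hB : B ⊆ A) (h : ∀ a ∈ A, ∀ a' ∈ A, a ≠ a' → C a a' ⊆ A \ B) : ∃ κ, Crd D A B κ := by
  classical
  obtain ⟨L, hL, hLA⟩ := exists_conv hA lam hl
  have hL' : ∀ a ∈ L, D.Rt a ∧ 0 < lam a := fun a ha => ⟨hA a ((hLA a).1 ha), hl a ((hLA a).1 ha)⟩
  have hcl : ∀ b ∈ B, ∀ a ∈ A, ∀ a' ∈ A, a ≠ a' → C a a' ⊆ A \ {b} := fun b hb a ha a' ha' hne c hc =>
    ⟨(h a ha a' ha' hne hc).1, fun e => (h a ha a' ha' hne hc).2 (e ▸ hb)⟩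
  have hz : ∀ b ∈ B, ∀ c, D.lp L c ∈ D.S (A \ {b}) → c b = 0 := fun b hb c hc => by
    obtain ⟨c', h0, e⟩ := exists_lp_cr hC lam hL hL' (fun a ha a' ha' => hcl b hb a ha.1 a' ha'.1)
      (fun a ha => (hLA a).2 ha.1) hc
    rw [D.lp_inj lam hL hL' e b ((hLA b).2 (hB hb))]
    exact h0 b fun h => h.2 rfl
  have hn : ∀ b ∈ B, ∀ u ∈ D.X b, ∀ v ∈ D.S (A \ {b}), u * v * u⁻¹ ∈ D.S (A \ {b}) := fun b hb u hu v hv =>
    hC.conj (hA b (hB hb)) (fun a ha => ⟨hA a ha.1, ne_neg_of_pos (hl b (hB hb)) (hl a ha.1)⟩)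
      (fun a ha => hcl b hb b (hB hb) a ha.1) hu hv
  have hx : ∀ b ∈ B, ∀ t, D.x b t ∈ D.S (A \ {b}) → t = 0 := fun b hb t ht => by
    have hb1 : D.Cl {b} := ⟨fun a ha => hA a (ha ▸ hB hb), by
      rintro x rfl y rfl z ⟨hz, m, i, j, hm, hi, hj, e⟩
      exact eq_of_cross hz (hA _ (hB hb)) hm (add_pos hi hj) (by rw [e, add_smul])⟩
    obtain ⟨c, h0, e⟩ := D.exists_lp lam hL hL' hb1
      (fun a ha => (hLA a).2 (ha ▸ hB hb)) (x_mem_S (A := {b}) rfl (hA b (hB hb)) t)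
    have h1 := hz b hb c (e ▸ ht)
    have h2 : D.lp L c = 1 := by
      have : D.lp L c ∈ (⊥ : Subgroup Y) := D.lp_mem (fun a ha => (hL' a ha).1) fun a _ h3 =>
        absurd (by by_cases h4 : a = b; exacts [h4 ▸ h1, h0 a h4]) h3
      exact this
    exact (D.x_eq_one_iff (hA b (hB hb))).1 (e.trans h2)
  have huniq : ∀ b ∈ B, ∀ y t t', (D.x b t)⁻¹ * y ∈ D.S (A \ {b}) → (D.x b t')⁻¹ * y ∈ D.S (A \ {b}) → t = t' :=
    fun b hb y t t' h1 h2 => by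
      have h3 := mul_mem h1 (inv_mem h2)
      rw [show (D.x b t)⁻¹ * y * ((D.x b t')⁻¹ * y)⁻¹ = (D.x b t)⁻¹ * D.x b t' by group,
        ← D.x_neg (hA b (hB hb)), ← D.x_add b (hA b (hB hb))] at h3
      linear_combination -(hx b hb _ h3)
  let κ : (D.I → ℤ) → Y → k := fun b y => if h : ∃ t, (D.x b t)⁻¹ * y ∈ D.S (A \ {b}) then h.choose else 0
  have hκ : ∀ b ∈ B, ∀ y ∈ D.S A, (D.x b (κ b y))⁻¹ * y ∈ D.S (A \ {b}) := fun b hb y hy => by
    obtain ⟨t, -, ht⟩ := exists_split (hA b (hB hb)) hA (hn b hb) hy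
    have h1 : ∃ t, (D.x b t)⁻¹ * y ∈ D.S (A \ {b}) := ⟨t, ht⟩
    simp only [κ, dif_pos h1]
    exact h1.choose_spec
  refine ⟨κ, hA, hB, fun b hb y hy y' hy' => huniq b hb _ _ _ (hκ b hb _ (mul_mem hy hy')) ?_,
    fun b hb s => huniq b hb _ _ _ (hκ b hb _ (x_mem_S (hB hb) (hA b (hB hb)) s)) ?_,
    fun b hb a ha hne s => huniq b hb _ _ _ (hκ b hb _ (x_mem_S ha (hA a ha) s)) ?_, fun y hy h0 => ?_⟩
  · have := mul_mem (hn b hb _ (inv_mem (D.x_mem (hA b (hB hb)) (κ b y'))) _ (hκ b hb y hy)) (hκ b hb y' hy')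
    rw [D.x_add b (hA b (hB hb))]
    convert this using 1
    group
  · rw [inv_mul_cancel]; exact one_mem _
  · rw [D.x_zero (hA b (hB hb)), inv_one, one_mul]
    exact x_mem_S (A := A \ {b}) ⟨ha, hne⟩ (hA a ha) s
  · obtain ⟨c, hc0, rfl⟩ := exists_lp_cr hC lam hL hL' (fun a ha a' ha' hne c hc => (h a ha a' ha' hne hc).1)
      (fun a ha => (hLA a).2 ha) hy
    refine D.lp_mem_S (fun a ha => (hL' a ha).1) fun a ha h1 => ⟨(hLA a).1 ha, fun hb => h1 (hz a hb c ?_)⟩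
    have h2 := hκ a hb _ hy
    rwa [h0 a hb, D.x_zero (hL' a ha).1, inv_one, one_mul] at h2

theorem exists_crd_uni (hC : CRel D C) {A B : Set (D.I → ℤ)} (hA : D.Uni A) (hB : B ⊆ A)
    (h : ∀ a ∈ A, ∀ a' ∈ A, a ≠ a' → ∀ b ∈ B, b ∉ C a a') : ∃ κ, Crd D A B κ := by
  obtain ⟨lam, hl⟩ := hA.pos
  exact exists_crd hC hA.root lam hl hB fun a ha a' ha' hne c hc =>
    ⟨hA.cl.btw a ha a' ha' c ((hC a a' (hA.root a ha) (hA.root a' ha') hne
      (ne_neg_of_pos (hl a ha) (hl a' ha'))).1 c hc), fun e => h a ha a' ha' hne c e hc⟩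

theorem crel_btwn : CRel D fun a b => {c | Btwn D.cs D.h a b c} := fun _ _ ha hb h1 h2 =>
  ⟨fun _ hc => hc, fun _ hu _ hv => D.comm ha hb h1 h2 hu hv⟩

namespace Crd

variable {A B : Set (D.I → ℤ)} {κ : (D.I → ℤ) → Y → k} (H : Crd D A B κ)
include H

theorem one {b : D.I → ℤ} (hb : b ∈ B) : κ b 1 = 0 := by
  have := H.mul b hb 1 (one_mem _) 1 (one_mem _)
  rw [mul_one] at this
  linear_combination -this

theorem inv {b : D.I → ℤ} (hb : b ∈ B) {y : Y} (hy : y ∈ D.S A) : κ b y⁻¹ = -κ b y := by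
  have := H.mul b hb y hy y⁻¹ (inv_mem hy)
  rw [mul_inv_cancel, H.one hb] at this
  linear_combination -this

theorem conj {b : D.I → ℤ} (hb : b ∈ B) {u y : Y} (hu : u ∈ D.S A) (hy : y ∈ D.S A) : κ b (u * y * u⁻¹) = κ b y := by
  rw [H.mul b hb _ (mul_mem hu hy) _ (inv_mem hu), H.mul b hb _ hu _ hy, H.inv hb hu]
  ring

theorem pow {b : D.I → ℤ} (hb : b ∈ B) {y : Y} (hy : y ∈ D.S A) (n : ℕ) : κ b (y ^ n) = n * κ b y := by
  induction n with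
  | zero => rw [pow_zero, H.one hb, Nat.cast_zero, zero_mul]
  | succ n ih => rw [pow_succ, H.mul b hb _ (pow_mem hy n) _ hy, ih, Nat.cast_succ]; ring

theorem zero_of_mem {b : D.I → ℤ} (hb : b ∈ B) {A' : Set (D.I → ℤ)} (hA' : A' ⊆ A) (hb' : b ∉ A') {y : Y}
    (hy : y ∈ D.S A') : κ b y = 0 :=
  S_ind (fun a ha => H.root a (hA' ha)) (P := fun y => κ b y = 0) (H.one hb)
    (fun a ha s => H.ne b hb a (hA' ha) (fun e => hb' (e ▸ ha)) s)
    (fun y hy y' hy' h1 h2 => by rw [H.mul b hb y (RGD.Sup_mono hA' hy) y' (RGD.Sup_mono hA' hy'), h1, h2, add_zero]) hy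

/-- equivariance of the coordinates -/
theorem map (β : MulAut Y) {h : (D.I → ℤ) → (D.I → ℤ)} (hA : ∀ a ∈ A, h a ∈ A)
    (hx : ∀ a ∈ A, ∀ s, β (D.x a s) ∈ D.X (h a)) {b : D.I → ℤ} (hb : b ∈ B) (hb' : h b ∈ B)
    (hi : ∀ a ∈ A, h a = h b → a = b) {d : k} {j : ℕ} (hd : ∀ s, β (D.x b s) = D.x (h b) (d * s ^ p ^ j)) {y : Y}
    (hy : y ∈ D.S A) : κ (h b) (β y) = d * κ b y ^ p ^ j := by
  have hp : p ^ j ≠ 0 := pow_ne_zero _ (Fact.out : p.Prime).ne_zero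
  have hm : ∀ y ∈ D.S A, β y ∈ D.S A := fun y hy =>
    S_ind H.root (P := fun y => β y ∈ D.S A) (by rw [map_one]; exact one_mem _)
      (fun a ha s => RGD.le_Sup (X := D.X) (hA a ha) (hx a ha s))
      (fun y _ y' _ h1 h2 => by rw [map_mul]; exact mul_mem h1 h2) hy
  refine S_ind H.root (P := fun y => κ (h b) (β y) = d * κ b y ^ p ^ j) ?_ (fun a ha s => ?_)
    (fun y hy y' hy' h1 h2 => ?_) hy
  · rw [map_one, H.one hb', H.one hb, zero_pow hp, mul_zero]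
  · by_cases e : a = b
    · rw [e, hd, H.self _ hb', H.self _ hb]
    · obtain ⟨t, ht⟩ := (D.mem_X _ (H.root _ (hA a ha)) _).1 (hx a ha s)
      rw [← ht, H.ne _ hb' _ (hA a ha) (fun e' => e (hi a ha e')), H.ne _ hb a ha e, zero_pow hp, mul_zero]
  · rw [map_mul, H.mul _ hb' _ (hm y hy) _ (hm y' hy'), h1, h2, H.mul _ hb _ hy _ hy', add_pow_char_pow, mul_add]

theorem tor {b : D.I → ℤ} (hb : b ∈ B) {t y : Y} (ht : t ∈ D.T) (hy : y ∈ D.S A) :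
    κ b (t * y * t⁻¹) = D.χ b t * κ b y := by
  have := H.map (MulAut.conj t) (h := id) (fun _ ha => ha) (fun a ha s => by
    rw [MulAut.conj_apply, D.tor' (H.root a ha) ht]; exact D.x_mem (H.root a ha) _) hb hb (fun _ _ e => e)
    (d := D.χ b t) (j := 0) (fun s => by rw [MulAut.conj_apply, D.tor' (H.root b (H.sub hb)) ht, pow_zero, pow_one]; rfl) hy
  rwa [pow_zero, pow_one] at this

theorem exists_val (t : (D.I → ℤ) → k) : ∃ y ∈ D.S A, ∀ b ∈ B, κ b y = t b := by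
  have hf : B.Finite := D.finite_roots.subset fun b hb => H.root b (H.sub hb)
  suffices h : ∀ B' : Set (D.I → ℤ), B'.Finite → B' ⊆ B → ∃ y ∈ D.S A, ∀ b ∈ B', κ b y = t b from h B hf subset_rfl
  intro B' hB'
  induction B', hB' using Set.Finite.induction_on with
  | empty => exact fun _ => ⟨1, one_mem _, fun _ h => h.elim⟩
  | @insert a B' ha _ ih =>
    intro hs
    obtain ⟨y, hy, h1⟩ := ih ((Set.subset_insert _ _).trans hs)
    have haB := hs (Set.mem_insert _ _)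
    have hx := x_mem_S (H.sub haB) (H.root a (H.sub haB)) (t a - κ a y)
    refine ⟨_, mul_mem hy hx, ?_⟩
    rintro b (rfl | hb)
    · rw [H.mul b haB _ hy _ hx, H.self b haB]; ring
    · have hbB := hs (Set.mem_insert_of_mem _ hb)
      rw [H.mul b hbB _ hy _ hx, H.ne b hbB a (H.sub haB) (fun e => ha (e ▸ hb)), h1 b hb, add_zero]

end Crd

open Classical in
variable (D) in
/-- the constants of `F` -/
noncomputable def cF (a : D.I → ℤ) : k := if h : D.Rt a then (D.F_x a h).choose else 1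

theorem cF_ne (a : D.I → ℤ) : cF D a ≠ 0 := by
  unfold cF
  split_ifs with h
  · exact (D.F_x a h).choose_spec.1
  · exact one_ne_zero

theorem F_x {a : D.I → ℤ} (ha : D.Rt a) (u : k) : F (D.x a u) = D.x (D.g a) (cF D a * u ^ p ^ D.ex a) := by
  unfold cF
  rw [dif_pos ha]
  exact (D.F_x a ha).choose_spec.2 u

variable [IsAlgClosed k]

theorem Crd.mapF {A B : Set (D.I → ℤ)} {κ : (D.I → ℤ) → Y → k} (H : Crd D A B κ) (hA : ∀ a ∈ A, D.g a ∈ A)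
    {b : D.I → ℤ} (hb : b ∈ B) (hb' : D.g b ∈ B) {y : Y} (hy : y ∈ D.S A) :
    κ (D.g b) (F y) = cF D b * κ b y ^ p ^ D.ex b :=
  H.map F hA (fun a ha s => D.F_mem_X (H.root a ha) (D.x_mem (H.root a ha) s)) hb hb'
    (fun a ha e => D.g_inj (H.root a ha) (H.root b (H.sub hb)) e) (F_x (H.root b (H.sub hb))) hy

/-- fixed elements with prescribed coordinates -/
theorem Crd.exists_fix {A B : Set (D.I → ℤ)} {κ : (D.I → ℤ) → Y → k} (H : Crd D A B κ) (hA : ∀ a ∈ A, D.g a ∈ A)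
    (hB : ∀ b ∈ B, D.g b ∈ B) {t : (D.I → ℤ) → k} (ht : ∀ b ∈ B, t (D.g b) = cF D b * t b ^ p ^ D.ex b) :
    ∃ y ∈ D.S A, F y = y ∧ ∀ b ∈ B, κ b y = t b := by
  obtain ⟨y, hy, h1⟩ := H.exists_val t
  have hFy : F y ∈ D.S A := D.F_mem_S H.root hA hy
  have hb := D.g_bijOn (fun b hb => H.root b (H.sub hb)) hB
  have h2 : y⁻¹ * F y ∈ D.S (A \ B) := H.ker _ (mul_mem (inv_mem hy) hFy) fun b hb' => by
    obtain ⟨a, ha, rfl⟩ := hb.surjOn hb'
    rw [H.mul _ hb' _ (inv_mem hy) _ hFy, H.inv hb' hy, H.mapF hA ha hb' hy, h1 _ hb', h1 a ha, ht a ha]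
    ring
  obtain ⟨z, hz, e⟩ := D.lang_S (A := A \ B) (fun a ha => H.root a ha.1) (fun a ha => ⟨hA a ha.1, fun h => by
    obtain ⟨b, hb', e⟩ := hb.surjOn h
    exact ha.2 (D.g_inj (H.root b (H.sub hb')) (H.root a ha.1) e ▸ hb')⟩) h2
  have hz' : z ∈ D.S A := RGD.Sup_mono Set.sdiff_subset hz
  refine ⟨y * z⁻¹, mul_mem hy (inv_mem hz'), ?_, fun b hb' => ?_⟩
  · rw [map_mul, map_inv, ← mul_inv_cancel_left y (F y), e]
    group
  · rw [H.mul b hb' _ hy _ (inv_mem hz'), H.zero_of_mem hb' Set.sdiff_subset (fun h => h.2 hb') (inv_mem hz), add_zero,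
      h1 b hb']

end Cfsg.Agent.SB.Exc.Max
end

-- part: SB/Exc/Max/Root
section
/-!
# S5765, `BoxMax`: root combinatorics (helper50)

* `el`, signs of `cpr`, dominant roots, `Nb` (the neighbours of a root inside a set), `Shp` (types `A₁`, `A₂`), `Iso`
  (type `A₁`), `sq_eq_one_of_shp`;
* `exists_orbit`, `exists_full` : fixed vectors of `t (g a) = c a * t a ^ q`;
* data with a constant exponent: `g_add`, `cpr_g`, `ht_g`.
-/

set_option autoImplicit false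
set_option linter.unusedSectionVars false

namespace Cfsg.Agent.SB.Exc.Max

open CoxeterSystem Cfsg.Agent.ChevalleyStructure.CoxeterGeom Cfsg.Agent.Tits.Roots Cfsg.Agent.Nodes.Reps
  Cfsg.Agent.Nodes.BNOf Cfsg.Agent.Nodes.Bruhat Cfsg.Agent.LangThm Cfsg.Agent.Nodes.SubComb
  Cfsg.Agent.Nodes.Coroot Cfsg.Agent.Nodes.Slope Cfsg.Agent.Nodes.NormalForm Cfsg.Agent.DL.Base Cfsg.Agent.DL
open scoped Pointwise commutatorElement

section Roots

variable {I W : Type} [Fintype I] [DecidableEq I] [Group W] [Finite W] {M : CoxeterMatrix I}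
  (cs : CoxeterSystem M W) {A : I → I → ℤ} (h : IsCartan M A)

theorem cpr_add' (x x' y : I → ℤ) : cpr cs h (x + x') y = cpr cs h x y + cpr cs h x' y := by
  by_cases hy : IsRoot cs h y
  · exact cpr_add cs h x x' hy
  · simp only [cpr, dif_neg hy, add_zero]

/-- the coroot as a functional -/
noncomputable def el (y : I → ℤ) : (I → ℤ) →+ ℤ := AddMonoidHom.mk' (fun x => cpr cs h x y) fun x x' => cpr_add' cs h x x' y

theorem el_apply (x y : I → ℤ) : el cs h y x = cpr cs h x y := rfl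

theorem cpr_sub (x x' y : I → ℤ) : cpr cs h (x - x') y = cpr cs h x y - cpr cs h x' y := map_sub (el cs h y) x x'

theorem cpr_neg' (x y : I → ℤ) : cpr cs h (-x) y = -cpr cs h x y := map_neg (el cs h y) x

theorem cpr_smul' (m : ℤ) (x y : I → ℤ) : cpr cs h (m • x) y = m * cpr cs h x y := map_zsmul (el cs h y) m x

variable {cs h} {a b c r θ θ' : I → ℤ}

theorem cpr_pos_comm (ha : IsRoot cs h a) (hb : IsRoot cs h b) : 0 < cpr cs h a b ↔ 0 < cpr cs h b a := by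
  have := Fintype.ofFinite W
  rw [cpr_pos_iff _ _ _ ha, form_comm, cpr_pos_iff _ _ _ hb]

theorem cpr_nonneg_comm (ha : IsRoot cs h a) (hb : IsRoot cs h b) : 0 ≤ cpr cs h a b ↔ 0 ≤ cpr cs h b a := by
  rw [le_iff_lt_or_eq, le_iff_lt_or_eq, cpr_pos_comm ha hb, eq_comm, cpr_zero_comm cs h ha hb, eq_comm]

theorem cpr_nonneg_iff [Fintype W] (x : I → ℤ) (hb : IsRoot cs h b) : 0 ≤ cpr cs h x b ↔ 0 ≤ form cs h x b := by
  rw [le_iff_lt_or_eq, le_iff_lt_or_eq, cpr_pos_iff _ _ _ hb, eq_comm, cpr_zero_iff cs h x hb, eq_comm]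

theorem cpr_le_three (ha : IsRoot cs h a) (hb : IsRoot cs h b) : cpr cs h a b ≤ 3 := by
  by_cases h1 : a = b
  · rw [h1, cpr_self cs h hb]; omega
  by_cases h2 : a = -b
  · rw [h2, cpr_neg', cpr_self cs h hb]; omega
  have h3 := cpr_mul_lt ha hb h1 h2
  by_contra h4
  have h5 : 0 < cpr cs h b a := (cpr_pos_comm ha hb).1 (by omega)
  nlinarith

theorem dom_cpr (hθ : Dom A θ) (hr : IsRoot cs h θ) (ha : 0 ≤ a) : 0 ≤ cpr cs h a θ := by
  have := Fintype.ofFinite W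
  rw [cpr_nonneg_iff _ hr, form_comm]
  exact form_nonneg_of_dom cs h hθ ha

theorem dom_cpr' (hθ : Dom A θ) (hr : IsRoot cs h a) (ha : 0 ≤ a) : 0 ≤ cpr cs h θ a := by
  have := Fintype.ofFinite W
  rw [cpr_nonneg_iff _ hr]
  exact form_nonneg_of_dom cs h hθ ha

theorem nonneg_of_cpr_pos (hθ : Dom A θ) (hr : IsRoot cs h θ) (ha : IsRoot cs h a) (h0 : 0 < cpr cs h a θ) : 0 ≤ a := by
  by_contra h1
  have := dom_cpr hθ hr (ha.not_nonneg_iff_neg.1 h1)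
  rw [cpr_neg'] at this
  omega

theorem dom_nonneg (hθ : Dom A θ) (hr : IsRoot cs h θ) : 0 ≤ θ :=
  nonneg_of_cpr_pos hθ hr hr (by rw [cpr_self cs h hr]; omega)

variable (cs h) in
theorem rep_le_of_dom {x : I → ℤ} (hx : Dom A x) : ∀ w : W, rep cs h w x ≤ x := by
  intro w
  induction hn : cs.length w using Nat.strong_induction_on generalizing w with
  | _ n ih =>
  by_cases hw : w = 1
  · rw [hw, map_one, Module.End.one_apply]
  obtain ⟨i, hi⟩ := cs.exists_rightDescent_of_ne_one hw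
  have hi' : cs.length (w * cs.simple i) < cs.length w := hi
  have h1 := ih _ (by omega) (w * cs.simple i) rfl
  have h2 : w = w * cs.simple i * cs.simple i := by rw [mul_assoc, simple_mul_simple_self, mul_one]
  have h3 : 0 ≤ rep cs h (w * cs.simple i) (sr i) :=
    nonneg_of_lt cs h (w * cs.simple i) i (by rwa [simple_mul_simple_cancel_right])
  have h5 : rep cs h w x = rep cs h (w * cs.simple i) x - pairing A i x • rep cs h (w * cs.simple i) (sr i) := by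
    conv_lhs => rw [h2]
    rw [map_mul, Module.End.mul_apply, rep_simple_eq, map_sub, map_smul]
  rw [h5]
  exact (sub_le_self _ (smul_nonneg (hx i) h3)).trans h1

theorem exists_refl (ha : IsRoot cs h a) : ∃ v : W, ∀ x, rep cs h v x = x - cpr cs h x a • a := by
  obtain ⟨w, i, rfl⟩ := ha
  exact ⟨_, rep_rfl'_eq cs h w i⟩

/-- orthogonal dominant roots lie in different components -/
theorem cpr_rep_zero (hθ : Dom A θ) (hr : IsRoot cs h θ) (hθ' : Dom A θ') (hr' : IsRoot cs h θ')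
    (h0 : cpr cs h θ' θ = 0) (w : W) : cpr cs h (rep cs h w θ') θ = 0 := by
  have key : ∀ w : W, cpr cs h (rep cs h w θ') θ ≤ 0 := fun w => by
    have := dom_cpr hθ hr (sub_nonneg.2 (rep_le_of_dom cs h hθ' w))
    rw [cpr_sub, h0] at this
    omega
  obtain ⟨v, hv⟩ := exists_refl hr'
  have h1 := key (w * v)
  rw [map_mul, Module.End.mul_apply, hv, cpr_self cs h hr', two_smul, show θ' - (θ' + θ') = -θ' by abel, map_neg,
    cpr_neg'] at h1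
  have := key w
  omega

theorem cpr_rep_symm (ha : IsRoot cs h a) (w : W) : cpr cs h a (rep cs h w a) = cpr cs h (rep cs h w a) a := by
  have := Fintype.ofFinite W
  have h1 := two_form_cpr cs h a (ha.act w)
  have h2 := two_form_cpr cs h (rep cs h w a) ha
  rw [form_rep, form_comm, h2] at h1
  exact (mul_right_cancel₀ (form_pos cs h ha.ne_zero).ne' h1).symm

theorem cpr_rep_ge (ha : IsRoot cs h a) {w : W} (hw : rep cs h w a ≠ -a) : -1 ≤ cpr cs h (rep cs h w a) a := by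
  by_cases h1 : rep cs h w a = a
  · rw [h1, cpr_self cs h ha]; omega
  have h2 := cpr_mul_lt (ha.act w) ha h1 hw
  rw [cpr_rep_symm ha] at h2
  nlinarith

theorem ne_two_smul (ha : IsRoot cs h a) (b : I → ℤ) : a ≠ (2 : ℤ) • b := fun e => by
  have := isUnit_of_smul cs h ha 2 e
  rw [Int.isUnit_iff] at this
  omega

variable (cs h) in
/-- the neighbours of `r` in `P` -/
def Nb (P : Set (I → ℤ)) (r : I → ℤ) : Set (I → ℤ) := {c | c ∈ P ∧ c ≠ r ∧ 0 < cpr cs h c r}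

variable (cs h) in
/-- types `A₁`, `A₂` -/
structure Shp (P : Set (I → ℤ)) : Prop where
  one : ∀ r ∈ P, ∀ c ∈ Nb cs h P r, cpr cs h c r = 1
  two : ∀ r ∈ P, ∀ c₁ ∈ Nb cs h P r, ∀ c₂ ∈ Nb cs h P r, ∀ c₃ ∈ Nb cs h P r, c₁ = c₂ ∨ c₁ = c₃ ∨ c₂ = c₃

variable (cs h) in
/-- type `A₁` -/
def Iso (P : Set (I → ℤ)) : Prop := ∀ r ∈ P, Nb cs h P r = ∅

theorem Iso.orth {P : Set (I → ℤ)} (H : Iso cs h P) (hn : ∀ a ∈ P, -a ∈ P) (ha : a ∈ P) (hb : b ∈ P) :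
    b = a ∨ b = -a ∨ cpr cs h b a = 0 := by
  by_contra h1
  push Not at h1
  rcases lt_or_gt_of_ne h1.2.2 with h2 | h2
  · have : -b ∈ Nb cs h P a := ⟨hn b hb, fun e => h1.2.1 (by rw [← e, neg_neg]), by rw [cpr_neg']; omega⟩
    rw [H a ha] at this
    exact this
  · have : b ∈ Nb cs h P a := ⟨hb, h1.1, h2⟩
    rw [H a ha] at this
    exact this

theorem Iso.shp {P : Set (I → ℤ)} (H : Iso cs h P) : Shp cs h P :=
  ⟨fun r hr c hc => by rw [H r hr] at hc; exact hc.elim, fun r hr c hc => by rw [H r hr] at hc; exact hc.elim⟩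

theorem exists_sign (ha : IsRoot cs h a) (h0 : cpr cs h a b ≠ 0) :
    ∃ a', IsRoot cs h a' ∧ (a' = a ∨ a' = -a) ∧ 0 < cpr cs h a' b := by
  rcases lt_or_gt_of_ne h0 with h2 | h2
  · exact ⟨-a, ha.neg, Or.inr rfl, by rw [cpr_neg']; omega⟩
  · exact ⟨a, ha, Or.inl rfl, h2⟩

theorem Shp.trans (H : Shp cs h {a | IsRoot cs h a}) {x y z : I → ℤ} (hx : IsRoot cs h x) (hy : IsRoot cs h y)
    (hz : IsRoot cs h z) (h1 : cpr cs h x y ≠ 0) (h2 : cpr cs h y z ≠ 0) : cpr cs h x z ≠ 0 := by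
  intro h0
  obtain ⟨x', hx', e1, p1⟩ := exists_sign hx h1
  obtain ⟨z', hz', e2, p2⟩ := exists_sign hz (fun e => h2 ((cpr_zero_comm cs h hz hy).1 e))
  have h3 : cpr cs h x' z' = 0 := by
    rcases e1 with rfl | rfl <;> rcases e2 with rfl | rfl <;>
      simp only [cpr_neg', cpr_neg_right cs h _ hz, h0, neg_zero]
  have h4 := (cpr_zero_comm cs h hx' hz').1 h3
  have n1 : x' ≠ y := fun e => by rw [← e] at p2; omega
  have n2 : z' ≠ y := fun e => by rw [← e] at p1; omega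
  have c1 := H.one y hy x' ⟨hx', n1, p1⟩
  have c2 := H.one x' hx' y ⟨hy, n1.symm, (cpr_pos_comm hx' hy).1 p1⟩
  have h5 : IsRoot cs h (y - x') := by
    have := (isRoot_refl cs h hx' hy).neg
    rwa [c1, one_smul, neg_sub] at this
  rcases H.two y hy x' ⟨hx', n1, p1⟩ z' ⟨hz', n2, p2⟩ (y - x') ⟨h5, fun e => hx'.ne_zero (sub_eq_self.1 e), by
    rw [cpr_sub, cpr_self cs h hy, c1]; omega⟩ with e | e | e
  · rw [e, cpr_self cs h hz'] at h3; omega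
  · exact ne_two_smul hy x' (by rw [two_smul]; exact (sub_eq_iff_eq_add.1 e.symm))
  · rw [e, cpr_sub, c2, cpr_self cs h hx'] at h4; omega

theorem Shp.rep_ne (H : Shp cs h {a | IsRoot cs h a}) (w : W) (hr : IsRoot cs h r) : cpr cs h (rep cs h w r) r ≠ 0 := by
  induction w using cs.simple_induction_left with
  | one => rw [map_one, Module.End.one_apply, cpr_self cs h hr]; omega
  | mul_simple_left w i ih =>
    rw [map_mul, Module.End.mul_apply]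
    by_cases h0 : cpr cs h (rep cs h w r) (sr i) = 0
    · rwa [rep_simple_eq, ← cpr_sr cs h, h0, zero_smul, sub_zero]
    · have hs := isRoot_sr cs h i
      refine H.trans ((hr.act w).act _) hs hr ?_
        (H.trans hs (hr.act w) hr (fun e => h0 ((cpr_zero_comm cs h hs (hr.act w)).1 e)) ih)
      rw [rep_simple_eq, ← cpr_sr cs h, cpr_sub, cpr_smul', cpr_self cs h hs]
      omega

theorem Shp.sq_eq_one (H : Shp cs h {a | IsRoot cs h a}) {w : W} (hw : w ^ 4 = 1) : w ^ 2 = 1 := by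
  refine eq_one_of_fix cs h _ fun i => ?_
  have hr := isRoot_sr cs h i
  show rep cs h (w ^ 2) (sr i) = sr i
  generalize sr i = r at hr
  by_contra hne
  have e : ∀ m n : ℕ, ∀ x, rep cs h (w ^ m) (rep cs h (w ^ n) x) = rep cs h (w ^ (m + n)) x := fun m n x => by
    rw [pow_add, map_mul]; rfl
  have e4 : ∀ x, rep cs h (w ^ 4) x = x := fun x => by rw [hw, map_one]; rfl
  have inj : ∀ m : ℕ, Function.Injective (rep cs h (w ^ m)) := fun m x y hxy => by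
    rw [← rep_inv_apply cs h (w ^ m) x, hxy, rep_inv_apply]
  have s1 : ∀ x, rep cs h (w ^ 1) x = x ∨ rep cs h (w ^ 1) x = -x → rep cs h (w ^ 2) x = x := by
    rintro x (h1 | h1)
    · rw [← e 1 1, h1, h1]
    · rw [← e 1 1, h1, map_neg, h1, neg_neg]
  have n2 : ∀ x, IsRoot cs h x → rep cs h (w ^ 2) x ≠ -x := fun x hx h1 => by
    have h2 := cpr_rep cs h (w ^ 1) (rep cs h (w ^ 1) x) hx
    rw [e, h1, cpr_neg', cpr_rep_symm hx] at h2
    exact H.rep_ne (w ^ 1) hx (by omega)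
  have d : ∀ m : ℕ, rep cs h (w ^ 2) (rep cs h (w ^ m) r) ≠ rep cs h (w ^ m) r := fun m h1 =>
    hne (inj m (by rw [e, add_comm, ← e, h1]))
  obtain ⟨c₁, r₁, e₁, p₁⟩ := exists_sign (hr.act (w ^ 1)) (H.rep_ne (w ^ 1) hr)
  obtain ⟨c₂, r₂, e₂, p₂⟩ := exists_sign (hr.act (w ^ 2)) (H.rep_ne (w ^ 2) hr)
  obtain ⟨c₃, r₃, e₃, p₃⟩ := exists_sign (hr.act (w ^ 3)) (H.rep_ne (w ^ 3) hr)
  have pm : ∀ {c c' x x' : I → ℤ}, (c = x ∨ c = -x) → (c' = x' ∨ c' = -x') → c = c' → x' = x ∨ x' = -x := by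
    rintro c c' x x' (rfl | rfl) (rfl | rfl) h1
    · exact Or.inl h1.symm
    · exact Or.inr (by rw [h1, neg_neg])
    · exact Or.inr h1.symm
    · exact Or.inl (neg_inj.1 h1).symm
  have e0 : r = rep cs h (w ^ 0) r := by rw [pow_zero, map_one]; rfl
  rcases H.two r hr c₁ ⟨r₁, fun e' => hne (s1 r (pm (Or.inl rfl) e₁ e'.symm)), p₁⟩
    c₂ ⟨r₂, fun e' => (pm (Or.inl rfl) e₂ e'.symm).elim hne (n2 r hr), p₂⟩
    c₃ ⟨r₃, fun e' => d 3 (s1 _ (by rw [e, e4]; exact pm e₃ (Or.inl rfl) e')), p₃⟩ with h1 | h1 | h1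
  · exact d 1 (s1 _ (by rw [e]; exact pm e₁ e₂ h1))
  · exact (pm e₁ e₃ h1).elim (fun h2 => d 1 (by rwa [e])) fun h2 => n2 _ (hr.act (w ^ 1)) (by rwa [e])
  · exact d 2 (s1 _ (by rw [e]; exact pm e₂ e₃ h1))

theorem Iso.sq_eq_one (H : Iso cs h {a | IsRoot cs h a}) (w : W) : w ^ 2 = 1 := by
  refine eq_one_of_fix cs h _ fun i => ?_
  have hr := isRoot_sr cs h i
  show rep cs h (w ^ 2) (sr i) = sr i
  rw [pow_two, map_mul, Module.End.mul_apply]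
  rcases H.orth (fun _ h => IsRoot.neg h) hr (hr.act w) with h1 | h1 | h1
  · rw [h1, h1]
  · rw [h1, map_neg, h1, neg_neg]
  · exact absurd h1 (H.shp.rep_ne w hr)

end Roots

section Vec

variable {α k : Type*} [Field k]

theorem exists_orbit {g : α → α} {c : α → k} (hc : ∀ a, c a ≠ 0) {q : ℕ} (hq : q ≠ 0) {B : Set α} (hinj : Set.InjOn g B)
    (hB : Set.MapsTo g B B) {b : α} (hbB : b ∈ B) (hb : b ∈ Function.periodicPts g) :
    ∃ C : k, C ≠ 0 ∧ ∀ s, C * s ^ q ^ Function.minimalPeriod g b = s →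
      ∃ t : α → k, (∀ a ∈ B, t (g a) = c a * t a ^ q) ∧ t b = s ∧ ∀ a, t a ≠ 0 → ∃ i, g^[i] b = a := by
  classical
  let C : ℕ → k := fun n => Nat.rec 1 (fun i x => c (g^[i] b) * x ^ q) n
  have C0 : C 0 = 1 := rfl
  have C1 : ∀ i, C (i + 1) = c (g^[i] b) * C i ^ q := fun _ => rfl
  have hC : ∀ i, C i ≠ 0 := fun i => by
    induction i with
    | zero => exact one_ne_zero
    | succ i ih => exact mul_ne_zero (hc _) (pow_ne_zero _ ih)
  set d := Function.minimalPeriod g b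
  have hd : 0 < d := Function.minimalPeriod_pos_of_mem_periodicPts hb
  refine ⟨C d, hC d, fun s hs => ?_⟩
  let sq : ℕ → k := fun i => C i * s ^ q ^ i
  have s1 : ∀ i, sq (i + 1) = c (g^[i] b) * sq i ^ q := fun i => by
    simp only [sq]
    rw [C1, mul_pow, ← pow_mul, pow_succ, mul_assoc]
  have hper : Function.Periodic sq d := fun i => by
    induction i with
    | zero => simp only [sq, zero_add, hs, C0, pow_zero, pow_one, one_mul]
    | succ i ih => rw [add_right_comm, s1, s1, ih, Function.iterate_add_minimalPeriod_eq]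
  have wd : ∀ i j, g^[i] b = g^[j] b → sq i = sq j := fun i j e => by
    rw [← Function.iterate_mod_minimalPeriod_eq (n := i), ← Function.iterate_mod_minimalPeriod_eq (n := j),
      Function.iterate_eq_iterate_iff_of_lt_minimalPeriod (Nat.mod_lt _ hd) (Nat.mod_lt _ hd)] at e
    rw [← hper.map_mod_nat i, ← hper.map_mod_nat j, e]
  let t : α → k := fun a => if h : ∃ i, g^[i] b = a then sq h.choose else 0
  have ht : ∀ i, t (g^[i] b) = sq i := fun i => by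
    have h1 : ∃ j, g^[j] b = g^[i] b := ⟨i, rfl⟩
    simp only [t, dif_pos h1]
    exact wd _ _ h1.choose_spec
  refine ⟨t, fun a ha => ?_, ?_, fun a ha => ?_⟩
  · by_cases h1 : ∃ i, g^[i] b = a
    · obtain ⟨i, rfl⟩ := h1
      rw [← Function.iterate_succ_apply' g, ht, ht, s1]
    · have h2 : ¬ ∃ i, g^[i] b = g a := by
        rintro ⟨i, e⟩
        refine h1 ⟨i + d - 1, hinj (hB.iterate _ hbB) ha ?_⟩
        rw [← Function.iterate_succ_apply' g, show (i + d - 1).succ = i + d by omega,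
          Function.iterate_add_minimalPeriod_eq, e]
      simp only [t, dif_neg h1, dif_neg h2]
      rw [zero_pow hq, mul_zero]
  · have := ht 0
    simpa only [Function.iterate_zero, id, sq, C0, pow_zero, pow_one, one_mul] using this
  · by_contra h1
    exact ha (dif_neg h1)

variable {p : ℕ} [Fact p.Prime] {k : Type} [Field k] [CharP k p] [IsAlgClosed k]

theorem ncard_sol {C : k} (hC : C ≠ 0) {n : ℕ} (hn : 0 < n) : {s : k | C * s ^ p ^ n = s}.ncard = p ^ n := by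
  have h1 : 1 < p ^ n := Nat.one_lt_pow hn.ne' (Fact.out : p.Prime).one_lt
  obtain ⟨s₀, hs⟩ := IsAlgClosed.exists_pow_nat_eq C⁻¹ (show 0 < p ^ n - 1 by omega)
  have h0 : s₀ ≠ 0 := by
    rintro rfl
    rw [zero_pow (by omega)] at hs
    exact inv_ne_zero hC hs.symm
  have h2 : C * s₀ ^ p ^ n = s₀ := by
    rw [show p ^ n = p ^ n - 1 + 1 by omega, pow_succ, hs, ← mul_assoc, mul_inv_cancel₀ hC, one_mul]
  have e : {s : k | C * s ^ p ^ n = s} = (fun z => s₀ * z) '' {z : k | z ^ p ^ n = z} := by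
    ext s
    constructor
    · intro h
      refine ⟨s₀⁻¹ * s, mul_left_cancel₀ h0 ?_, mul_inv_cancel_left₀ h0 s⟩
      rw [mul_inv_cancel_left₀ h0]
      calc s₀ * (s₀⁻¹ * s) ^ p ^ n = C * s₀ ^ p ^ n * (s₀⁻¹ * s) ^ p ^ n := by rw [h2]
        _ = s := by rw [mul_assoc, ← mul_pow, mul_inv_cancel_left₀ h0]; exact h
    · rintro ⟨z, hz, rfl⟩
      show C * (s₀ * z) ^ p ^ n = s₀ * z
      rw [mul_pow, ← mul_assoc, h2, hz]
  rw [e, Set.ncard_image_of_injective _ (mul_right_injective₀ h0), ← Nat.card_coe_set_eq]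
  exact card_pow_eq hn

theorem exists_sol {C : k} (hC : C ≠ 0) {n : ℕ} (hn : 0 < n) {E : Set k} (hE : E.Finite) (h : E.ncard < p ^ n) :
    ∃ s, C * s ^ p ^ n = s ∧ s ∉ E := by
  by_contra h1
  push Not at h1
  have := Set.ncard_le_ncard (s := {s : k | C * s ^ p ^ n = s}) h1 hE
  rw [ncard_sol hC hn] at this
  omega

theorem exists_sol_ne {C : k} (hC : C ≠ 0) {n : ℕ} (hn : 0 < n) : ∃ s, C * s ^ p ^ n = s ∧ s ≠ 0 :=
  exists_sol hC hn (E := {0}) (Set.finite_singleton 0) (by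
    rw [Set.ncard_singleton]; exact Nat.one_lt_pow hn.ne' (Fact.out : p.Prime).one_lt)

theorem exists_full {g : α → α} {c : α → k} (hc : ∀ a, c a ≠ 0) {e : ℕ} (he : 0 < e) {B : Set α} (hf : B.Finite)
    (hinj : Set.InjOn g B) (hB : Set.MapsTo g B B) (hb : ∀ b ∈ B, b ∈ Function.periodicPts g) :
    ∃ t : α → k, (∀ a ∈ B, t (g a) = c a * t a ^ p ^ e) ∧ ∀ b ∈ B, t b ≠ 0 := by
  have hq : p ^ e ≠ 0 := pow_ne_zero _ (Fact.out : p.Prime).ne_zero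
  suffices h : ∀ B' : Set α, B'.Finite → B' ⊆ B →
    ∃ t : α → k, (∀ a ∈ B, t (g a) = c a * t a ^ p ^ e) ∧ ∀ b ∈ B', t b ≠ 0 from h B hf subset_rfl
  intro B' hB'
  induction B', hB' using Set.Finite.induction_on with
  | empty => exact fun _ => ⟨0, fun _ _ => by rw [Pi.zero_apply, Pi.zero_apply, zero_pow hq, mul_zero], fun _ h => h.elim⟩
  | @insert b B' _ _ ih =>
    intro hs
    obtain ⟨t, ht, h1⟩ := ih ((Set.subset_insert _ _).trans hs)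
    have hbB := hs (Set.mem_insert _ _)
    by_cases h0 : t b = 0
    · obtain ⟨C, hC, h2⟩ := exists_orbit hc hq hinj hB hbB (hb b hbB)
      obtain ⟨s, hs1, hs0⟩ := exists_sol_ne (p := p) hC
        (Nat.mul_pos he (Function.minimalPeriod_pos_of_mem_periodicPts (hb b hbB)))
      obtain ⟨t', ht', h3, h4⟩ := h2 s (by rwa [← pow_mul])
      have h5 : ∀ i, t (g^[i] b) = 0 := fun i => by
        induction i with
        | zero => exact h0
        | succ i ih => rw [Function.iterate_succ_apply', ht _ (hB.iterate i hbB), ih, zero_pow hq, mul_zero]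
      refine ⟨t + t', fun a ha => by rw [Pi.add_apply, Pi.add_apply, ht a ha, ht' a ha, add_pow_char_pow, mul_add], ?_⟩
      rintro a (rfl | ha)
      · rwa [Pi.add_apply, h0, zero_add, h3]
      · have h6 : t' a = 0 := by
          by_contra h7
          obtain ⟨i, rfl⟩ := h4 a h7
          exact h1 _ ha (h5 i)
        rw [Pi.add_apply, h6, add_zero]
        exact h1 a ha
    · refine ⟨t, ht, ?_⟩
      rintro a (rfl | ha)
      exacts [h0, h1 a ha]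

end Vec

variable {p : ℕ} [Fact p.Prime] {k : Type} [Field k] [CharP k p] {Y : Type} [Group Y] {N : Type} [Fintype N]
  [DecidableEq N] {ρ : Y →* GL N k} {F : MulAut Y} {G : Subgroup Y} [IsAlgClosed k] {D : Datum p ρ F G}

theorem periodic {a : D.I → ℤ} (ha : D.Rt a) : a ∈ Function.periodicPts D.g := by
  obtain ⟨d, e, H⟩ := D.exists_split'
  refine ⟨d, H.d_pos, ?_⟩
  obtain ⟨c, -, hc⟩ := D.F_pow_x d ha
  by_contra h
  have h1 := D.eq_one_of_mem_X_X (D.iterate_g_root d ha) ha h (u := (F ^ d) (D.x a 1))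
    (by rw [hc]; exact D.x_mem (D.iterate_g_root d ha) _) (by rw [H.x a ha]; exact D.x_mem ha _)
  rw [H.x a ha, one_pow, D.x_eq_one_iff ha] at h1
  exact one_ne_zero h1

theorem g_injOn {B : Set (D.I → ℤ)} (hB : ∀ a ∈ B, D.Rt a) : Set.InjOn D.g B := fun a ha b hb =>
  D.g_inj (hB a ha) (hB b hb)

/-- orthogonality is preserved -/
theorem cpr_g_zero {a b : D.I → ℤ} (ha : D.Rt a) (hb : D.Rt b) (h : cpr D.cs D.h a b = 0) :
    cpr D.cs D.h (D.g a) (D.g b) = 0 := by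
  have h1 := D.g_act (D.rf b) ha
  rw [D.Fw_rf hb, D.act_rf hb, D.act_rf (D.g_root b hb), h, zero_smul, sub_zero, eq_comm, sub_eq_self] at h1
  exact (smul_eq_zero.1 h1).resolve_right (D.g_root b hb).ne_zero

section Const

variable {e : ℕ} (hex : ∀ a, D.Rt a → D.ex a = e)
include hex

theorem ψ_g' {a : D.I → ℤ} (ha : D.Rt a) : D.ψ (D.g a) = ((p : ℤ) ^ e) • a := by rw [D.ψ_g ha, hex a ha]

theorem g_lin {a b c : D.I → ℤ} (ha : D.Rt a) (hb : D.Rt b) (hc : D.Rt c) {i j : ℤ} :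
    D.g c = i • D.g a + j • D.g b ↔ c = i • a + j • b := by
  have hq : (p : ℤ) ^ e ≠ 0 := pow_ne_zero _ (Int.natCast_ne_zero.2 (Fact.out : p.Prime).ne_zero)
  rw [← D.ψ_injective.eq_iff, map_add, map_zsmul, map_zsmul, ψ_g' hex ha, ψ_g' hex hb, ψ_g' hex hc, smul_comm i,
    smul_comm j, ← smul_add, (smul_right_injective _ hq).eq_iff]

theorem g_add {a b : D.I → ℤ} (ha : D.Rt a) (hb : D.Rt b) (hc : D.Rt (a + b)) : D.g (a + b) = D.g a + D.g b := by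
  have := (g_lin hex ha hb hc (i := 1) (j := 1)).2 (by rw [one_smul, one_smul])
  rwa [one_smul, one_smul] at this

theorem cpr_g {a b : D.I → ℤ} (ha : D.Rt a) (hb : D.Rt b) : cpr D.cs D.h (D.g a) (D.g b) = cpr D.cs D.h a b := by
  have h1 := D.g_act (D.rf b) ha
  rw [D.Fw_rf hb, D.act_rf hb, D.act_rf (D.g_root b hb)] at h1
  have h2 := (g_lin hex ha hb (isRoot_refl D.cs D.h ha hb) (i := 1) (j := -cpr D.cs D.h a b)).2 (by
    rw [one_smul, neg_smul, sub_eq_add_neg])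
  rw [h1, one_smul, neg_smul, ← sub_eq_add_neg, sub_right_inj] at h2
  exact smul_left_injective ℤ (D.g_root b hb).ne_zero h2

theorem ht_g (hq : D.QS) {a : D.I → ℤ} (ha : D.Rt a) : htHom (D.g a) = htHom a := by
  have hq' : (p : ℤ) ^ e ≠ 0 := pow_ne_zero _ (Int.natCast_ne_zero.2 (Fact.out : p.Prime).ne_zero)
  have h0 : ∀ i : D.I, htHom (sr i) = 1 := fun i => by
    show ∑ j, sr i j = 1
    simp [sr]
  have h1 : ∀ x, htHom (D.ψ x) = (p : ℤ) ^ e * htHom x := fun x => by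
    rw [show htHom (D.ψ x) = (htHom.comp D.ψ) x from rfl, D.map_eq_sum, D.map_eq_sum htHom x, Finset.mul_sum]
    refine Finset.sum_congr rfl fun i _ => ?_
    obtain ⟨j, rfl⟩ := D.σ.surjective i
    rw [AddMonoidHom.comp_apply, h0, ← hq.g_sr, ψ_g' hex (isRoot_sr _ _ j), map_zsmul, h0, smul_eq_mul]
    ring
  have h2 := h1 (D.g a)
  rw [ψ_g' hex ha, map_zsmul, smul_eq_mul] at h2
  exact (mul_left_cancel₀ hq' h2).symm

theorem dom_g (hq : D.QS) {a : D.I → ℤ} (ha : D.Rt a) (h : Dom D.A a) : Dom D.A (D.g a) := fun i => by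
  obtain ⟨j, rfl⟩ := D.σ.surjective i
  rw [← cpr_sr D.cs D.h, ← hq.g_sr, cpr_g hex ha (isRoot_sr _ _ j), cpr_sr]
  exact h j

end Const

end Cfsg.Agent.SB.Exc.Max
end

-- part: SB/Exc/Max/Iface
section
/-!
# S5765, `BoxMax`: the abstract form (interface, helper50)

`Y` with a datum `D` of `σ` on `⊤`, `Γ` the lifts of the elements of `S`, `K = ι T`, `R = ι (S ⊓ T)`, `F0 = ι (F(S) ⊓ T)`.

* `FA D β h ex` : frame automorphisms, `FA.dat`, `FA.twist`, `FA.conj`;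
* `HE`, `GC` : the group theoretic hypotheses; `Hyp` : the hypotheses on the datum, `Hyp.conj`;
* `Sit` : an invariant subgroup `Z` of the torus; `Sit.str`, `Sit.inv_S`, `Sit.he`;
* boxes `BoxShape`, `BoxLoc` (shape of the invariant subsystems), `BoxPerp`, `BoxF4`, `BoxE6`, `BoxMain`.
-/

set_option autoImplicit false
set_option linter.unusedSectionVars false

namespace Cfsg.Agent.SB.Exc.Max

open CoxeterSystem Cfsg.Agent.ChevalleyStructure.CoxeterGeom Cfsg.Agent.Tits.Roots Cfsg.Agent.Nodes.Reps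
  Cfsg.Agent.Nodes.BNOf Cfsg.Agent.Nodes.Bruhat Cfsg.Agent.LangThm Cfsg.Agent.Nodes.SubComb
  Cfsg.Agent.Nodes.Coroot Cfsg.Agent.Nodes.Slope Cfsg.Agent.Nodes.NormalForm Cfsg.Agent.DL.Base Cfsg.Agent.DL
  Cfsg.Agent.BpExc.Zc
open scoped Pointwise commutatorElement

section Grp

variable {Y : Type} [Group Y]

/-- `M` is invariant under `Γ` -/
def Inv (Γ : Subgroup (MulAut Y)) (M : Subgroup Y) : Prop := ∀ φ ∈ Γ, ∀ m ∈ M, φ m ∈ M

/-- coprime action on the Fitting subgroup of `M ^ F` -/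
def HE (p : ℕ) (F : MulAut Y) (M : Subgroup Y) : Prop :=
  ∀ a ∈ M, ∀ e ∈ M, F a = a → F e = e → a ^ p = 1 → e ^ p = 1 → a ≠ 1 → a * e = e * a → e ∉ Subgroup.zpowers a →
    ∃ e' ∈ Subgroup.closure {a, e}, e' ≠ 1 ∧ ∃ f ∈ M, F f = f ∧ f * e' = e' * f ∧
      ∀ j : ℕ, (a⁻¹ * (f * a * f⁻¹)) ^ p ^ j ≠ 1

/-- the group theoretic context -/
structure GC (p : ℕ) (σ : MulAut Y) (Γ : Subgroup (MulAut Y)) (K R F0 : Subgroup Y) : Prop where
  σ_mem : σ ∈ Γ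
  comm : ∀ φ ∈ Γ, ∀ y, σ (φ y) = φ (σ y)
  fix : ∀ y ∈ K, σ y = y
  conj_mem : ∀ r ∈ R, MulAut.conj r ∈ Γ
  pel : ∀ u, σ u = u → (∃ j : ℕ, u ^ p ^ j = 1) → u ∈ K
  cent : ∀ y, (∀ x ∈ K, y * x = x * y) → y = 1
  inv : ∀ M, Inv Γ M → ¬ K ≤ M → ∀ y ∈ M, y ∈ K → y ∈ R
  he : ∀ M, Inv Γ M → ¬ K ≤ M → HE p σ M
  F0_pel : ∀ f ∈ F0, ∀ j : ℕ, f ^ p ^ j = 1 → f = 1

/-- `φ` lifts an element `c` of `F(S)` with `x⁻¹ c x ∈ S` -/
structure Bad (Γ : Subgroup (MulAut Y)) (R F0 : Subgroup Y) (x : Y) (φ : MulAut Y) : Prop where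
  mem : φ ∈ Γ
  mem' : (MulAut.conj x)⁻¹ * φ * MulAut.conj x ∈ Γ
  fit : ∀ r ∈ R, φ r * r⁻¹ ∈ F0

/-- inner automorphisms of prime order `≠ p` -/
def Inner (p : ℕ) (φ : MulAut Y) : Prop := ∃ (y : Y) (s : ℕ), s.Prime ∧ s ≠ p ∧ y ^ s = 1 ∧ y ≠ 1 ∧ φ = MulAut.conj y

end Grp

variable {p : ℕ} [Fact p.Prime] {k : Type} [Field k] [CharP k p] {Y : Type} [Group Y] {N : Type} [Fintype N]
  [DecidableEq N] {ρ : Y →* GL N k} {σ : MulAut Y} {G : Subgroup Y} [IsAlgClosed k]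

/-- frame automorphisms -/
structure FA (D : Datum p ρ σ G) (β : MulAut Y) (h : (D.I → ℤ) → (D.I → ℤ)) (ex : (D.I → ℤ) → ℕ) : Prop where
  amb : Amb p ρ β
  root : ∀ a, D.Rt a → D.Rt (h a)
  x : ∀ a, D.Rt a → ∃ c : k, c ≠ 0 ∧ ∀ u, β (D.x a u) = D.x (h a) (c * u ^ p ^ ex a)
  τ : ∃ Mx : Matrix D.R D.R ℤ, ∀ c, β (D.τ c) = D.τ (mon Mx c)

section FA

variable {D : Datum p ρ σ G} {β : MulAut Y} {h : (D.I → ℤ) → (D.I → ℤ)} {ex : (D.I → ℤ) → ℕ}

/-- the datum of a frame automorphism -/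
@[reducible] noncomputable def FA.dat (H : FA D β h ex) : Datum p ρ β G :=
  D.newF H.amb h ex H.root H.x H.τ.choose H.τ.choose_spec

theorem fa_self (D : Datum p ρ σ G) : FA D σ D.g D.ex := ⟨D.amb, D.g_root, D.F_x, D.Mx, D.F_τ⟩

theorem FA.congr (H : FA D β h ex) {ex' : (D.I → ℤ) → ℕ} (e : ∀ a, D.Rt a → ex a = ex' a) : FA D β h ex' :=
  ⟨H.amb, H.root, fun a ha => by rw [← e a ha]; exact H.x a ha, H.τ⟩

theorem FA.twist (H : FA D β h ex) {m : Y} (hm : m ∈ D.NN) :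
    FA D (MulAut.conj m * β) (fun a => D.act (D.pr m) (h a)) ex :=
  ⟨(H.dat.twist hm).amb, (H.dat.twist hm).g_root, (H.dat.twist hm).F_x, _, (H.dat.twist hm).F_τ⟩

theorem FA.conj (H : FA D β h ex) {y : Y} (hy : y ∈ G) (hF : y⁻¹ * σ y ∈ D.NN) :
    FA (D.conj hy hF) (MulAut.conj (y * (β y)⁻¹) * β) h ex := by
  refine ⟨H.amb.conj_mul _, H.root, fun a ha => ?_, ?_⟩
  · obtain ⟨c, hc, e⟩ := H.x a ha
    refine ⟨c, hc, fun u => ?_⟩
    rw [Datum.conj_x, Datum.conj_x, ← e, MulAut.mul_apply, MulAut.conj_apply, map_mul, map_mul, map_inv]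
    group
  · obtain ⟨Mx, e⟩ := H.τ
    refine ⟨Mx, fun c => ?_⟩
    rw [Datum.conj_tau, Datum.conj_tau, ← e, MulAut.mul_apply, MulAut.conj_apply, map_mul, map_mul, map_inv]
    group

end FA

/-- `ψ` is a frame automorphism up to an inner automorphism -/
def IsFA (D : Datum p ρ σ G) (ψ : MulAut Y) (ex : (D.I → ℤ) → ℕ) : Prop :=
  ∃ y β h, FA D β h ex ∧ ψ = MulAut.conj y * β

theorem IsFA.conj {D : Datum p ρ σ G} {ψ : MulAut Y} {ex : (D.I → ℤ) → ℕ} (H : IsFA D ψ ex) {y : Y} (hy : y ∈ G)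
    (hF : y⁻¹ * σ y ∈ D.NN) : IsFA (D.conj hy hF) ψ ex := by
  obtain ⟨z, β, h, H, rfl⟩ := H
  exact ⟨z * (y * (β y)⁻¹)⁻¹, _, h, H.conj hy hF, by rw [← mul_assoc, ← map_mul, inv_mul_cancel_right]⟩

/-- `φ` acts on the roots as `-w`, up to an inner automorphism -/
def NegFr (D : Datum p ρ σ G) (φ : MulAut Y) : Prop :=
  ∃ (y : Y) (w : D.W), (∀ t ∈ D.T, (MulAut.conj y * φ) t ∈ D.T) ∧
    ∀ a, D.Rt a → ∀ u ∈ D.X a, (MulAut.conj y * φ) u ∈ D.X (-D.act w a)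

theorem NegFr.conj {D : Datum p ρ σ G} {φ : MulAut Y} (H : NegFr D φ) {y : Y} (hy : y ∈ G)
    (hF : y⁻¹ * σ y ∈ D.NN) : NegFr (D.conj hy hF) φ := by
  obtain ⟨z, w, h1, h2⟩ := H
  have e : ∀ t, y⁻¹ * (MulAut.conj (y * z * (φ y)⁻¹) * φ) t * y = (MulAut.conj z * φ) (y⁻¹ * t * y) := fun t => by
    show y⁻¹ * (y * z * (φ y)⁻¹ * φ t * (y * z * (φ y)⁻¹)⁻¹) * y = z * φ (y⁻¹ * t * y) * z⁻¹
    rw [map_mul, map_mul, map_inv]
    group
  refine ⟨y * z * (φ y)⁻¹, w, fun t ht => ?_, fun a ha u hu => ?_⟩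
  · rw [Datum.conj_T, mem_cj] at ht ⊢
    rw [e]
    exact h1 _ ht
  · rw [Datum.conj_X, mem_cj] at hu ⊢
    rw [e]
    exact h2 a ha _ hu

/-- graph automorphisms of `E₆` -/
def Graph (D : Datum p ρ σ G) (φ : MulAut Y) : Prop := E6C D.cs D.h ∧ IsFA D (σ * φ) (fun _ => 1) ∧ NegFr D φ

/-- automorphisms of odd degree of `F₄` in characteristic two -/
def OddD (D : Datum p ρ σ G) (φ : MulAut Y) : Prop :=
  (∃ ex, IsFA D φ ex) ∧ ∃ n, Odd n ∧ ∀ y : Y, Card.Fq p ρ ((MulAut.conj y * φ) ^ 2) n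

/-- the hypotheses on the datum -/
structure Hyp (D : Datum p ρ σ G) (e : ℕ) (Γ : Subgroup (MulAut Y)) : Prop where
  he : 0 < e
  ex : ∀ a, D.Rt a → D.ex a = e
  cz : CommZ D.cs D.h D.X
  ir : IR3 D.cs D.h
  adj : ∀ f : (D.I → ℤ) →+ ℤ, ∃ m : D.R → ℤ, ∀ a, ∑ j, D.wt a j * m j = f a
  fa : ∀ φ ∈ Γ, ∃ (n : ℕ) (ex : (D.I → ℤ) → ℕ), IsFA D (φ * σ ^ n) ex
  typ : DC D.cs D.h D.X ∨ (p ≠ 2 ∧ F4C D.cs D.h ∧ ∀ φ ∈ Γ, ∃ n j : ℕ, IsFA D (φ * σ ^ n) fun _ => j)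

theorem commZ_conj {D : Datum p ρ σ G} (H : CommZ D.cs D.h D.X) {y : Y} (hy : y ∈ G) (hF : y⁻¹ * σ y ∈ D.NN) :
    CommZ D.cs D.h (D.conj hy hF).X := fun a b ha hb h1 h2 u hu v hv => by
  have h3 := H a b ha hb h1 h2 _ (mem_cj.1 hu) _ (mem_cj.1 hv)
  show _ ∈ (D.conj hy hF).S _
  rw [Datum.conj_S, mem_cj]
  convert h3 using 1
  simp only [commutatorElement_def]
  group

theorem comm_cj {y u v : Y} (h : (y⁻¹ * u * y) * (y⁻¹ * v * y) = (y⁻¹ * v * y) * (y⁻¹ * u * y)) : u * v = v * u := by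
  calc u * v = y * ((y⁻¹ * u * y) * (y⁻¹ * v * y)) * y⁻¹ := by group
    _ = v * u := by rw [h]; group

theorem Hyp.conj {D : Datum p ρ σ G} {e : ℕ} {Γ : Subgroup (MulAut Y)} (H : Hyp D e Γ) {y : Y} (hy : y ∈ G)
    (hF : y⁻¹ * σ y ∈ D.NN) : Hyp (D.conj hy hF) e Γ where
  he := H.he
  ex := H.ex
  cz := commZ_conj H.cz hy hF
  ir := H.ir
  adj := H.adj
  fa φ hφ := by
    obtain ⟨n, ex, h⟩ := H.fa φ hφ
    exact ⟨n, ex, h.conj hy hF⟩
  typ := by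
    rcases H.typ with h | ⟨h1, h2, h3⟩
    · exact Or.inl fun a b ha hb h0 u hu v hv => comm_cj (h a b ha hb h0 _ (mem_cj.1 hu) _ (mem_cj.1 hv))
    · refine Or.inr ⟨h1, h2, fun φ hφ => ?_⟩
      obtain ⟨n, j, h⟩ := h3 φ hφ
      exact ⟨n, j, h.conj hy hF⟩

/-- an invariant subgroup of the torus on which a root is trivial -/
structure Sit (D : Datum p ρ σ ⊤) (e : ℕ) (Γ : Subgroup (MulAut Y)) (K R F0 Z : Subgroup Y) : Prop where
  gc : GC p σ Γ K R F0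
  hyp : Hyp D e Γ
  le : (Z : Set Y) ⊆ D.T
  ne : Z ≠ ⊥
  inv : Inv Γ Z
  rt : (D.Sz Z).Nonempty

namespace Sit

variable {D : Datum p ρ σ ⊤} {e : ℕ} {Γ : Subgroup (MulAut Y)} {K R F0 Z : Subgroup Y} (H : Sit D e Γ K R F0 Z)
include H

theorem g_mem {a : D.I → ℤ} (ha : a ∈ D.Sz Z) : D.g a ∈ D.Sz Z := D.g_mem_Sz H.le (H.inv σ H.gc.σ_mem) ha

/-- the form of the lifts -/
theorem str {ψ : MulAut Y} (hψ : ψ ∈ Γ) {ex : (D.I → ℤ) → ℕ} (h : IsFA D ψ ex) :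
    ∃ c ∈ D.S (D.Sz Z), ∃ β h, FA D β h ex ∧ ψ = MulAut.conj c * β ∧ ∀ z ∈ Z, β z ∈ Z := by
  obtain ⟨y, β, h, hβ, e⟩ := h
  obtain ⟨c, hc, m, hm, h1, h2⟩ := D.exists_conj_form (s := fun z : Z => β z) (t := fun z : Z => ψ z)
    (fun z => hβ.dat.F_mem_T (H.le z.2)) (fun z => H.le (H.inv ψ hψ z z.2)) (Subgroup.mem_top y)
    (fun z => by rw [e, MulAut.mul_apply, MulAut.conj_apply, inv_mul_cancel_right])
  have hr : Set.range (fun z : Z => ψ z) = Z := by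
    ext u
    constructor
    · rintro ⟨z, rfl⟩
      exact H.inv ψ hψ z z.2
    · intro hu
      exact ⟨⟨ψ⁻¹ u, H.inv _ (inv_mem hψ) u hu⟩, MulAut.apply_inv_self _ _ _⟩
  rw [hr] at hc
  refine ⟨c, hc, _, _, hβ.twist hm, by rw [e, h2, map_mul, mul_assoc], fun z hz => ?_⟩
  rw [MulAut.mul_apply, MulAut.conj_apply, h1 ⟨z, hz⟩, mul_inv_cancel_right]
  exact H.inv ψ hψ z hz

/-- invariance of a subgroup; `E` describes the exponents -/
theorem inv_of {M : Subgroup Y} {E : ((D.I → ℤ) → ℕ) → Prop} (hE : E D.ex)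
    (hΓ : ∀ φ ∈ Γ, ∃ (n : ℕ) (ex : (D.I → ℤ) → ℕ), E ex ∧ IsFA D (φ * σ ^ n) ex)
    (h1 : ∀ c ∈ D.S (D.Sz Z), ∀ m ∈ M, c * m * c⁻¹ ∈ M)
    (h2 : ∀ β h ex, E ex → FA D β h ex → (∀ z ∈ Z, β z ∈ Z) → ∀ m ∈ M, β m ∈ M) : Inv Γ M := by
  intro φ hφ m hm
  obtain ⟨n, ex, he, h⟩ := hΓ φ hφ
  obtain ⟨c, hc, β, h, hβ, e, hZ⟩ := H.str (mul_mem hφ (pow_mem H.gc.σ_mem n)) h
  have hσ : ∀ m ∈ M, σ m ∈ M := h2 σ _ _ hE (fa_self D) (H.inv σ H.gc.σ_mem)
  have h3 : (σ ^ n)⁻¹ m ∈ M := by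
    rcases Nat.eq_zero_or_pos n with rfl | hn
    · rwa [pow_zero, inv_one]
    · exact ((D.amb.pow hn).mem_iff (H := M) (fun y hy => pow_mem_of_maps hσ n hy) _).1
        (by rwa [MulAut.apply_inv_self])
  have h4 : φ m = (φ * σ ^ n) ((σ ^ n)⁻¹ m) := by rw [MulAut.mul_apply, MulAut.apply_inv_self]
  rw [h4, e]
  exact h1 c hc _ (h2 β h ex he hβ hZ _ h3)

theorem inv_S {P : Set (D.I → ℤ)} (hP : ∀ a ∈ P, D.Rt a)
    (h1 : ∀ c ∈ D.S (D.Sz Z), ∀ m ∈ D.S P, c * m * c⁻¹ ∈ D.S P)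
    (h2 : ∀ β h ex, FA D β h ex → (∀ z ∈ Z, β z ∈ Z) → ∀ a ∈ P, h a ∈ P) : Inv Γ (D.S P) :=
  H.inv_of (E := fun _ => True) trivial
    (fun φ hφ => by obtain ⟨n, ex, h⟩ := H.hyp.fa φ hφ; exact ⟨n, ex, trivial, h⟩) h1
    fun β h ex _ hβ hZ _ hm => hβ.dat.F_mem_S hP (h2 β h ex hβ hZ) hm

theorem inv_M : Inv Γ (D.S (D.Sz Z)) :=
  H.inv_S D.Sz_root (fun _ hc _ hm => mul_mem (mul_mem hc hm) (inv_mem hc))
    fun _ _ _ hβ hZ _ ha => hβ.dat.g_mem_Sz H.le hZ ha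

omit H in
theorem not_le (C : GC p σ Γ K R F0) {M : Subgroup Y} {z : Y} (hz : z ≠ 1) (h : ∀ m ∈ M, z * m = m * z) : ¬ K ≤ M :=
  fun hK => hz (C.cent z fun x hx => h x (hK hx))

theorem not_le_M : ¬ K ≤ D.S (D.Sz Z) := by
  obtain ⟨⟨z, hz⟩, h0⟩ := Subgroup.ne_bot_iff_exists_ne_one.1 H.ne
  exact not_le H.gc (z := z) (fun e => h0 (Subtype.ext e)) fun m hm =>
    D.cen_le_centralizer H.le (D.S_le_cen _ hm) z hz

theorem he : HE p σ (D.S (D.Sz Z)) := H.gc.he _ H.inv_M H.not_le_M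

end Sit

/-! ### the boxes -/

/-- root groups inside `P` commute when the inner product is non-negative -/
def DCon (D : Datum p ρ σ G) (P : Set (D.I → ℤ)) (θ : D.I → ℤ) : Prop :=
  ∀ c ∈ P, 0 ≤ cpr D.cs D.h c θ → ∀ u ∈ D.X θ, ∀ v ∈ D.X c, u * v = v * u

/-- [SHAPE] the subsystem of `Z` has type `A₁ ^ a A₂ ^ b` -/
def BoxShape : Prop := ∀ (p : ℕ) [Fact p.Prime] (k : Type) [Field k] [CharP k p] [IsAlgClosed k] (Y : Type) [Group Y]
  (N : Type) [Fintype N] [DecidableEq N] (ρ : Y →* GL N k) (σ : MulAut Y) (G : Subgroup Y) (D : Datum p ρ σ G) (e : ℕ)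
  (Z : Set Y), 0 < e → (∀ a, D.Rt a → D.ex a = e) → CommZ D.cs D.h D.X → Z ⊆ D.T → (∀ a ∈ D.Sz Z, D.g a ∈ D.Sz Z) →
    HE p σ (D.S (D.Sz Z)) → (∀ θ ∈ D.Sz Z, DCon D (D.Sz Z) θ) →
      ((D.Sz Z).Nonempty → e = 1 ∧ ∃ y ∈ D.S (D.Sz Z), σ y = y ∧ y ^ p = 1 ∧ y ≠ 1) ∧ Shp D.cs D.h (D.Sz Z) ∧
      (Iso D.cs D.h (D.Sz Z) ∨ (p = 2 ∧ ∃ y ∈ D.S (D.Sz Z), σ y = y ∧ y ^ 4 = 1 ∧ y ^ 2 ≠ 1))

/-- [LOC] the same for a class `Q` of roots, `p` odd -/
def BoxLoc : Prop := ∀ (p : ℕ) [Fact p.Prime] (k : Type) [Field k] [CharP k p] [IsAlgClosed k] (Y : Type) [Group Y]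
  (N : Type) [Fintype N] [DecidableEq N] (ρ : Y →* GL N k) (σ : MulAut Y) (G : Subgroup Y) (D : Datum p ρ σ G) (e : ℕ)
  (Z : Set Y), 0 < e → (∀ a, D.Rt a → D.ex a = e) → CommZ D.cs D.h D.X → Z ⊆ D.T → (∀ a ∈ D.Sz Z, D.g a ∈ D.Sz Z) →
    HE p σ (D.S (D.Sz Z)) → p ≠ 2 → ∀ Q : (D.I → ℤ) → Prop, (∀ a, D.Rt a → Q a → Q (D.g a)) →
      (∀ w a, D.Rt a → Q a → Q (D.act w a)) → (∀ θ ∈ D.Sz Z, Q θ → DCon D (D.Sz Z) θ) →
        ∀ r ∈ D.Sz Z, Q r → Nb D.cs D.h (D.Sz Z) r = ∅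

/-- the roots orthogonal to `P` -/
def Perp (D : Datum p ρ σ G) (P : Set (D.I → ℤ)) : Set (D.I → ℤ) := {b | D.Rt b ∧ ∀ a ∈ P, cpr D.cs D.h b a = 0}

/-- [PERP] the roots orthogonal to the subsystem of `Z` -/
def BoxPerp : Prop := ∀ (p : ℕ) [Fact p.Prime] (k : Type) [Field k] [CharP k p] [IsAlgClosed k] (Y : Type) [Group Y]
  (N : Type) [Fintype N] [DecidableEq N] (ρ : Y →* GL N k) (σ : MulAut Y) (D : Datum p ρ σ ⊤) (e : ℕ)
  (Γ : Subgroup (MulAut Y)) (K R F0 Z : Subgroup Y), Sit D e Γ K R F0 Z → DC D.cs D.h D.X →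
    Iso D.cs D.h (Perp D (D.Sz Z)) ∧ (p ≠ 2 → Perp D (D.Sz Z) = ∅)

/-- [F4] `F₄` in odd characteristic does not occur -/
def BoxF4 : Prop := ∀ (p : ℕ) [Fact p.Prime] (k : Type) [Field k] [CharP k p] [IsAlgClosed k] (Y : Type) [Group Y]
  (N : Type) [Fintype N] [DecidableEq N] (ρ : Y →* GL N k) (σ : MulAut Y) (D : Datum p ρ σ ⊤) (e : ℕ)
  (Γ : Subgroup (MulAut Y)) (K R F0 Z : Subgroup Y), Sit D e Γ K R F0 Z → DC D.cs D.h D.X

/-- [E6] no element of `W(E₆)` inverts the subsystem of `Z` -/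
def BoxE6 : Prop := ∀ (p : ℕ) [Fact p.Prime] (k : Type) [Field k] [CharP k p] [IsAlgClosed k] (Y : Type) [Group Y]
  (N : Type) [Fintype N] [DecidableEq N] (ρ : Y →* GL N k) (σ : MulAut Y) (D : Datum p ρ σ ⊤) (e : ℕ)
  (Γ : Subgroup (MulAut Y)) (K R F0 Z : Subgroup Y), Sit D e Γ K R F0 Z → DC D.cs D.h D.X → E6C D.cs D.h →
    ∀ w : D.W, ¬ ∀ a ∈ D.Sz Z, D.act w a = -a

/-- [MAIN] -/
def BoxMain : Prop := ∀ (p : ℕ) [Fact p.Prime] (k : Type) [Field k] [CharP k p] [IsAlgClosed k] (Y : Type) [Group Y]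
  (N : Type) [Fintype N] [DecidableEq N] (ρ : Y →* GL N k) (σ : MulAut Y) (D : Datum p ρ σ ⊤) (e : ℕ)
  (Γ : Subgroup (MulAut Y)) (K R F0 Z : Subgroup Y), GC p σ Γ K R F0 → Hyp D e Γ → Z ≠ ⊥ → Inv Γ Z →
    (∃ x, (∀ z ∈ Z, x⁻¹ * z * x ∈ D.T) ∧ ∃ b, D.Rt b ∧ ∀ z ∈ Z, D.χ b (x⁻¹ * z * x) = 1) →
      e = 1 ∧ ∃ x ∈ K, ∀ φ, Bad Γ R F0 x φ → ¬ (Inner p φ ∨ Graph D φ ∨ OddD D φ)

end Cfsg.Agent.SB.Exc.Max
end

private theorem dce_7b7045a588e6 : _root_.True := by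
  try have : _root_.True := by simp only [_root_.Cfsg.Agent.Nodes.Coroot.cpr.eq_1]
  exact _root_.True.intro
end

-- part: SB/Exc/Max/Sub
section
prune_inst 0x30007500642202000018001022003d22b4000002004b880090e003040fcfdc012041872142602c1210108cd82800804811000010423800000a0086004004042194a35222a208110426000f80b802000000000000000000000000000000041000200000000
set_option linter.all false
open scoped Cfsg.Agent.FastGrp

/-!
# S5765, `BoxMax`: transfer between a datum and the datum of a centraliser (helper50)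

`cpr_io`, `commZ_sub`, `dcon_sub`, `sub_S_roots`, `shp_sub_iff`, `iso_sub_iff`; `Ps` (positive roots trivial on `Z`),
`Dm` (dominance for `Ps`), `sub_nf` (Bruhat decomposition in the centraliser), `eq_of_dm`, `subW_eq_one`.
-/

set_option autoImplicit false
set_option linter.unusedSectionVars false

namespace Cfsg.Agent.SB.Exc.Max

open CoxeterSystem Cfsg.Agent.ChevalleyStructure.CoxeterGeom Cfsg.Agent.Tits.Roots Cfsg.Agent.Nodes.Reps
  Cfsg.Agent.Nodes.BNOf Cfsg.Agent.Nodes.Bruhat Cfsg.Agent.LangThm Cfsg.Agent.Nodes.SubComb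
  Cfsg.Agent.Nodes.Coroot Cfsg.Agent.Nodes.Slope Cfsg.Agent.Nodes.NormalForm Cfsg.Agent.DL.Base Cfsg.Agent.DL
  Cfsg.Agent.BpExc.Zc
open scoped Pointwise commutatorElement

attribute [local instance] fintypeSmp decSmp

variable {p : ℕ} [Fact p.Prime] {k : Type} [Field k] [CharP k p] {Y : Type} [Group Y] {N : Type} [Fintype N]
  [DecidableEq N] {ρ : Y →* GL N k} {σ : MulAut Y} {G : Subgroup Y} [IsAlgClosed k] (D : Datum p ρ σ G)

/-- the positive roots trivial on `Z` -/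
def Ps (Z : Set Y) : Set (D.I → ℤ) := RGD.Pos D.cs D.h ∩ D.Sz Z

/-- dominance with respect to the positive roots trivial on `Z` -/
def Dm (Z : Set Y) (b : D.I → ℤ) : Prop := ∀ a ∈ Ps D Z, 0 ≤ cpr D.cs D.h b a

/-- the simple roots trivial on `Z` -/
def Bs (Z : Set Y) : Set (D.I → ℤ) := Set.range (bs D.cs D.h (D.Lam Z))

variable {D} {Z : Set Y}

theorem Ps.root {a : D.I → ℤ} (ha : a ∈ Ps D Z) : D.Rt a := ha.1.1

theorem bs_mem_Ps {a : D.I → ℤ} (ha : a ∈ Bs D Z) : a ∈ Ps D Z := by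
  obtain ⟨j, rfl⟩ := ha
  exact ⟨⟨bs_root j, bs_nonneg j⟩, bs_root j, bs_mem j⟩

theorem mem_Bs {a : D.I → ℤ} : a ∈ Bs D Z ↔ a ∈ Ps D Z ∧ ∀ b ∈ Ps D Z, ∀ c ∈ Ps D Z, a ≠ b + c := by
  constructor
  · rintro ⟨j, rfl⟩
    exact ⟨bs_mem_Ps ⟨j, rfl⟩, fun b hb c hc => j.2.2 b c ⟨hb.1.1, hb.1.2, hb.2.2⟩ ⟨hc.1.1, hc.1.2, hc.2.2⟩⟩
  · rintro ⟨h1, h2⟩
    exact ⟨⟨a, ⟨h1.1.1, h1.1.2, h1.2.2⟩, fun b c hb hc =>
      h2 b ⟨⟨hb.1, hb.2.1⟩, hb.1, hb.2.2⟩ c ⟨⟨hc.1, hc.2.1⟩, hc.1, hc.2.2⟩⟩, rfl⟩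

theorem Sz_sub {a b : D.I → ℤ} (ha : a ∈ D.Sz Z) (hb : b ∈ D.Sz Z) {i j : ℤ} (h : D.Rt (i • a + j • b)) :
    i • a + j • b ∈ D.Sz Z :=
  ⟨h, (D.Lam Z).add_mem ((D.Lam Z).zsmul_mem ha.2 i) ((D.Lam Z).zsmul_mem hb.2 j)⟩

theorem Sz_refl {a b : D.I → ℤ} (ha : a ∈ D.Sz Z) (hb : D.Rt b) : b - cpr D.cs D.h b a • a ∈ D.Sz Z ↔ b ∈ D.Sz Z := by
  refine ⟨fun h => ⟨hb, ?_⟩, fun h => ⟨isRoot_refl D.cs D.h hb ha.1, ?_⟩⟩
  · have := (D.Lam Z).add_mem h.2 ((D.Lam Z).zsmul_mem ha.2 (cpr D.cs D.h b a))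
    rwa [sub_add_cancel] at this
  · exact (D.Lam Z).sub_mem h.2 ((D.Lam Z).zsmul_mem ha.2 _)

/-- an additive statement holds on `D.Sz Z` if it holds on the simple roots -/
theorem map_eq_of_Bs {V : Type*} [AddCommGroup V] (f f' : (D.I → ℤ) →+ V) (h : ∀ b ∈ Bs D Z, f b = f' b) {a : D.I → ℤ}
    (ha : a ∈ D.Sz Z) : f a = f' a := by
  obtain ⟨c, -, rfl⟩ := exists_root (Λ := D.Lam Z) ha.1 ha.2
  rw [iota_apply, map_sum, map_sum]
  exact Finset.sum_congr rfl fun j _ => by rw [map_zsmul, map_zsmul, h _ ⟨j, rfl⟩]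

variable (hZ : Z ⊆ D.T) (hF : ∀ a ∈ D.Sz Z, D.g a ∈ D.Sz Z) {C : Subgroup Y} (hC : D.cen Z = C)

theorem exists_io {a : D.I → ℤ} (ha : a ∈ D.Sz Z) : ∃ c, (D.sub hZ hF hC).Rt c ∧ D.io Z c = a :=
  exists_root (Λ := D.Lam Z) ha.1 ha.2

theorem io_mem {c : (D.sub hZ hF hC).I → ℤ} (hc : (D.sub hZ hF hC).Rt c) : D.io Z c ∈ D.Sz Z := (D.sub_rt hZ hF hC).1 hc

theorem io_nonneg {c : (D.sub hZ hF hC).I → ℤ} (hc : (D.sub hZ hF hC).Rt c) : 0 ≤ D.io Z c ↔ 0 ≤ c := iota_nonneg_iff hc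

theorem cpr_io (a : (D.sub hZ hF hC).I → ℤ) {b : (D.sub hZ hF hC).I → ℤ} (hb : (D.sub hZ hF hC).Rt b) :
    cpr D.cs D.h (D.io Z a) (D.io Z b) = cpr (D.sub hZ hF hC).cs (D.sub hZ hF hC).h a b := by
  have h1 := D.act_subW hZ hF hC ((D.sub hZ hF hC).rf b) a
  have h2 := (io_mem hZ hF hC hb).1
  rw [D.subW_rf hZ hF hC hb, D.act_rf h2, (D.sub hZ hF hC).act_rf hb, map_sub, map_zsmul, sub_right_inj] at h1
  exact smul_left_injective ℤ h2.ne_zero h1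

theorem sub_S_roots : (D.sub hZ hF hC).S {c | (D.sub hZ hF hC).Rt c} = D.S (D.Sz Z) := by
  rw [D.sub_S hZ hF hC]
  exact congrArg D.S (D.io_roots Z)

theorem sub_U_eq : (D.sub hZ hF hC).U = D.S (Ps D Z) := D.sub_U' hZ hF hC

theorem commZ_sub (H : CommZ D.cs D.h D.X) : CommZ (D.sub hZ hF hC).cs (D.sub hZ hF hC).h (D.sub hZ hF hC).X := by
  intro a b ha hb h1 h2 u hu v hv
  have h3 := H _ _ (io_mem hZ hF hC ha).1 (io_mem hZ hF hC hb).1 (fun e => h1 (D.io_injective Z e))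
    (fun e => h2 (D.io_injective Z (by rw [e, map_neg]))) u hu v hv
  show _ ∈ (D.sub hZ hF hC).S _
  rw [D.sub_S hZ hF hC]
  refine RGD.Sup_mono ?_ h3
  rintro z ⟨hz, i, j, hi, hj, rfl⟩
  have e : D.io Z (i • a + j • b) = i • D.io Z a + j • D.io Z b := by rw [map_add, map_zsmul, map_zsmul]
  exact ⟨i • a + j • b, ⟨(isRoot_iff _).2 (by erw [e]; exact hz), i, j, hi, hj, rfl⟩, e⟩

theorem dcon_sub {c : (D.sub hZ hF hC).I → ℤ} (hc : (D.sub hZ hF hC).Rt c) (H : DCon D (D.Sz Z) (D.io Z c)) :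
    DCon (D.sub hZ hF hC) {c | (D.sub hZ hF hC).Rt c} c := fun d hd h0 u hu v hv =>
  H _ (io_mem hZ hF hC hd) (by rwa [cpr_io hZ hF hC d hc]) u hu v hv

theorem dc_sub (H : DC D.cs D.h D.X) : DC (D.sub hZ hF hC).cs (D.sub hZ hF hC).h (D.sub hZ hF hC).X :=
  fun a b ha hb h0 u hu v hv =>
    H _ _ (io_mem hZ hF hC ha).1 (io_mem hZ hF hC hb).1 (by rwa [cpr_io hZ hF hC b ha]) u hu v hv

theorem io_mem_nb {r c : (D.sub hZ hF hC).I → ℤ} (hr : (D.sub hZ hF hC).Rt r) :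
    D.io Z c ∈ Nb D.cs D.h (D.Sz Z) (D.io Z r) ↔
      c ∈ Nb (D.sub hZ hF hC).cs (D.sub hZ hF hC).h {c | (D.sub hZ hF hC).Rt c} r := by
  unfold Nb
  rw [Set.mem_ofPred_eq, Set.mem_ofPred_eq, cpr_io hZ hF hC c hr, ← D.sub_rt hZ hF hC, (D.io_injective Z).ne_iff]
  rfl

theorem nb_io {r : (D.sub hZ hF hC).I → ℤ} (hr : (D.sub hZ hF hC).Rt r) : Nb D.cs D.h (D.Sz Z) (D.io Z r) =
    D.io Z '' Nb (D.sub hZ hF hC).cs (D.sub hZ hF hC).h {c | (D.sub hZ hF hC).Rt c} r := by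
  ext a
  constructor
  · intro ha
    obtain ⟨c, -, rfl⟩ := exists_io hZ hF hC ha.1
    exact ⟨c, (io_mem_nb hZ hF hC hr).1 ha, rfl⟩
  · rintro ⟨c, hc, rfl⟩
    exact (io_mem_nb hZ hF hC hr).2 hc

theorem iso_sub_iff : Iso (D.sub hZ hF hC).cs (D.sub hZ hF hC).h {c | (D.sub hZ hF hC).Rt c} ↔
    Iso D.cs D.h (D.Sz Z) := by
  constructor
  · intro H r hr
    obtain ⟨c, hc, rfl⟩ := exists_io hZ hF hC hr
    rw [nb_io hZ hF hC hc, H c hc, Set.image_empty]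
  · intro H r hr
    have := H _ (io_mem hZ hF hC hr)
    rwa [nb_io hZ hF hC hr, Set.image_eq_empty] at this

theorem shp_sub_iff : Shp (D.sub hZ hF hC).cs (D.sub hZ hF hC).h {c | (D.sub hZ hF hC).Rt c} ↔
    Shp D.cs D.h (D.Sz Z) := by
  constructor
  · intro H
    refine ⟨fun r hr c hc => ?_, fun r hr c₁ h₁ c₂ h₂ c₃ h₃ => ?_⟩
    · obtain ⟨r, hr', rfl⟩ := exists_io hZ hF hC hr
      rw [nb_io hZ hF hC hr'] at hc
      obtain ⟨c, hc, rfl⟩ := hc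
      rw [cpr_io hZ hF hC c hr']
      exact H.one r hr' c hc
    · obtain ⟨r, hr', rfl⟩ := exists_io hZ hF hC hr
      rw [nb_io hZ hF hC hr'] at h₁ h₂ h₃
      obtain ⟨c₁, h₁, rfl⟩ := h₁
      obtain ⟨c₂, h₂, rfl⟩ := h₂
      obtain ⟨c₃, h₃, rfl⟩ := h₃
      rcases H.two r hr' c₁ h₁ c₂ h₂ c₃ h₃ with e | e | e <;> simp [e]
  · intro H
    refine ⟨fun r hr c hc => ?_, fun r hr c₁ h₁ c₂ h₂ c₃ h₃ => ?_⟩
    · rw [← cpr_io hZ hF hC c hr]
      exact H.one _ (io_mem hZ hF hC hr) _ ((io_mem_nb hZ hF hC hr).2 hc)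
    · have := H.two _ (io_mem hZ hF hC hr) _ ((io_mem_nb hZ hF hC hr).2 h₁) _ ((io_mem_nb hZ hF hC hr).2 h₂) _
        ((io_mem_nb hZ hF hC hr).2 h₃)
      simpa only [(D.io_injective Z).eq_iff] using this

theorem dom_iff {c : (D.sub hZ hF hC).I → ℤ} : Dom (D.sub hZ hF hC).A c ↔ Dm D Z (D.io Z c) := by
  have := (D.sub hZ hF hC).fW
  constructor
  · intro H a ha
    obtain ⟨d, hd, rfl⟩ := exists_io hZ hF hC ha.2
    rw [cpr_io hZ hF hC c hd]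
    exact dom_cpr' H hd ((io_nonneg hZ hF hC hd).1 ha.1.2)
  · intro H j
    rw [← cpr_sr (D.sub hZ hF hC).cs (D.sub hZ hF hC).h, ← cpr_io hZ hF hC c (isRoot_sr _ _ j)]
    refine H _ (bs_mem_Ps ⟨j, ?_⟩)
    exact (iota_sr _ j).symm

include hZ hF in
/-- the Bruhat decomposition in the connected centraliser -/
theorem sub_nf {y : Y} (hy : y ∈ D.cen Z) : ∃ v, ∃ u ∈ D.S (Ps D Z), ∃ m ∈ D.cen Z, D.Rp (D.subW Z v) m ∧
    ∃ u' ∈ D.S (Ps D Z), y = u * m * u' := by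
  obtain ⟨v, u, hu, m, hm, u', hu', e⟩ := (D.sub hZ hF rfl).exists_normal_form hy
  exact ⟨v, u, sub_U_eq hZ hF rfl ▸ hu, m, Datum.Rp.mem_G hm, D.rp_of_sub hZ hF rfl hm, u',
    sub_U_eq hZ hF rfl ▸ (D.sub hZ hF rfl).NW_le_U v hu', e⟩

include hZ hF in
theorem le_of_dm {b : D.I → ℤ} (hb : Dm D Z b) : ∀ v, D.act (D.subW Z v) b ≤ b := by
  intro w
  induction hn : (D.sub hZ hF rfl).cs.length w using Nat.strong_induction_on generalizing w with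
  | _ n ih =>
  by_cases hw : w = 1
  · rw [hw, map_one, act_one]
  obtain ⟨i, hi⟩ := (D.sub hZ hF rfl).cs.exists_rightDescent_of_ne_one hw
  have hi' : (D.sub hZ hF rfl).cs.length (w * (D.sub hZ hF rfl).cs.simple i) < (D.sub hZ hF rfl).cs.length w := hi
  have h1 := ih _ (by omega) (w * (D.sub hZ hF rfl).cs.simple i) rfl
  have h2 : w = w * (D.sub hZ hF rfl).cs.simple i * (D.sub hZ hF rfl).cs.simple i := by
    rw [mul_assoc, simple_mul_simple_self, mul_one]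
  have h3 : 0 ≤ (D.sub hZ hF rfl).act (w * (D.sub hZ hF rfl).cs.simple i) (sr i) :=
    nonneg_of_lt _ _ (w * (D.sub hZ hF rfl).cs.simple i) i (by rwa [simple_mul_simple_cancel_right])
  have h4 : 0 ≤ D.act (D.subW Z (w * (D.sub hZ hF rfl).cs.simple i)) (bs D.cs D.h (D.Lam Z) i) := by
    rw [← iota_sr (bs D.cs D.h (D.Lam Z)) i]
    erw [D.act_subW hZ hF rfl]
    exact iota_nonneg h3
  rw [h2, map_mul, act_mul, D.subW_simple hZ hF rfl, D.act_rf (bs_root i), Datum.act, map_sub, map_zsmul]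
  exact (sub_le_self _ (smul_nonneg (hb _ (bs_mem_Ps ⟨i, rfl⟩)) h4)).trans h1

include hZ hF in
theorem eq_of_dm {b : D.I → ℤ} (hb : Dm D Z b) {v : (cox D.cs D.h (D.Lam Z)).Group}
    (hv : Dm D Z (D.act (D.subW Z v) b)) : D.act (D.subW Z v) b = b := by
  refine le_antisymm (le_of_dm hZ hF hb v) ?_
  have := le_of_dm hZ hF hv v⁻¹
  rwa [map_inv, act_inv_act] at this

include hZ hF in
theorem subW_eq_one {v : (cox D.cs D.h (D.Lam Z)).Group} (h : ∀ b ∈ Bs D Z, 0 ≤ D.act (D.subW Z v) b) : v = 1 := by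
  refine eq_one_of_pos (D.sub hZ hF rfl) fun j => ?_
  rw [← io_nonneg hZ hF rfl ((isRoot_sr _ _ j).act _), ← D.act_subW hZ hF rfl]
  exact h _ ⟨j, (iota_sr _ j).symm⟩

include hZ hF in
theorem act_subW_mem (v : (cox D.cs D.h (D.Lam Z)).Group) {a : D.I → ℤ} (ha : a ∈ D.Sz Z) :
    D.act (D.subW Z v) a ∈ D.Sz Z := by
  obtain ⟨c, hc, rfl⟩ := exists_io hZ hF rfl ha
  rw [D.act_subW hZ hF rfl]
  exact io_mem hZ hF rfl (hc.act _)

include hZ hF in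
theorem not_btwn_Bs {a a' b : D.I → ℤ} (ha : a ∈ Ps D Z) (ha' : a' ∈ Ps D Z) (hne : a ≠ a') (hb : b ∈ Bs D Z) :
    ¬ Btwn D.cs D.h a a' b := by
  obtain ⟨j, rfl⟩ := hb
  obtain ⟨c, hc, rfl⟩ := exists_io hZ hF rfl ha.2
  obtain ⟨c', hc', rfl⟩ := exists_io hZ hF rfl ha'.2
  rw [← iota_sr (bs D.cs D.h (D.Lam Z)) j]
  intro h
  have h1 := btwn_iff.2 h
  have p1 := (io_nonneg hZ hF rfl hc).1 ha.1.2
  have p2 := (io_nonneg hZ hF rfl hc').1 ha'.1.2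
  by_cases e : c' = sr j
  · exact Nodes.StabComb.btwn_ne_sr h1.symm p2 hc p1 (fun e' => hne (by rw [e, e'])) rfl
  · exact Nodes.StabComb.btwn_ne_sr h1 p1 hc' p2 e rfl

end Cfsg.Agent.SB.Exc.Max
end

-- part: SB/Exc/Max/Shape
section
prune_inst 0x100005000422020000000010200000002400009000400800b0e001000106d0000040800040002c10100088080800000811000010420000000a0004000000002090a05202a208010426000f802000000000000000000000000000000000041000000000000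
set_option linter.all false
open scoped Cfsg.Agent.FastGrp

-- part: SB/Exc/Max/Ext
section
/-!
# S5765, `BoxMax`: dominant roots of a quasi-split datum with `HE` (helper50)

`EC.up` : the fixed points of the unipotent radical attached to the orbit of a dominant root `θ` have only one subgroup of
order `p`; `EC.ext` : `q = p`, `θ` is fixed, and `θ` has no neighbours, or `p = 2` and the component is of type `²A₂`.
-/

set_option autoImplicit false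
set_option linter.unusedSectionVars false
set_option linter.unusedVariables false

namespace Cfsg.Agent.SB.Exc.Max

open CoxeterSystem Cfsg.Agent.ChevalleyStructure.CoxeterGeom Cfsg.Agent.Tits.Roots Cfsg.Agent.Nodes.Reps
  Cfsg.Agent.Nodes.BNOf Cfsg.Agent.Nodes.Bruhat Cfsg.Agent.LangThm Cfsg.Agent.Nodes.SubComb
  Cfsg.Agent.Nodes.Coroot Cfsg.Agent.Nodes.Slope Cfsg.Agent.Nodes.NormalForm Cfsg.Agent.DL.Base Cfsg.Agent.DL
  Cfsg.Agent.BpExc.Zc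
open scoped Pointwise commutatorElement

section Grp

variable {Y : Type*} [Group Y]

theorem exists_pow_lt {a y : Y} {n : ℕ} (hn : 0 < n) (ha : a ^ n = 1) (hy : y ∈ Subgroup.zpowers a) :
    ∃ i < n, y = a ^ i := by
  obtain ⟨z, rfl⟩ := hy
  have h0 : (0 : ℤ) < n := by exact_mod_cast hn
  have h1 := Int.emod_nonneg z h0.ne'
  have h2 := Int.emod_lt_of_pos z h0
  refine ⟨(z % n).toNat, by omega, ?_⟩
  rw [← zpow_natCast, Int.toNat_of_nonneg h1]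
  exact zpow_eq_zpow_emod' z ha

theorem mul_pow_central {x y c : Y} (h : y * x = x * y * c) (hx : Commute c x) (hy : Commute c y) (n : ℕ) :
    (x * y) ^ n = x ^ n * y ^ n * c ^ n.choose 2 := by
  have h1 : ∀ n : ℕ, y ^ n * x = x * y ^ n * c ^ n := fun n => by
    induction n with
    | zero => simp
    | succ n ih =>
      rw [pow_succ', mul_assoc, ih, ← mul_assoc, ← mul_assoc, h, mul_assoc (x * y), (hy.pow_right n).eq, pow_succ']
      simp only [mul_assoc]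
  induction n with
  | zero => simp
  | succ n ih =>
    rw [pow_succ, ih, Nat.choose_succ_succ' n 1, Nat.choose_one_right, mul_assoc _ _ (x * y),
      ((hx.mul_right hy).pow_left _).eq, ← mul_assoc, ← mul_assoc, mul_assoc (x ^ n), h1, pow_add c, pow_succ x,
      pow_succ y]
    simp only [mul_assoc]
    rw [← mul_assoc (c ^ n), (hy.pow_left n).eq, mul_assoc]

theorem no_three {a x y z : Y} (ha : a ≠ 1) (hx : x ^ 2 = a) (hy : y ^ 2 = a) (hz : z ^ 2 = a) (hxy : (x * y) ^ 2 = a)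
    (hxz : (x * z) ^ 2 = a) (hyz : (y * z) ^ 2 = a) (hxyz : (x * (y * z)) ^ 2 = a) : False := by
  have key : ∀ {u v : Y}, u ^ 2 = a → (u * v) ^ 2 = a → u⁻¹ * v * u = v⁻¹ := fun {u v} h1 h2 => by
    have h3 : u * v * (u * v) = u * u := by rw [← pow_two, ← pow_two, h1, h2]
    calc u⁻¹ * v * u = u⁻¹ * (u⁻¹ * (u * v * (u * v))) * v⁻¹ := by group
      _ = v⁻¹ := by rw [h3]; group
  have h1 : y⁻¹ * z⁻¹ = z⁻¹ * y⁻¹ := by
    rw [← mul_inv_rev y z, ← key hx hxyz, ← key hx hxy, ← key hx hxz]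
    group
  have h2 : y⁻¹ * z * y = z := by
    rw [mul_assoc, inv_injective (by rw [mul_inv_rev, mul_inv_rev, h1] : (z * y)⁻¹ = (y * z)⁻¹), inv_mul_cancel_left]
  rw [key hy hyz] at h2
  exact ha (by rw [← hz, pow_two, ← mul_inv_cancel z, h2])

end Grp

variable {p : ℕ} [Fact p.Prime] {k : Type} [Field k] [CharP k p] {Y : Type} [Group Y] {N : Type} [Fintype N]
  [DecidableEq N] {ρ : Y →* GL N k} {F : MulAut Y} {G : Subgroup Y} [IsAlgClosed k] {D : Datum p ρ F G}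

variable (D) in
/-- two root groups commute -/
def Cm (a b : D.I → ℤ) : Prop := ∀ u ∈ D.X a, ∀ v ∈ D.X b, u * v = v * u

variable (D) in
/-- the supports of the commutators -/
def CZ (a b : D.I → ℤ) : Set (D.I → ℤ) := {c | ZB D.cs D.h a b c ∧ ¬ Cm D a b}

theorem crel_cz (H : CommZ D.cs D.h D.X) : CRel D (CZ D) := fun a b ha hb h1 h2 => by
  refine ⟨?_, fun u hu v hv => ?_⟩
  · rintro c ⟨⟨hc, i, j, hi, hj, e⟩, -⟩
    exact ⟨hc, 1, i, j, one_pos, hi, hj, by rw [one_smul, e]⟩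
  · by_cases h : Cm D a b
    · rw [commutatorElement_eq_one_iff_mul_comm.2 (h u hu v hv)]
      exact one_mem _
    · refine RGD.Sup_mono ?_ (H a b ha hb h1 h2 u hu v hv)
      exact fun c hc => ⟨hc, h⟩

theorem S_le_X {A : Set (D.I → ℤ)} {a : D.I → ℤ} (h : A ⊆ {a}) : D.S A ≤ D.X a :=
  RGD.Sup_le fun b hb => by rw [h hb]

theorem X_pow_p {a : D.I → ℤ} (ha : D.Rt a) {u : Y} (hu : u ∈ D.X a) : u ^ p = 1 := by
  obtain ⟨s, rfl⟩ := (D.mem_X a ha _).1 hu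
  exact x_pow_p ha s

theorem Crd.pow_p {A B : Set (D.I → ℤ)} {κ : (D.I → ℤ) → Y → k} (H : Crd D A B κ) {y : Y} (hy : y ∈ D.S A) :
    y ^ p ∈ D.S (A \ B) :=
  H.ker _ (pow_mem hy p) fun b hb => by rw [H.pow hb hy, CharP.cast_eq_zero, zero_mul]

theorem Crd.pow_p' {A : Set (D.I → ℤ)} {κ : (D.I → ℤ) → Y → k} (H : Crd D A A κ) {y : Y} (hy : y ∈ D.S A) :
    y ^ p = 1 := by
  have := H.pow_p hy
  rwa [Set.sdiff_self, Datum.S, Nodes.OppDec.Sup_empty, Subgroup.mem_bot] at this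

theorem cpr_act (w : D.W) (a : D.I → ℤ) {b : D.I → ℤ} (hb : D.Rt b) :
    cpr D.cs D.h (D.act w a) (D.act w b) = cpr D.cs D.h a b := cpr_rep D.cs D.h w a hb

theorem ht_ne_zero {a : D.I → ℤ} (ha : D.Rt a) : htHom a ≠ 0 := by
  rcases ha.pos_or_neg with h4 | h4
  · exact (D.ht_pos_of_pos a ⟨ha, h4⟩).ne'
  · have := D.ht_pos_of_pos (-a) ⟨ha.neg, neg_nonneg.2 h4⟩
    rw [map_neg] at this
    omega

/-- fixed elements attached to an orbit -/
theorem Crd.exists_orbit {A B : Set (D.I → ℤ)} {κ : (D.I → ℤ) → Y → k} (H : Crd D A B κ) {e : ℕ}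
    (hex : ∀ a, D.Rt a → D.ex a = e) (hA : ∀ a ∈ A, D.g a ∈ A) (hB : ∀ b ∈ B, D.g b ∈ B) {b : D.I → ℤ} (hb : b ∈ B) :
    ∃ C : k, C ≠ 0 ∧ ∀ s, C * s ^ p ^ (e * Function.minimalPeriod D.g b) = s →
      ∃ y ∈ D.S A, F y = y ∧ κ b y = s ∧ ∀ a ∈ B, κ a y ≠ 0 → ∃ i, D.g^[i] b = a := by
  have hr : ∀ b ∈ B, D.Rt b := fun b hb => H.root b (H.sub hb)
  obtain ⟨C, hC, h1⟩ := Max.exists_orbit (cF_ne (D := D)) (q := p ^ e) (pow_ne_zero _ (Fact.out : p.Prime).ne_zero)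
    (g_injOn hr) hB hb (periodic (hr b hb))
  refine ⟨C, hC, fun s hs => ?_⟩
  obtain ⟨t, h2, h3, h4⟩ := h1 s (by rwa [← pow_mul])
  obtain ⟨y, hy, h5, h6⟩ := H.exists_fix hA hB (t := t) fun a ha => by rw [hex a (hr a ha), h2 a ha]
  exact ⟨y, hy, h5, by rw [h6 b hb, h3], fun a ha h => h4 a (by rwa [← h6 a ha])⟩

variable (D) in
/-- the hypotheses -/
structure EC (e : ℕ) (θ : D.I → ℤ) : Prop where
  qs : D.QS
  he : 0 < e
  ex : ∀ a, D.Rt a → D.ex a = e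
  cz : CommZ D.cs D.h D.X
  hE : HE p F (D.S {a | D.Rt a})
  root : D.Rt θ
  dom : Dom D.A θ
  dc : ∀ i, DCon D {a | D.Rt a} (D.g^[i] θ)

variable (D) in
/-- the orbit of `θ` -/
def Orb (θ : D.I → ℤ) : Set (D.I → ℤ) := {a | ∃ i, D.g^[i] θ = a}

namespace EC

variable {e : ℕ} {θ : D.I → ℤ} (H : EC D e θ)
include H

theorem orb {a : D.I → ℤ} (ha : a ∈ Orb D θ) : D.Rt a ∧ Dom D.A a ∧ htHom a = htHom θ := by
  obtain ⟨i, rfl⟩ := ha
  induction i with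
  | zero => exact ⟨H.root, H.dom, rfl⟩
  | succ i ih =>
    rw [Function.iterate_succ_apply']
    exact ⟨D.g_root _ ih.1, dom_g H.ex H.qs ih.1 ih.2.1, by rw [ht_g H.ex H.qs ih.1, ih.2.2]⟩

theorem finite : (Orb D θ).Finite := D.finite_roots.subset fun _ ha => (H.orb ha).1

theorem orth {a b : D.I → ℤ} (ha : a ∈ Orb D θ) (hb : b ∈ Orb D θ) (h : a ≠ b) : cpr D.cs D.h a b = 0 := by
  obtain ⟨a1, a2, a3⟩ := H.orb ha
  obtain ⟨b1, b2, b3⟩ := H.orb hb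
  refine le_antisymm (not_lt.1 fun h0 => ?_) (dom_cpr b2 b1 (dom_nonneg a2 a1))
  refine ht_ne_zero (isRoot_sub a1 b1 h (ne_neg_of_nonneg a1 (dom_nonneg a2 a1) (dom_nonneg b2 b1)) h0) ?_
  rw [map_sub, a3, b3, sub_self]

theorem orth' {a b : D.I → ℤ} (ha : a ∈ Orb D θ) (hb : b ∈ Orb D θ) (h : a ≠ b) (w : D.W) :
    cpr D.cs D.h (D.act w a) b = 0 :=
  cpr_rep_zero (H.orb hb).2.1 (H.orb hb).1 (H.orb ha).2.1 (H.orb ha).1 (H.orth ha hb h) w

theorem cent {a u : Y} (ha : a ∈ D.S (Orb D θ)) (hu : u ∈ D.U) : a * u = u * a := by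
  refine comm_S_S ?_ ha hu
  rintro _ ⟨i, rfl⟩ c hc
  have := H.orb ⟨i, rfl⟩
  exact H.dc i c hc.1 (dom_cpr this.2.1 this.1 hc.2)

/-- the sum of the coroots of the orbit -/
noncomputable def lam : (D.I → ℤ) →+ ℤ := ∑ b ∈ H.finite.toFinset, el D.cs D.h b

theorem lam_apply (a : D.I → ℤ) : H.lam a = ∑ b ∈ H.finite.toFinset, cpr D.cs D.h a b := by
  rw [lam, AddMonoidHom.finsetSum_apply]; rfl

theorem lam_nonneg {a : D.I → ℤ} (ha : 0 ≤ a) : 0 ≤ H.lam a := by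
  rw [lam_apply]
  exact Finset.sum_nonneg fun b hb =>
    dom_cpr (H.orb (H.finite.mem_toFinset.1 hb)).2.1 (H.orb (H.finite.mem_toFinset.1 hb)).1 ha

theorem nonneg_of_lam {a : D.I → ℤ} (ha : D.Rt a) (h : 0 < H.lam a) : 0 ≤ a := by
  by_contra h1
  have := H.lam_nonneg (ha.not_nonneg_iff_neg.1 h1)
  rw [map_neg] at this
  omega

theorem lam_pos {a b : D.I → ℤ} (ha : D.Rt a) (hb : b ∈ Orb D θ) (h : 0 < cpr D.cs D.h a b) : 0 < H.lam a := by
  rw [lam_apply]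
  have h0 := nonneg_of_cpr_pos (H.orb hb).2.1 (H.orb hb).1 ha h
  exact Finset.sum_pos' (fun b hb =>
    dom_cpr (H.orb (H.finite.mem_toFinset.1 hb)).2.1 (H.orb (H.finite.mem_toFinset.1 hb)).1 h0)
    ⟨b, H.finite.mem_toFinset.2 hb, h⟩

theorem lam_orb {a : D.I → ℤ} (ha : a ∈ Orb D θ) : 0 < H.lam a :=
  H.lam_pos (H.orb ha).1 ha (by rw [cpr_self _ _ (H.orb ha).1]; omega)

theorem V_le : D.S {a | D.Rt a ∧ 0 < H.lam a} ≤ D.U := RGD.Sup_mono fun _ ha => ⟨ha.1, H.nonneg_of_lam ha.1 ha.2⟩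

theorem conj_V {u v : Y} (hu : u ∈ D.U) (hv : v ∈ D.S {a | D.Rt a ∧ 0 < H.lam a}) :
    u * v * u⁻¹ ∈ D.S {a | D.Rt a ∧ 0 < H.lam a} :=
  conj_S_S (A := RGD.Pos D.cs D.h) (fun _ h => h.1) (fun a ha b hb u hu v hv => crel_btwn.conj
    (A := {a | D.Rt a ∧ 0 < H.lam a}) ha.1
    (fun c hc => ⟨hc.1, ne_neg_of_nonneg ha.1 ha.2 (H.nonneg_of_lam hc.1 hc.2)⟩)
    (fun c hc _ d hd => ⟨hd.1, btwn_pos' (Btwn.symm hd) H.lam hc.2 (H.lam_nonneg ha.2)⟩) hu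
    (RGD.le_Sup (X := D.X) hb hv)) hu v hv

theorem pel_comm {f : Y} (hf : f ∈ G) (hF : F f = f) {y : Y} (hy : y ∈ D.S {a | D.Rt a ∧ 0 < H.lam a}) (hy1 : y ≠ 1)
    (hc : f * y = y * f) {a : Y} (ha : a ∈ D.S (Orb D θ)) : ∃ j : ℕ, (a⁻¹ * (f * a * f⁻¹)) ^ p ^ j = 1 := by
  obtain ⟨w, u, hu, m, hm, v, hv, rfl⟩ := D.exists_normal_form hf
  have hv' := D.NW_le_U w hv
  have hw : D.Fw w = w := by
    rw [map_mul, map_mul] at hF
    exact (D.eq_of_mem_UNU ((H.qs.F_mem_U u).2 hu) hu hm.mapF hm ((H.qs.F_mem_U v).2 hv') hv' hF).1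
  have hiff : ∀ b ∈ Orb D θ, D.act w b = -b ↔ D.act w θ = -θ := by
    rintro _ ⟨i, rfl⟩
    induction i with
    | zero => exact Iff.rfl
    | succ i ih =>
      have hr := (H.orb ⟨i, rfl⟩).1
      rw [← ih, Function.iterate_succ_apply', ← D.g_neg hr]
      conv_lhs => rw [← hw, ← D.g_act w hr]
      exact ⟨fun h => D.g_inj (hr.act w) hr.neg h, fun h => by rw [h]⟩
  by_cases h0 : D.act w θ = -θ
  · exfalso
    have h1 : m * (v * y * v⁻¹) * m⁻¹ ∈ D.S (Nodes.OppDec.Neg D.cs D.h) := by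
      refine D.conj_mem_S (S := {a | D.Rt a ∧ 0 < H.lam a}) (S' := Nodes.OppDec.Neg D.cs D.h) hm (fun _ h => h.1)
        (fun c hc => ⟨hc.1.act w, ?_⟩) (H.conj_V hv' hy)
      rw [← (hc.1.act w).not_nonneg_iff]
      intro h2
      have h3 : 0 ≤ H.lam (D.act w c) := H.lam_nonneg h2
      have h4 : H.lam (D.act w c) = -H.lam c := by
        rw [lam_apply, lam_apply, ← Finset.sum_neg_distrib]
        refine Finset.sum_congr rfl fun b hb => ?_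
        have hb' := H.finite.mem_toFinset.1 hb
        rw [← cpr_act w c (H.orb hb').1, (hiff b hb').2 h0, cpr_neg_right _ _ _ (H.orb hb').1, neg_neg]
      have := hc.2
      omega
    have h2 : m * (v * y * v⁻¹) * m⁻¹ = u⁻¹ * y * u := by
      calc _ = u⁻¹ * (u * m * v * y) * (v⁻¹ * m⁻¹) := by group
        _ = _ := by rw [hc]; group
    rw [h2] at h1
    have h3 := D.eq_one_of_mem_U_of_mem_UN (mul_mem (mul_mem (inv_mem hu) (H.V_le hy)) hu) h1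
    exact hy1 (by rw [← mul_inv_cancel_right y u, ← mul_inv_cancel_left u y, mul_assoc u, h3]; group)
  · have h1 : a⁻¹ * (u * m * v * a * (u * m * v)⁻¹) = u * (a⁻¹ * (m * a * m⁻¹)) * u⁻¹ := by
      calc _ = a⁻¹ * u * (m * (v * a * v⁻¹) * m⁻¹) * u⁻¹ := by group
        _ = _ := by rw [← H.cent ha hv', H.cent (inv_mem ha) hu]; group
    have hne : ∀ b ∈ Orb D θ, D.act w b ≠ -b := fun b hb h => h0 ((hiff b hb).1 h)
    let μ : (D.I → ℤ) →+ ℤ := ∑ b ∈ H.finite.toFinset, (el D.cs D.h b + el D.cs D.h (D.act w b))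
    have hμ : ∀ c b, b ∈ Orb D θ → (∀ b' ∈ Orb D θ, b' ≠ b → cpr D.cs D.h c b' = 0 ∧ cpr D.cs D.h c (D.act w b') = 0) →
        μ c = cpr D.cs D.h c b + cpr D.cs D.h c (D.act w b) := fun c b hb h => by
      simp only [μ]
      rw [AddMonoidHom.finsetSum_apply, Finset.sum_eq_single b]
      · rfl
      · intro b' hb' hne
        obtain ⟨e1, e2⟩ := h b' (H.finite.mem_toFinset.1 hb') hne
        rw [AddMonoidHom.add_apply, el_apply, el_apply, e1, e2, add_zero]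
      · exact fun h => absurd (H.finite.mem_toFinset.2 hb) h
    obtain ⟨j, hj⟩ := pel_of_pos (A := Orb D θ ∪ D.act w '' Orb D θ) (by
      rintro c (hc | ⟨b, hb, rfl⟩)
      exacts [(H.orb hc).1, (H.orb hb).1.act w]) μ (by
      rintro c (hc | ⟨b, hb, rfl⟩)
      · have hr := (H.orb hc).1
        rw [hμ c c hc fun b' hb' hne => ⟨H.orth hc hb' hne.symm,
          (cpr_zero_comm _ _ ((H.orb hb').1.act w) hr).1 (H.orth' hb' hc hne w)⟩, cpr_self _ _ hr, cpr_rep_symm hr]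
        have := cpr_rep_ge hr (hne c hc)
        omega
      · have hr := (H.orb hb).1
        rw [hμ _ b hb fun b' hb' hne => ⟨H.orth' hb hb' hne.symm w, by
          rw [cpr_rep _ _ w b (H.orb hb').1, H.orth hb hb' hne.symm]⟩, cpr_self _ _ (hr.act w)]
        have : -1 ≤ cpr D.cs D.h (D.act w b) b := cpr_rep_ge hr (hne b hb)
        omega)
      (mul_mem (inv_mem (RGD.Sup_mono Set.subset_union_left ha))
        (D.conj_mem_S hm (fun b hb => (H.orb hb).1) (fun b hb => Or.inr ⟨b, hb, rfl⟩) ha))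
    exact ⟨j, by rw [h1, conj_pow, hj, mul_one, mul_inv_cancel]⟩

/-- the unique subgroup of order `p` -/
theorem up {a : Y} (ha : a ∈ D.S (Orb D θ)) (hF : F a = a) (h1 : a ≠ 1) (hp : a ^ p = 1) {y : Y}
    (hy : y ∈ D.S {a | D.Rt a ∧ 0 < H.lam a}) (hFy : F y = y) (hyp : y ^ p = 1) : y ∈ Subgroup.zpowers a := by
  by_contra h
  have hV : D.S {a | D.Rt a ∧ 0 < H.lam a} ≤ D.S {a | D.Rt a} := RGD.Sup_mono fun _ h => h.1
  have ha' : a ∈ D.S {a | D.Rt a ∧ 0 < H.lam a} := by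
    refine RGD.Sup_mono ?_ ha
    exact fun b hb => ⟨(H.orb hb).1, H.lam_orb hb⟩
  obtain ⟨e', he', h2, f, hf, h3, h4, h5⟩ := H.hE a (hV ha') y (hV hy) hF hFy hp hyp h1 (H.cent ha (H.V_le hy)) h
  have h6 : e' ∈ D.S {a | D.Rt a ∧ 0 < H.lam a} := (Subgroup.closure_le _).2 (by
    rintro _ (rfl | rfl)
    exacts [ha', hy]) he'
  obtain ⟨j, hj⟩ := H.pel_comm (D.S_le_G (fun _ h => h) hf) h3 h6 h2 h4 ha
  exact h5 j hj

theorem fix : e = 1 ∧ D.g θ = θ ∧ ∃ a ∈ D.X θ, F a = a ∧ a ≠ 1 ∧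
    ∀ y ∈ D.S {c | D.Rt c ∧ 0 < cpr D.cs D.h c θ}, F y = y → y ^ p = 1 → y ∈ Subgroup.zpowers a := by
  have hp : p.Prime := Fact.out
  have hθ : θ ∈ Orb D θ := ⟨0, rfl⟩
  have hg : ∀ a ∈ Orb D θ, D.g a ∈ Orb D θ := by
    rintro _ ⟨i, rfl⟩
    exact ⟨i + 1, Function.iterate_succ_apply' _ _ _⟩
  obtain ⟨κ, K⟩ := exists_crd (crel_cz H.cz) (A := Orb D θ) (B := Orb D θ) (fun a ha => (H.orb ha).1) H.lam
    (fun a ha => H.lam_orb ha) subset_rfl fun a ha a' ha' _ c hc => absurd (fun u hu v hv =>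
      H.cent (RGD.le_Sup (X := D.X) ha hu) (RGD.le_Sup (X := D.X) (S := RGD.Pos D.cs D.h)
        ⟨(H.orb ha').1, dom_nonneg (H.orb ha').2.1 (H.orb ha').1⟩ hv)) hc.2
  obtain ⟨C, hC, h1⟩ := K.exists_orbit H.ex hg hg hθ
  have hd := Function.minimalPeriod_pos_of_mem_periodicPts (periodic H.root)
  have hn := Nat.mul_pos H.he hd
  obtain ⟨s₀, hs, hs0⟩ := exists_sol_ne (p := p) hC hn
  obtain ⟨a, ha, hFa, hκ, -⟩ := h1 s₀ hs
  have ha1 : a ≠ 1 := fun h => hs0 (by rw [← hκ, h, K.one hθ])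
  have hV : D.S (Orb D θ) ≤ D.S {a | D.Rt a ∧ 0 < H.lam a} :=
    RGD.Sup_mono fun b hb => ⟨(H.orb hb).1, H.lam_orb hb⟩
  have h2 : e * Function.minimalPeriod D.g θ = 1 := by
    by_contra h3
    obtain ⟨s, h4, h5⟩ := exists_sol (p := p) hC hn (E := (fun i : ℕ => (i : k) * s₀) '' Set.Iio p)
      ((Set.finite_Iio p).image _) (lt_of_le_of_lt (Set.ncard_image_le (Set.finite_Iio p)) (by
        rw [Set.ncard_Iio_nat]
        conv_lhs => rw [← pow_one p]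
        exact Nat.pow_lt_pow_right hp.one_lt (by omega)))
    obtain ⟨y, hy, hFy, hκy, -⟩ := h1 s h4
    obtain ⟨i, hi, rfl⟩ := exists_pow_lt hp.pos (K.pow_p' ha)
      (H.up ha hFa ha1 (K.pow_p' ha) (hV hy) hFy (K.pow_p' hy))
    exact h5 ⟨i, hi, by rw [← hκy, K.pow hθ ha, hκ]⟩
  have h3 : D.g θ = θ := Function.minimalPeriod_eq_one_iff_isFixedPt.1 (Nat.eq_one_of_mul_eq_one_left h2)
  refine ⟨Nat.eq_one_of_mul_eq_one_right h2, h3, a, S_le_X ?_ ha, hFa, ha1, fun y hy hFy hyp =>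
    H.up ha hFa ha1 (K.pow_p' ha) (RGD.Sup_mono ?_ hy) hFy hyp⟩
  · rintro _ ⟨i, rfl⟩
    exact Function.iterate_fixed h3 i
  · exact fun c hc => ⟨hc.1, H.lam_pos hc.1 hθ hc.2⟩

/-- the conclusion -/
theorem ext : e = 1 ∧ D.g θ = θ ∧ (∃ y ∈ D.U, F y = y ∧ y ^ p = 1 ∧ y ≠ 1) ∧
    (Nb D.cs D.h {a | D.Rt a} θ = ∅ ∨ (p = 2 ∧ ∃ b, Nb D.cs D.h {a | D.Rt a} θ = {b, D.g b} ∧ D.g (D.g b) = b ∧
      θ = b + D.g b ∧ cpr D.cs D.h b θ = 1 ∧ ¬ Cm D b (D.g b) ∧ ∃ y ∈ D.U, F y = y ∧ y ^ 4 = 1 ∧ y ^ 2 ≠ 1)) := by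
  have hp : p.Prime := Fact.out
  obtain ⟨he, hg, a, ha, hFa, ha1, up⟩ := H.fix
  have hap := X_pow_p H.root ha
  have hθ0 := dom_nonneg H.dom H.root
  have hθ2 := cpr_self D.cs D.h H.root
  refine ⟨he, hg, ⟨a, RGD.le_Sup (X := D.X) (S := RGD.Pos D.cs D.h) ⟨H.root, hθ0⟩ ha, hFa, hap, ha1⟩, ?_⟩
  have cg : ∀ c, D.Rt c → cpr D.cs D.h (D.g c) θ = cpr D.cs D.h c θ := fun c hc => by
    conv_lhs => rw [← hg]
    exact cpr_g H.ex hc H.root
  have zb : ∀ {a a' c n}, ZB D.cs D.h a a' c → 0 < n → n ≤ cpr D.cs D.h a θ → n ≤ cpr D.cs D.h a' θ →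
      2 * n ≤ cpr D.cs D.h c θ := by
    rintro a a' c n ⟨-, i, j, hi, hj, rfl⟩ h0 h1 h2
    rw [cpr_add', cpr_smul', cpr_smul']
    nlinarith
  have zX : ∀ y ∈ Subgroup.zpowers a, y ∈ D.S {θ} := fun y hy =>
    RGD.le_Sup (X := D.X) (S := {θ}) rfl ((Subgroup.zpowers_le.2 ha) hy)
  -- the neighbours have pairing one
  have one : ∀ c, D.Rt c → c ≠ θ → cpr D.cs D.h c θ ≤ 1 := fun c hc hne => by
    by_contra h1
    obtain ⟨κ, K⟩ := exists_crd (crel_cz H.cz) (A := {c | D.Rt c ∧ 2 ≤ cpr D.cs D.h c θ})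
      (B := {c | D.Rt c ∧ 2 ≤ cpr D.cs D.h c θ}) (fun _ h => h.1) (el D.cs D.h θ)
      (fun a ha => lt_of_lt_of_le two_pos ha.2) subset_rfl fun a ha a' ha' _ c hc => by
        have := zb hc.1 two_pos ha.2 ha'.2
        have := cpr_le_three hc.1.1 H.root
        omega
    have hg2 : ∀ a ∈ {c | D.Rt c ∧ 2 ≤ cpr D.cs D.h c θ}, D.g a ∈ {c | D.Rt c ∧ 2 ≤ cpr D.cs D.h c θ} :=
      fun a ha => ⟨D.g_root a ha.1, by rw [cg a ha.1]; exact ha.2⟩
    have hc2 : c ∈ {c | D.Rt c ∧ 2 ≤ cpr D.cs D.h c θ} := ⟨hc, by omega⟩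
    obtain ⟨C, hC, h2⟩ := K.exists_orbit H.ex hg2 hg2 hc2
    obtain ⟨s, hs, hs0⟩ := exists_sol_ne (p := p) hC
      (Nat.mul_pos H.he (Function.minimalPeriod_pos_of_mem_periodicPts (periodic hc)))
    obtain ⟨y, hy, hFy, hκ, -⟩ := h2 s hs
    refine hs0 (hκ ▸ K.zero_of_mem hc2 (A' := {θ}) ?_ hne (zX y (up y (RGD.Sup_mono ?_ hy) hFy (K.pow_p' hy))))
    · rintro _ rfl
      exact ⟨H.root, hθ2.ge⟩
    · exact fun c hc => ⟨hc.1, lt_of_lt_of_le two_pos hc.2⟩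
  set A : Set (D.I → ℤ) := {c | D.Rt c ∧ 0 < cpr D.cs D.h c θ} with hA
  set B := Nb D.cs D.h {a | D.Rt a} θ with hB
  have hθA : θ ∈ A := ⟨H.root, by omega⟩
  have hAB : A \ B ⊆ {θ} := fun c hc => by_contra fun h => hc.2 ⟨hc.1.1, h, hc.1.2⟩
  obtain ⟨κ, K⟩ := exists_crd (crel_cz H.cz) (A := A) (B := B) (fun _ h => h.1) (el D.cs D.h θ) (fun a ha => ha.2)
    (fun c hc => ⟨hc.1, hc.2.2⟩) fun a ha a' ha' _ c hc => by
      have h1 := zb hc.1 one_pos ha.2 ha'.2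
      have h2 : c = θ := by_contra fun h => by have := one c hc.1.1 h; omega
      rw [h2]
      exact ⟨hθA, fun h => h.2.1 rfl⟩
  have gA : ∀ c ∈ A, D.g c ∈ A := fun c hc => ⟨D.g_root c hc.1, by rw [cg c hc.1]; exact hc.2⟩
  have gB : ∀ c ∈ B, D.g c ∈ B := fun c hc => ⟨D.g_root c hc.1, fun h => hc.2.1 (D.g_inj hc.1 H.root (h.trans hg.symm)),
    by rw [cg c hc.1]; exact hc.2.2⟩
  have hAU : D.S A ≤ D.U := RGD.Sup_mono fun c hc => ⟨hc.1, nonneg_of_cpr_pos H.dom H.root hc.1 hc.2⟩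
  have hXA : D.X θ ≤ D.S A := RGD.le_Sup hθA
  have z0 : ∀ y ∈ D.S A, F y = y → y ^ p = 1 → ∀ b ∈ B, κ b y = 0 := fun y hy hFy hyp b hb =>
    K.zero_of_mem hb (A' := {θ}) (by rintro _ rfl; exact hθA) hb.2.1 (zX y (up y hy hFy hyp))
  have pw : ∀ y ∈ D.S A, F y = y → y ^ p ∈ Subgroup.zpowers a := fun y hy hFy => by
    have h1 := S_le_X hAB (K.pow_p hy)
    exact up _ (hXA h1) (by rw [map_pow, hFy]) (X_pow_p H.root h1)
  rcases B.eq_empty_or_nonempty with h0 | ⟨b, hb⟩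
  · exact Or.inl h0
  right
  have per : ∀ b ∈ B, 2 ≤ Function.minimalPeriod D.g b := fun b hb => by
    have h1 := Function.minimalPeriod_pos_of_mem_periodicPts (periodic hb.1)
    by_contra h2
    have h3 : D.g b = b := Function.minimalPeriod_eq_one_iff_isFixedPt.1 (by omega)
    obtain ⟨s, hs, hs0⟩ := exists_sol_ne (p := p) (cF_ne (D := D) b) one_pos
    have h4 := z0 _ (x_mem_S (K.sub hb) hb.1 s) (by rw [F_x hb.1, h3, H.ex b hb.1, he, hs]) (x_pow_p hb.1 s) b hb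
    exact hs0 (by rwa [K.self b hb] at h4)
  obtain ⟨C, hC, hy⟩ := K.exists_orbit H.ex gA gB hb
  rw [he, one_mul] at hy
  have hd := per b hb
  have hd0 : 0 < Function.minimalPeriod D.g b := by omega
  have p2 : p = 2 := by
    by_contra hp2
    choose! y hy hFy hκ _ using hy
    obtain ⟨s, hs, s', hs', hne, e1⟩ := Set.exists_ne_map_eq_of_ncard_lt_of_maps_to
      (s := {s : k | C * s ^ p ^ Function.minimalPeriod D.g b = s}) (t := (fun i : ℕ => a ^ i) '' Set.Iio p)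
      (f := fun s => y s ^ p) (lt_of_le_of_lt (Set.ncard_image_le (Set.finite_Iio p)) (by
        rw [Set.ncard_Iio_nat, ncard_sol hC hd0]
        conv_lhs => rw [← pow_one p]
        exact Nat.pow_lt_pow_right hp.one_lt hd)) (fun s hs => by
        obtain ⟨i, hi, e⟩ := exists_pow_lt hp.pos hap (pw _ (hy s hs) (hFy s hs))
        exact ⟨i, hi, e.symm⟩) ((Set.finite_Iio p).image _)
    have m1 := hy s hs
    have m2 := inv_mem (hy s' hs')
    have h1 : (y s * (y s')⁻¹)⁻¹ * ((y s')⁻¹ * y s) ∈ D.X θ :=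
      S_le_X hAB (K.ker _ (mul_mem (inv_mem (mul_mem m1 m2)) (mul_mem m2 m1)) fun c hc => by
        rw [K.mul c hc _ (inv_mem (mul_mem m1 m2)) _ (mul_mem m2 m1), K.inv hc (mul_mem m1 m2), K.mul c hc _ m1 _ m2,
          K.mul c hc _ m2 _ m1]
        ring)
    have h2 : ∀ u ∈ D.S A, Commute ((y s * (y s')⁻¹)⁻¹ * ((y s')⁻¹ * y s)) u := fun u hu =>
      H.cent (RGD.le_Sup (X := D.X) (S := Orb D θ) ⟨0, rfl⟩ h1) (hAU hu)
    have h3 := mul_pow_central (mul_inv_cancel_left _ _).symm (h2 _ m1) (h2 _ m2) p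
    obtain ⟨j, hj⟩ := hp.dvd_choose_self two_ne_zero (lt_of_le_of_ne hp.two_le (Ne.symm hp2))
    rw [hj, pow_mul, X_pow_p H.root h1, one_pow, mul_one, inv_pow, show y s ^ p = y s' ^ p from e1, mul_inv_cancel] at h3
    have h4 := z0 _ (mul_mem m1 m2) (by rw [map_mul, map_inv, hFy s hs, hFy s' hs']) h3 b hb
    rw [K.mul b hb _ m1 _ m2, K.inv hb (hy s' hs'), hκ s hs, hκ s' hs'] at h4
    exact hne (by linear_combination h4)
  subst p2
  have sq : ∀ y ∈ D.S A, F y = y → ∀ b ∈ B, κ b y ≠ 0 → y ^ 2 = a := fun y hy hFy b hb h => by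
    obtain ⟨i, hi, e⟩ := exists_pow_lt two_pos hap (pw y hy hFy)
    interval_cases i
    · exact absurd (z0 y hy hFy (by rw [e, pow_zero]) b hb) h
    · rw [e, pow_one]
  have add2 : ∀ {s t : k}, s ≠ t → s + t ≠ 0 := fun {s t} h h' => h (by
    linear_combination h' - t * (CharP.cast_eq_zero k 2 : ((2 : ℕ) : k) = 0))
  obtain ⟨s₁, e₁, n₁⟩ := exists_sol_ne (p := 2) hC hd0
  obtain ⟨s₂, e₂, n₂⟩ := exists_sol (p := 2) hC hd0 (E := {0, s₁}) (Set.toFinite _) (by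
    have := Set.ncard_insert_le (0 : k) {s₁}
    rw [Set.ncard_singleton] at this
    exact lt_of_le_of_lt this (lt_of_lt_of_le (by norm_num) (Nat.pow_le_pow_right two_pos hd)))
  simp only [Set.mem_insert_iff, Set.mem_singleton_iff, not_or] at n₂
  obtain ⟨y₁, m₁, f₁, k₁, o₁⟩ := hy s₁ e₁
  obtain ⟨y₂, m₂, f₂, k₂, o₂⟩ := hy s₂ e₂
  have q₁ := sq y₁ m₁ f₁ b hb (k₁ ▸ n₁)
  have three : ∀ y₃ ∈ D.S A, F y₃ = y₃ → ∀ c ∈ B, κ c y₃ ≠ 0 → κ c y₁ + κ c y₃ ≠ 0 → κ c y₂ + κ c y₃ ≠ 0 →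
      κ c y₁ + (κ c y₂ + κ c y₃) ≠ 0 → False := fun y₃ m₃ f₃ c hc h1 h2 h3 h4 =>
    no_three ha1 q₁ (sq y₂ m₂ f₂ b hb (k₂ ▸ n₂.1)) (sq y₃ m₃ f₃ c hc h1)
      (sq _ (mul_mem m₁ m₂) (by rw [map_mul, f₁, f₂]) b hb (by
        rw [K.mul b hb _ m₁ _ m₂, k₁, k₂]; exact add2 (Ne.symm n₂.2)))
      (sq _ (mul_mem m₁ m₃) (by rw [map_mul, f₁, f₃]) c hc (by rwa [K.mul c hc _ m₁ _ m₃]))
      (sq _ (mul_mem m₂ m₃) (by rw [map_mul, f₂, f₃]) c hc (by rwa [K.mul c hc _ m₂ _ m₃]))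
      (sq _ (mul_mem m₁ (mul_mem m₂ m₃)) (by rw [map_mul, map_mul, f₁, f₂, f₃]) c hc (by
        rwa [K.mul c hc _ m₁ _ (mul_mem m₂ m₃), K.mul c hc _ m₂ _ m₃]))
  have d2 : Function.minimalPeriod D.g b = 2 := by
    by_contra h1
    obtain ⟨s₃, e₃, n₃⟩ := exists_sol (p := 2) hC hd0 (E := {0, s₁, s₂, s₁ + s₂}) (Set.toFinite _) (by
      have h2 := Set.ncard_insert_le (0 : k) {s₁, s₂, s₁ + s₂}
      have h3 := Set.ncard_insert_le s₁ {s₂, s₁ + s₂}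
      have h4 := Set.ncard_insert_le s₂ {s₁ + s₂}
      rw [Set.ncard_singleton] at h4
      have h5 : 2 ^ 3 ≤ 2 ^ Function.minimalPeriod D.g b := Nat.pow_le_pow_right two_pos (by omega)
      omega)
    simp only [Set.mem_insert_iff, Set.mem_singleton_iff, not_or] at n₃
    obtain ⟨y₃, m₃, f₃, k₃, -⟩ := hy s₃ e₃
    refine three y₃ m₃ f₃ b hb (k₃ ▸ n₃.1) ?_ ?_ ?_
    · rw [k₁, k₃]; exact add2 (Ne.symm n₃.2.1)
    · rw [k₂, k₃]; exact add2 (Ne.symm n₃.2.2.1)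
    · rw [k₁, k₂, k₃, ← add_assoc]; exact add2 (Ne.symm n₃.2.2.2)
  have gg : D.g (D.g b) = b := by
    have := Function.isPeriodicPt_minimalPeriod D.g b
    rwa [d2] at this
  have orb : ∀ i, D.g^[i] b = b ∨ D.g^[i] b = D.g b := fun i => by
    induction i with
    | zero => exact Or.inl rfl
    | succ i ih =>
      rw [Function.iterate_succ_apply']
      rcases ih with h | h <;> rw [h]
      exacts [Or.inr rfl, Or.inl gg]
  have hB2 : B = {b, D.g b} := by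
    refine Set.Subset.antisymm (fun c hc => ?_) (by rintro _ (rfl | rfl); exacts [hb, gB b hb])
    by_contra h1
    have z : ∀ y, (∀ a ∈ B, κ a y ≠ 0 → ∃ i, D.g^[i] b = a) → κ c y = 0 := fun y h => by
      by_contra h2
      obtain ⟨i, rfl⟩ := h c hc h2
      exact h1 (orb i)
    obtain ⟨C', hC', hy'⟩ := K.exists_orbit H.ex gA gB hc
    obtain ⟨s, hs, hs0⟩ := exists_sol_ne (p := 2) hC'
      (Nat.mul_pos H.he (Function.minimalPeriod_pos_of_mem_periodicPts (periodic hc.1)))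
    obtain ⟨y₃, m₃, f₃, k₃, -⟩ := hy' s hs
    refine three y₃ m₃ f₃ c hc ?_ ?_ ?_ ?_ <;> simp only [z y₁ o₁, z y₂ o₂, k₃, zero_add] <;> exact hs0
  have b1 : cpr D.cs D.h b θ = 1 := le_antisymm (one b hb.1 hb.2.1) hb.2.2
  have hsum : θ = b + D.g b := by
    have h1 : θ - b ∈ B := by
      refine ⟨?_, fun e => (hb.1 : D.Rt b).ne_zero (sub_eq_self.1 e), by rw [cpr_sub, hθ2, b1]; omega⟩
      have := (isRoot_refl D.cs D.h hb.1 H.root).neg
      rwa [b1, one_smul, neg_sub] at this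
    rw [hB2] at h1
    rcases h1 with h1 | h1
    · exact absurd (by rw [two_smul]; exact sub_eq_iff_eq_add.1 h1) (ne_two_smul H.root b)
    · rw [← h1, add_sub_cancel]
  refine ⟨rfl, b, hB2, gg, hsum, b1, fun hcm => ?_, y₁, hAU m₁, f₁, by
    rw [show 4 = 2 * 2 from rfl, pow_mul, q₁, hap], q₁ ▸ ha1⟩
  have hcomm : ∀ u ∈ D.S A, ∀ v ∈ D.S A, u * v = v * u := fun u hu v hv => by
    refine comm_S_S (fun c hc c' hc' u hu v hv => ?_) hu hv
    by_cases h1 : c = θ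
    · exact H.cent (RGD.le_Sup (X := D.X) (S := Orb D θ) ⟨0, h1.symm⟩ hu) (hAU (RGD.le_Sup (X := D.X) hc' hv))
    by_cases h2 : c' = θ
    · exact (H.cent (RGD.le_Sup (X := D.X) (S := Orb D θ) ⟨0, h2.symm⟩ hv) (hAU (RGD.le_Sup (X := D.X) hc hu))).symm
    have h3 : c ∈ B := ⟨hc.1, h1, hc.2⟩
    have h4 : c' ∈ B := ⟨hc'.1, h2, hc'.2⟩
    rw [hB2] at h3 h4
    rcases h3 with rfl | rfl <;> rcases h4 with rfl | rfl
    exacts [x_comm hc.1 hu hv, hcm u hu v hv, (hcm v hv u hu).symm, x_comm hc.1 hu hv]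
  refine ha1 (q₁ ▸ S_ind K.root (P := fun y => y ^ 2 = 1) (one_pow 2) (fun c hc s => x_pow_p hc.1 s)
    (fun u hu v hv h1 h2 => ?_) m₁)
  rw [Commute.mul_pow (hcomm u hu v hv), h1, h2, mul_one]

end EC

end Cfsg.Agent.SB.Exc.Max
end

-- part: SB/Exc/Max/Shape
section
/-!
# S5765, `BoxMax`: the shape of the invariant subsystems (helper50)

`boxShape : BoxShape`, `boxLoc : BoxLoc`, `cov` (every positive root is dominant or one of the two neighbours of a dominant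
root).
-/

set_option autoImplicit false
set_option linter.unusedSectionVars false
set_option linter.unusedVariables false

namespace Cfsg.Agent.SB.Exc.Max

open CoxeterSystem Cfsg.Agent.ChevalleyStructure.CoxeterGeom Cfsg.Agent.Tits.Roots Cfsg.Agent.Nodes.Reps
  Cfsg.Agent.Nodes.BNOf Cfsg.Agent.Nodes.Bruhat Cfsg.Agent.LangThm Cfsg.Agent.Nodes.SubComb
  Cfsg.Agent.Nodes.Coroot Cfsg.Agent.Nodes.Slope Cfsg.Agent.Nodes.NormalForm Cfsg.Agent.DL.Base Cfsg.Agent.DL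
  Cfsg.Agent.BpExc.Zc
open scoped Pointwise commutatorElement

attribute [local instance] fintypeSmp decSmp

variable {p : ℕ} [Fact p.Prime] {k : Type} [Field k] [CharP k p] {Y : Type} [Group Y] {N : Type} [Fintype N]
  [DecidableEq N] {ρ : Y →* GL N k} {F : MulAut Y} {G : Subgroup Y} [IsAlgClosed k] {D : Datum p ρ F G}

theorem conj_mem_roots {y : Y} (hy : y ∈ G) : ∀ m ∈ D.S {a | D.Rt a}, y * m * y⁻¹ ∈ D.S {a | D.Rt a} := by
  obtain ⟨w, u, hu, n, hn, v, hv, rfl⟩ := D.exists_normal_form hy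
  intro m hm
  have h0 : D.U ≤ D.S {a | D.Rt a} := RGD.Sup_mono fun _ h => h.1
  have h1 := h0 (D.NW_le_U w hv)
  have h2 := D.conj_mem_S (S' := {a | D.Rt a}) hn (fun _ h => h) (fun a ha => IsRoot.act ha w)
    (mul_mem (mul_mem h1 hm) (inv_mem h1))
  have h3 := mul_mem (mul_mem (h0 hu) h2) (inv_mem (h0 hu))
  convert h3 using 1
  group

theorem conj_S_roots {y : Y} (hy : y ∈ G) (hF : y⁻¹ * F y ∈ D.NN) :
    (D.conj hy hF).S {a | D.Rt a} = D.S {a | D.Rt a} := by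
  rw [Datum.conj_S]
  ext m
  rw [mem_cj]
  refine ⟨fun h => ?_, fun h => ?_⟩
  · have := conj_mem_roots hy _ h
    rwa [show y * (y⁻¹ * m * y) * y⁻¹ = m by group] at this
  · have := conj_mem_roots (inv_mem hy) _ h
    rwa [inv_inv] at this

theorem act_inj (w : D.W) {a b : D.I → ℤ} (h : D.act w a = D.act w b) : a = b := by
  rw [← act_inv_act D w a, h, act_inv_act]

theorem act_mem_nb (w : D.W) {r c : D.I → ℤ} (hr : D.Rt r) (hc : c ∈ Nb D.cs D.h {a | D.Rt a} r) :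
    D.act w c ∈ Nb D.cs D.h {a | D.Rt a} (D.act w r) :=
  ⟨IsRoot.act hc.1 w, fun e => hc.2.1 (act_inj w e), by rw [cpr_act w c hr]; exact hc.2.2⟩

theorem EC.nb {e : ℕ} {θ s : D.I → ℤ} (H : EC D e θ) (hs : s ∈ Nb D.cs D.h {a | D.Rt a} θ) :
    θ = s + D.g s ∧ D.g (D.g s) = s ∧ cpr D.cs D.h s θ = 1 ∧ ¬ Cm D s (D.g s) ∧
      (∀ c, c ∈ Nb D.cs D.h {a | D.Rt a} θ ↔ c = s ∨ c = D.g s) ∧ p = 2 ∧ ∃ y ∈ D.U, F y = y ∧ y ^ 4 = 1 ∧ y ^ 2 ≠ 1 := by
  obtain ⟨-, hg, -, h | ⟨hp, b, h1, h2, h3, h4, h5, h6⟩⟩ := H.ext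
  · rw [h] at hs
    exact hs.elim
  have hb : b ∈ Nb D.cs D.h {a | D.Rt a} θ := by rw [h1]; exact Or.inl rfl
  rw [h1] at hs ⊢
  rcases hs with rfl | rfl
  · exact ⟨h3, h2, h4, h5, fun _ => Iff.rfl, hp, h6⟩
  · rw [h2]
    refine ⟨by rw [add_comm, ← h3], rfl, ?_, fun h => h5 fun u hu v hv => (h v hv u hu).symm, fun _ => or_comm, hp, h6⟩
    conv_lhs => rw [← hg]
    rw [cpr_g H.ex hb.1 H.root, h4]

theorem shape_qs {e : ℕ} (hq : D.QS) (he : 0 < e) (hex : ∀ a, D.Rt a → D.ex a = e) (cz : CommZ D.cs D.h D.X)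
    (hE : HE p F (D.S {a | D.Rt a})) {Q : (D.I → ℤ) → Prop} (hg : ∀ a, D.Rt a → Q a → Q (D.g a))
    (hdc : ∀ θ, D.Rt θ → Q θ → DCon D {a | D.Rt a} θ) {θ : D.I → ℤ} (hθ : D.Rt θ) (hQ : Q θ) (hd : Dom D.A θ) :
    EC D e θ := by
  refine ⟨hq, he, hex, cz, hE, hθ, hd, fun i => hdc _ (D.iterate_g_root i hθ) ?_⟩
  induction i with
  | zero => exact hQ
  | succ i ih =>
    rw [Function.iterate_succ_apply']
    exact hg _ (D.iterate_g_root i hθ) ih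

theorem shape0 {e : ℕ} (he : 0 < e) (hex : ∀ a, D.Rt a → D.ex a = e) (cz : CommZ D.cs D.h D.X)
    (hE : HE p F (D.S {a | D.Rt a})) {Q : (D.I → ℤ) → Prop} (hg : ∀ a, D.Rt a → Q a → Q (D.g a))
    (hw : ∀ w a, D.Rt a → Q a → Q (D.act w a)) (hdc : ∀ θ, D.Rt θ → Q θ → DCon D {a | D.Rt a} θ) {r : D.I → ℤ}
    (hr : D.Rt r) (hQ : Q r) : (e = 1 ∧ ∃ y ∈ D.S {a | D.Rt a}, F y = y ∧ y ^ p = 1 ∧ y ≠ 1) ∧
      ∀ s ∈ Nb D.cs D.h {a | D.Rt a} r, cpr D.cs D.h s r = 1 ∧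
        (∃ s', ∀ c ∈ Nb D.cs D.h {a | D.Rt a} r, c = s ∨ c = s') ∧
        p = 2 ∧ ∃ y ∈ D.S {a | D.Rt a}, F y = y ∧ y ^ 4 = 1 ∧ y ^ 2 ≠ 1 := by
  obtain ⟨z, hz, hF, hq⟩ := D.exists_qs
  obtain ⟨w, hd⟩ := Nodes.Comb.exists_dom_rep D.cs D.h r
  have H : EC (D.conj hz hF) e (D.act w r) := shape_qs hq he hex (commZ_conj cz hz hF)
    (by rw [conj_S_roots hz hF]; exact hE) (Q := Q) (fun a ha h => hw _ _ (D.g_root a ha) (hg a ha h))
    (fun θ hθ h c hc h0 u hu v hv => comm_cj (hdc θ hθ h c hc h0 _ (mem_cj.1 hu) _ (mem_cj.1 hv))) (hr.act w)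
    (hw w r hr hQ) hd
  have hU : (D.conj hz hF).U ≤ D.S {a | D.Rt a} := by
    rw [← conj_S_roots hz hF]
    exact RGD.Sup_mono fun _ h => h.1
  obtain ⟨h1, -, ⟨y, hy, h2⟩, -⟩ := H.ext
  refine ⟨⟨h1, y, hU hy, h2⟩, fun s hs => ?_⟩
  obtain ⟨-, -, h3, -, h4, h5, y, hy, h6⟩ := H.nb (act_mem_nb w hr hs)
  refine ⟨by rw [← cpr_act w s hr]; exact h3, ⟨D.act w⁻¹ ((D.conj hz hF).g (D.act w s)), fun c hc => ?_⟩, h5, y, hU hy, h6⟩
  rcases (h4 _).1 (act_mem_nb w hr hc) with h | h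
  · exact Or.inl (act_inj w h)
  · exact Or.inr (by rw [← h, act_inv_act])

theorem boxLoc : BoxLoc := by
  intro p _ k _ _ _ Y _ N _ _ ρ σ G D e Z he hex cz hZ hF hE hp Q hg hw hdc r hr hQ
  obtain ⟨r, hr', rfl⟩ := exists_io hZ hF rfl hr
  rw [nb_io hZ hF rfl hr', Set.image_eq_empty, Set.eq_empty_iff_forall_notMem]
  intro s hs
  exact hp ((shape0 (D := D.sub hZ hF rfl) he (fun a ha => hex _ (io_mem hZ hF rfl ha).1) (commZ_sub hZ hF rfl cz)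
    (by rw [sub_S_roots]; exact hE) (Q := fun c => Q (D.io Z c))
    (fun a ha h => by rw [D.sub_g hZ hF rfl ha]; exact hg _ (io_mem hZ hF rfl ha).1 h)
    (fun w a ha h => by rw [← D.act_subW hZ hF rfl]; exact hw _ _ (io_mem hZ hF rfl ha).1 h)
    (fun θ hθ h => dcon_sub hZ hF rfl hθ (hdc _ (io_mem hZ hF rfl hθ) h)) hr' hQ).2 s hs).2.2.1

theorem boxShape : BoxShape := by
  intro p _ k _ _ _ Y _ N _ _ ρ σ G D e Z he hex cz hZ hF hE hdc
  have key := fun r hr => shape0 (D := D.sub hZ hF rfl) he (fun a ha => hex _ (io_mem hZ hF rfl ha).1)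
    (commZ_sub hZ hF rfl cz) (by rw [sub_S_roots]; exact hE) (Q := fun _ => True) (fun _ _ _ => trivial)
    (fun _ _ _ _ => trivial) (fun θ hθ _ => dcon_sub hZ hF rfl hθ (hdc _ (io_mem hZ hF rfl hθ))) (r := r) hr trivial
  refine ⟨?_, ?_, ?_⟩
  · rintro ⟨r, hr⟩
    obtain ⟨r, hr', rfl⟩ := exists_io hZ hF rfl hr
    rw [← sub_S_roots hZ hF rfl]
    exact (key r hr').1
  · rw [← shp_sub_iff hZ hF rfl]
    refine ⟨fun r hr c hc => ((key r hr).2 c hc).1, fun r hr c₁ h₁ c₂ h₂ c₃ h₃ => ?_⟩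
    obtain ⟨s', h⟩ := ((key r hr).2 c₁ h₁).2.1
    rcases h c₂ h₂ with e₂ | e₂
    · exact Or.inl e₂.symm
    rcases h c₃ h₃ with e₃ | e₃
    · exact Or.inr (Or.inl e₃.symm)
    · exact Or.inr (Or.inr (e₂.trans e₃.symm))
  · rw [← iso_sub_iff hZ hF rfl, or_iff_not_imp_left]
    intro h
    unfold Iso at h
    push Not at h
    obtain ⟨r, hr, s, hs⟩ := h
    rw [← sub_S_roots hZ hF rfl]
    exact ((key r hr).2 s hs).2.2

theorem cov0 {e : ℕ} (hq : D.QS) (he : 0 < e) (hex : ∀ a, D.Rt a → D.ex a = e) (cz : CommZ D.cs D.h D.X)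
    (hE : HE p F (D.S {a | D.Rt a})) (hdc : DC D.cs D.h D.X) {a : D.I → ℤ} (ha : D.Rt a) (h0 : 0 ≤ a) :
    ∃ θ, D.Rt θ ∧ Dom D.A θ ∧ D.g θ = θ ∧ (a = θ ∨ (θ = a + D.g a ∧ D.g (D.g a) = a)) := by
  have ec : ∀ θ, D.Rt θ → Dom D.A θ → EC D e θ := fun θ hθ hd => shape_qs hq he hex cz hE (Q := fun _ => True)
    (fun _ _ _ => trivial) (fun θ hθ _ c hc h0 => hdc θ c hθ hc h0) hθ trivial hd
  suffices h : ∃ θ, D.Rt θ ∧ Dom D.A θ ∧ (a = θ ∨ a ∈ Nb D.cs D.h {a | D.Rt a} θ) by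
    obtain ⟨θ, h1, h2, h3⟩ := h
    exact ⟨θ, h1, h2, (ec θ h1 h2).ext.2.1, h3.imp_right fun h => ⟨((ec θ h1 h2).nb h).1, ((ec θ h1 h2).nb h).2.1⟩⟩
  by_contra hc
  obtain ⟨a, ⟨ha, h0, hc⟩, hmax⟩ := Set.Finite.exists_maximalFor htHom
    {a | D.Rt a ∧ 0 ≤ a ∧ ¬ ∃ θ, D.Rt θ ∧ Dom D.A θ ∧ (a = θ ∨ a ∈ Nb D.cs D.h {a | D.Rt a} θ)}
    (D.finite_roots.subset fun _ h => h.1) ⟨a, ha, h0, hc⟩
  have h1 : ¬ Dom D.A a := fun h => hc ⟨a, ha, h, Or.inl rfl⟩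
  unfold Dom at h1
  push Not at h1
  obtain ⟨i, hi⟩ := h1
  rw [← cpr_sr D.cs D.h] at hi
  have hs := isRoot_sr D.cs D.h i
  have hs0 : (0 : D.I → ℤ) ≤ sr i := sr_nonneg i
  have hs1 : htHom (sr i : D.I → ℤ) = 1 := by
    show ∑ j, sr i j = 1
    simp [sr]
  generalize sr i = s at hi hs hs0 hs1
  obtain ⟨n, hn⟩ : ∃ n, cpr D.cs D.h a s = -n := ⟨-cpr D.cs D.h a s, by rw [neg_neg]⟩
  have h2 := isRoot_refl D.cs D.h ha hs
  rw [hn, neg_smul, sub_neg_eq_add] at h2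
  have hn0 : 0 < n := by omega
  have h3 : htHom (a + n • s) = htHom a + n := by rw [map_add, map_zsmul, hs1, smul_eq_mul, mul_one]
  have h4 : ∃ θ, D.Rt θ ∧ Dom D.A θ ∧ (a + n • s = θ ∨ a + n • s ∈ Nb D.cs D.h {a | D.Rt a} θ) := by
    by_contra h5
    have := hmax ⟨h2, add_nonneg h0 (smul_nonneg hn0.le hs0), h5⟩ (by omega)
    omega
  obtain ⟨θ, hθ, hd, h5 | h5⟩ := h4
  · have h6 : cpr D.cs D.h θ s = n := by rw [← h5, cpr_add', cpr_smul', hn, cpr_self _ _ hs]; ring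
    have h7 : s ≠ θ := fun e => by
      rw [← e, cpr_self _ _ hs] at h6
      rw [← h6, ← e, two_smul, ← add_assoc, add_eq_right] at h5
      exact ne_neg_of_nonneg ha h0 hs0 (eq_neg_of_add_eq_zero_left h5)
    obtain ⟨e1, -, -, e2, e3, -⟩ := (ec θ hθ hd).nb ⟨hs, h7, (cpr_pos_comm hθ hs).1 (by omega)⟩
    have h8 : cpr D.cs D.h (D.g s) s < 0 := not_le.1 fun h => e2 (hdc s _ hs (D.g_root s hs) h)
    have h9 : n = 1 := by
      rw [e1, cpr_add', cpr_self _ _ hs] at h6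
      omega
    rw [h9, one_smul, e1, add_comm, add_right_inj] at h5
    exact hc ⟨θ, hθ, hd, Or.inr ((e3 a).2 (Or.inr h5))⟩
  · obtain ⟨-, -, e1, -, e3, -⟩ := (ec θ hθ hd).nb h5
    rw [cpr_add', cpr_smul'] at e1
    have h6 := dom_cpr hd hθ h0
    have h7 := dom_cpr hd hθ hs0
    by_cases h8 : 0 < cpr D.cs D.h a θ
    · exact hc ⟨θ, hθ, hd, or_iff_not_imp_left.2 fun h => ⟨ha, h, h8⟩⟩
    have h9 : n * cpr D.cs D.h s θ = 1 := by omega
    have h10 : cpr D.cs D.h s θ = 1 := Int.eq_one_of_mul_eq_one_left h7 h9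
    have h11 := D.ht_pos_of_pos a ⟨ha, h0⟩
    rcases (e3 s).1 ⟨hs, fun e => by rw [e, cpr_self _ _ hθ] at h10; omega, by omega⟩ with h | h
    · rw [← h, hs1] at h3; omega
    · rw [← ht_g hex hq h2, ← h, hs1] at h3; omega

theorem cov {Z : Set Y} (hZ : Z ⊆ D.T) (hF : ∀ a ∈ D.Sz Z, D.g a ∈ D.Sz Z) (hq : ∀ a ∈ D.Sz Z, 0 ≤ a → 0 ≤ D.g a)
    {e : ℕ} (he : 0 < e) (hex : ∀ a, D.Rt a → D.ex a = e) (cz : CommZ D.cs D.h D.X) (hE : HE p F (D.S (D.Sz Z)))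
    (hdc : DC D.cs D.h D.X) {a : D.I → ℤ} (ha : a ∈ Ps D Z) :
    ∃ θ ∈ Ps D Z, Dm D Z θ ∧ D.g θ = θ ∧ (a = θ ∨ (θ = a + D.g a ∧ D.g (D.g a) = a)) := by
  obtain ⟨c, hc, rfl⟩ := exists_io hZ hF rfl ha.2
  have hqs : (D.sub hZ hF rfl).QS := fun c hc h0 => by
    rw [← io_nonneg hZ hF rfl ((D.sub hZ hF rfl).g_root c hc), D.sub_g hZ hF rfl hc]
    exact hq _ (io_mem hZ hF rfl hc) ((io_nonneg hZ hF rfl hc).2 h0)
  have := (D.sub hZ hF rfl).fW
  obtain ⟨θ, h1, h2, h3, h4⟩ := cov0 hqs he (fun a ha => hex _ (io_mem hZ hF rfl ha).1) (commZ_sub hZ hF rfl cz)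
    (by rw [sub_S_roots]; exact hE) (dc_sub hZ hF rfl hdc) hc ((io_nonneg hZ hF rfl hc).1 ha.1.2)
  have h5 := io_mem hZ hF rfl h1
  refine ⟨D.io Z θ, ⟨⟨h5.1, (io_nonneg hZ hF rfl h1).2 (dom_nonneg h2 h1)⟩, h5⟩, (dom_iff hZ hF rfl).1 h2,
    by rw [← D.sub_g hZ hF rfl h1, h3], h4.imp (congrArg _) fun h => ⟨?_, ?_⟩⟩
  · rw [h.1, map_add, D.sub_g hZ hF rfl hc]
  · rw [← D.sub_g hZ hF rfl hc, ← D.sub_g hZ hF rfl ((D.sub hZ hF rfl).g_root c hc), h.2]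

end Cfsg.Agent.SB.Exc.Max
end

private theorem dce_5cce02ee11f6 : _root_.True := by
  try have : _root_.True := by simp only [_root_.Cfsg.Agent.SB.Exc.Max.EC.lam.eq_1]
  try have : _root_.True := by simp only [_root_.Cfsg.Agent.SB.Exc.Max.Nb.congr_simp]
  try have : _root_.True := by simp only [_root_.Cfsg.Agent.SB.Exc.Max.el.congr_simp]
  exact _root_.True.intro
end

-- part: SB/Low/Defs
section
set_option linter.all false

/-!
# S5765, the groups `G₂(q)` and `³D₄(q)`, non-parabolic case: interface (helper68)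

Paper proofs: `notes/SB/low.md`.  Everything is said inside the simple group `K`: `E ≤ K` is an elementary abelian
`r`-group, `R = N_K(E)`; `Chr E X` : `X` is invariant under the automorphisms of `K` which stabilise `E`;
`Sit p r E` : the situation; `Cert p O n E` : the data for `master`.
-/

set_option autoImplicit false
set_option linter.unusedSectionVars false

namespace Cfsg.Agent.SB.Low

open Subgroup Cfsg Cfsg.Lie CoxeterSystem Cfsg.Agent.H786.FC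
open Cfsg.Agent.ChevalleyStructure.CoxeterGeom Cfsg.Agent.ChevalleyStructure.CoxeterGeomTypes Cfsg.Agent.Tits.Roots
  Cfsg.Agent.Nodes.Reps Cfsg.Agent.Nodes.Coroot Cfsg.Agent.DL Cfsg.Agent.Nodes.RGDChev Cfsg.Lie.ChevalleyDatum

/-! ### the group-theoretic situation -/

section Grp

variable {K : Type} [Group K]

/-- the normaliser -/
abbrev Nz (E : Subgroup K) : Subgroup K := normalizer (E : Set K)

/-- the centraliser -/
abbrev Cz (E : Subgroup K) : Subgroup K := centralizer (E : Set K)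

/-- the order of the centraliser of an element -/
noncomputable abbrev cc (x : K) : ℕ := Nat.card (centralizer ({x} : Set K))

/-- `X` is invariant under all automorphisms of `K` which stabilise `E` -/
def Chr (E X : Subgroup K) : Prop := ∀ α : MulAut K, (∀ x ∈ E, α x ∈ E) → ∀ x ∈ X, α x ∈ X

/-- a non-trivial elementary abelian `r`-subgroup -/
structure EA (r : ℕ) (E : Subgroup K) : Prop where
  prime : r.Prime
  ne_bot : E ≠ ⊥
  pow : ∀ x ∈ E, x ^ r = 1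
  comm : ∀ x ∈ E, ∀ y ∈ E, x * y = y * x

/-- the situation of the non-parabolic case -/
structure Sit (p r : ℕ) (E : Subgroup K) : Prop extends EA r E where
  ne : r ≠ p
  solv : Group.IsSolvable (Nz E)
  max : ∀ X : Subgroup K, X ≠ ⊥ → X ≤ Nz E → Chr E X → Nz X ≤ Nz E
  npar : ∀ X : Subgroup K, X ≤ Nz E → IsPGroup p X → Chr E X → X = ⊥

/-- the data for `master`; `O` bounds `|Out K|`, `n` is a lower bound for the classes of automorphisms -/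
def Cert (p O n : ℕ) (E : Subgroup K) : Prop :=
  ∃ N : Subgroup K, N ≤ Nz E ∧ Chr E N ∧ (∀ g ∈ Nz E, (∀ v ∈ N, g * v = v * g) → g ∈ N) ∧ ¬ p ∣ Nat.card N ∧
    (∃ x : K, ∀ v ∈ N, x⁻¹ * v * x ∈ Nz E → v = 1) ∧
    ∃ (μ b e φ : ℚ) (κ ι : ℕ), 0 ≤ μ ∧ 0 ≤ b ∧ (∀ v ∈ N, (orderOf v).Prime → fp ⊤ N v ≤ μ) ∧
      (∀ d ∈ Nz E, (orderOf d).Prime → orderOf d ≠ p → fp ⊤ (Nz E) d ≤ b) ∧ kap N (Nz E) p ≤ κ ∧
      N.relIndex (Nz E) ≤ ι ∧ κ * (3 / 2 * κ * μ) + ι * b ^ 2 < 1 ∧ b ≤ e ∧ 3 / 2 * κ * μ ≤ e ^ 2 ∧ 0 < φ ∧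
      e + φ / n ≤ φ ^ 2 ∧ ((O : ℚ) - 1) * φ * Nat.card K + 6 * O * Nat.card (Nz E) < Nat.card K

end Grp

/-! ### facts on root systems -/

section Root

variable {I W : Type} [Fintype I] [DecidableEq I] [Group W] {M : CoxeterMatrix I} (cs : CoxeterSystem M W)
  {A : I → I → ℤ} (h : IsCartan M A)

/-- the roots in `Λ` -/
def Ps (Λ : AddSubgroup (I → ℤ)) : Set (I → ℤ) := {a | IsRoot cs h a ∧ a ∈ Λ}

/-- `Λ` is `d`-saturated -/
def Sat (d : ℤ) (Λ : AddSubgroup (I → ℤ)) : Prop := ∀ x, d • x ∈ Λ → x ∈ Λ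

/-- the reflections in the roots of `Λ` -/
def Rfl (Λ : AddSubgroup (I → ℤ)) : Set W := {w | ∃ a ∈ Ps cs h Λ, ∀ b, rep cs h w b = b - cpr cs h b a • a}

/-- an element of `W` which is trivial modulo `Λ` is a product of reflections in roots of `Λ` -/
def PPr : Prop := ∀ (v : W) (Λ : AddSubgroup (I → ℤ)), Sat 2 Λ → (∀ x, rep cs h v x - x ∈ Λ) → v ∈ closure (Rfl cs h Λ)

/-- facts on `G₂` -/
structure RG : Prop where
  cardI : Fintype.card I = 2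
  cardW : Nat.card W ≤ 12
  pp : PPr cs h
  six : ∀ Λ, Sat 2 Λ → (∃ x, x ∉ Λ) → (Ps cs h Λ).ncard ≤ 6
  two : ∀ Λ, Sat 2 Λ → Sat 3 Λ → (∃ x, x ∉ Λ) → (Ps cs h Λ).ncard ≤ 2
  fix : ∀ (w : W) Λ, (Ps cs h Λ).Nonempty → (∀ a ∈ Ps cs h Λ, 0 ≤ a → rep cs h w a ∈ Λ ∧ 0 ≤ rep cs h w a) →
    ∃ a ∈ Ps cs h Λ, rep cs h w a = a
  orth : ∀ (w : W) a, IsRoot cs h a → rep cs h w a = a → ∃ b, IsRoot cs h b ∧ (rep cs h w b = b ∨ rep cs h w b = -b) ∧
    ∀ x, ∃ i j : ℤ, (2 : ℤ) • x = i • a + j • b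

/-- the six roots of an `A₂` -/
def A2 (a b : I → ℤ) : Set (I → ℤ) := {a, b, a + b, -a, -b, -(a + b)}

/-- facts on `D₄` -/
structure RD : Prop where
  cardI : Fintype.card I = 4
  pp : PPr cs h
  symm : ∀ a b, IsRoot cs h a → IsRoot cs h b → cpr cs h a b = cpr cs h b a
  btw0 : ∀ a b c, IsRoot cs h a → IsRoot cs h b → a ≠ b → 0 ≤ cpr cs h b a → ¬ Btwn cs h a b c
  btw1 : ∀ a b c, IsRoot cs h a → IsRoot cs h b → cpr cs h b a = -1 → (Btwn cs h a b c ↔ c = a + b)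
  perp : ∀ a, IsRoot cs h a → ∃ c, IsRoot cs h c ∧ cpr cs h c a = 0

/-- facts on the elements `θ` of the triality coset -/
structure RT (θ : (I → ℤ) →+ (I → ℤ)) : Prop where
  t1 : ∀ a, IsRoot cs h a → cpr cs h (θ a) a = 0 →
    cpr cs h (θ (θ a)) a = 0 ∧ cpr cs h (θ (θ a)) (θ a) = 0 ∧ (θ (θ (θ a)) = a ∨ θ (θ (θ a)) = -a)
  t2 : ∀ a c, IsRoot cs h a → IsRoot cs h c → θ a = a → cpr cs h c a = 0 → cpr cs h (θ c) c = 0 ∧
    cpr cs h (θ c) a = 0 ∧ cpr cs h (θ (θ c)) a = 0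
  cw : {v : W | ∀ x, θ (rep cs h v x) = rep cs h v (θ x)}.ncard ≤ 24
  tor : ∀ (q : ℕ) (ψ : (I → ℤ) →ₗ[ℤ] (I → ℤ)), (∀ x, ψ (θ x) = (q : ℤ) • x) →
    (LinearMap.det (ψ - 1)).natAbs ≤ (q ^ 2 + q + 1) ^ 2
  six : ∀ Λ, Sat 2 Λ → (∃ x, x ∉ Λ) → (∀ x ∈ Λ, θ x ∈ Λ) → (Ps cs h Λ).ncard ≤ 6
  cls : ∀ Λ, (Ps cs h Λ).Nonempty → (∀ x ∈ Λ, θ x ∈ Λ) → (∀ a ∈ Ps cs h Λ, 0 ≤ a → 0 ≤ θ a) →
    (∃ a ∈ Ps cs h Λ, cpr cs h (θ a) a = 0) ∨ (∃ a, IsRoot cs h a ∧ θ a = a ∧ Ps cs h Λ = {a, -a}) ∨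
    ∃ a b, IsRoot cs h a ∧ IsRoot cs h b ∧ 0 ≤ a ∧ 0 ≤ b ∧ cpr cs h b a = -1 ∧ Ps cs h Λ = A2 a b ∧
      ((θ a = a ∧ θ b = b) ∨ (θ a = b ∧ θ b = a))
  tw : ∀ a b, IsRoot cs h a → IsRoot cs h b → cpr cs h b a = -1 → θ a = b → θ b = a →
    ∀ Λ : AddSubgroup (I → ℤ), a ∈ Λ → b ∈ Λ → (∀ x, θ x - (2 : ℤ) • x ∈ Λ) →
      (∀ x, (3 : ℤ) • x ∈ Λ) ∧ ∃ x₀, ∀ x, ∃ i : ℤ, x - i • x₀ ∈ Λ

/-- the twisted action `w g` -/
noncomputable def tw (w : W) (g : (I → ℤ) →+ (I → ℤ)) : (I → ℤ) →+ (I → ℤ) := (rep cs h w).toAddMonoidHom.comp g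

end Root

theorem hpG2 : IsType chevG2 2 CoxeterMatrix.G₂ := by simp [IsType, typeList]

/-- [TabG] the tables for `G₂` -/
def BoxTabG : Prop := RG CoxeterMatrix.G₂.toCoxeterSystem hpG2.isCartan

/-- [TabD] the tables for `D₄` with the triality -/
def BoxTabD : Prop := RD coxeterD4.toCoxeterSystem Nodes.RGDTwD4.hp.isCartan ∧
  ∀ w, RT coxeterD4.toCoxeterSystem Nodes.RGDTwD4.hp.isCartan
    (tw coxeterD4.toCoxeterSystem Nodes.RGDTwD4.hp.isCartan w (H720.TwFr.permE H720.TwFr.rho4).toAddMonoidHom)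

/-! ### boxes on finite reductive groups -/

/-- [NS] a root orbit with a field of at least four elements gives a non-solvable group -/
def BoxNS : Prop := ∀ (p : ℕ) [Fact p.Prime] (k : Type) [Field k] [CharP k p] [IsAlgClosed k] (Y : Type) [Group Y]
  (N : Type) [Fintype N] [DecidableEq N] (ρ : Y →* GL N k) (F : MulAut Y) (G : Subgroup Y) (D : Datum p ρ F G) (n j : ℕ)
  (a : D.I → ℤ), (∀ b, D.Rt b → D.ex b = n) → D.Rt a → 0 < j → 4 ≤ (p ^ n) ^ j → (D.g^[j] a = a ∨ D.g^[j] a = -a) →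
  (∀ i < j, ∀ i' < j, i ≠ i' → cpr D.cs D.h (D.g^[i] a) (D.g^[i'] a) = 0 ∧
    ∀ u ∈ D.X (D.g^[i] a) ⊔ D.X (-D.g^[i] a), ∀ v ∈ D.X (D.g^[i'] a) ⊔ D.X (-D.g^[i'] a), u * v = v * u) →
  ¬ Group.IsSolvable ↥(fix F ⊓ D.S {c | ∃ i < j, c = D.g^[i] a ∨ c = -D.g^[i] a})

/-- [EXT] centralisers of type `A₂` : not solvable with `O_p = 1`, but for `SU₃` in characteristic two -/
def BoxExt : Prop := ∀ (p : ℕ) [Fact p.Prime] (k : Type) [Field k] [CharP k p] [IsAlgClosed k] (Y : Type) [Group Y]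
  (N : Type) [Fintype N] [DecidableEq N] (ρ : Y →* GL N k) (F : MulAut Y) (D : Datum p ρ F ⊤) (Z : Set Y)
  (a b : D.I → ℤ), RD D.cs D.h → Z ⊆ D.T → (∀ z ∈ Z, F z = z) → D.Rt a → D.Rt b → 0 ≤ a → 0 ≤ b →
  cpr D.cs D.h b a = -1 → D.Sz Z = A2 a b → D.g (a + b) = a + b →
  ((D.g a = a ∧ D.g b = b) ∨ (D.g a = b ∧ D.g b = a ∧ p ≠ 2)) →
  Group.IsSolvable ↥(fix F ⊓ centralizer Z) → p ∣ Nat.card (fittingSubgroup ↥(fix F ⊓ centralizer Z))

/-! ### boxes on the finite groups -/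

/-- the elementary abelian 2-subgroups; `q`, `Q` the orders of the root groups -/
structure Two (p q Q : ℕ) (K : Type) [Group K] : Prop where
  inv : ∀ z : K, orderOf z = 2 → cc z ≤ q * (q ^ 2 - 1) * (Q * (Q ^ 2 - 1))
  ns : 4 ≤ Q → ∀ z : K, orderOf z = 2 → ¬ Group.IsSolvable (centralizer ({z} : Set K))
  rk : ∀ E : Subgroup K, EA 2 E → Nat.card E = 2 ∨
    (Nat.card E = 4 ∧ Nat.card (Cz E) ≤ 2 * (Q + 1) * (q + 1) ∧ ¬ p ∣ Nat.card (Cz E)) ∨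
    (Nat.card E = 8 ∧ Nat.card (Cz E) ≤ 16 ∧ IsPGroup 2 (Cz E) ∧ ∀ v ∈ Cz E, v ^ 2 = 1 → v ∈ E)

/-- [Two] -/
def BoxTwoG : Prop := ∀ (p : ℕ) (F : Type) [Field F] [Fintype F] [CharP F p], p ≠ 2 →
  Two p (Fintype.card F) (Fintype.card F) ↥(chevG2.group F)

def BoxTwoD : Prop := ∀ (p : ℕ) (F : Type) [Field F] [Fintype F] [CharP F p] (q : ℕ), p ≠ 2 → Fintype.card F = q ^ 3 →
  Two p q (q ^ 3) ↥(twistedD4 F q)

/-- [Aut] `|N(E) : C(E)|` -/
def BoxAut : Prop := ∀ (K : Type) [Group K] [Finite K] (E : Subgroup K), EA 2 E → Group.IsSolvable (Nz E) →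
  (Nat.card E = 4 → (Cz E).relIndex (Nz E) ≤ 6) ∧ (Nat.card E = 8 → (Cz E).relIndex (Nz E) ≤ 24)

/-- [G23] the centraliser of an involution of `G₂(3)` -/
def BoxG23 : Prop := ∀ (F : Type) [Field F] [Fintype F], Fintype.card F = 3 →
  ∀ E : Subgroup ↥(chevG2.group F), EA 2 E → Nat.card E = 2 → Cert 3 2 13 E

/-- [C42] centralisers in `³D₄(2)` -/
def BoxC42 : Prop := ∀ (F : Type) [Field F] [Fintype F], Fintype.card F = 8 →
  ∀ x : ↥(twistedD4 F 2), (orderOf x).Prime → orderOf x ≠ 2 → cc x ≤ 1512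

/-- [D42] the normaliser `3^{1+2}.2S₄` in `³D₄(2)`, by pure group theory -/
def BoxD42 : Prop := ∀ (K : Type) [Group K] [Finite K], Nat.card K = 211341312 →
  (∀ x : K, (orderOf x).Prime → orderOf x ≠ 2 → cc x ≤ 1512) →
  (∀ r (E : Subgroup K), Sit 2 r E → Cert 2 3 13 E ∨ (r = 3 ∧ Nat.card E = 3 ∧ 2 ∣ Nat.card (Cz E))) →
  ∀ r (E : Subgroup K), Sit 2 r E → Cert 2 3 13 E

end Cfsg.Agent.SB.Low
end

-- part: SB/Low/TabA
section
set_option linter.all false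
open scoped Cfsg.Agent.FastGrp

/-!
# S5765 : root tables, the abstract lemmas (helper61)
-/

set_option autoImplicit false
set_option linter.unusedSectionVars false

namespace Cfsg.Agent.SB.Low.Tab

open Subgroup Cfsg CoxeterSystem
open Cfsg.Agent.ChevalleyStructure.CoxeterGeom Cfsg.Agent.Tits.Roots Cfsg.Agent.Nodes.Reps Cfsg.Agent.Nodes.Coroot
  Cfsg.Agent.Nodes.SimplyLaced

variable {I W : Type} [Fintype I] [DecidableEq I] [Group W] {M : CoxeterMatrix I} (cs : CoxeterSystem M W)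
  {A : I → I → ℤ} (h : IsCartan M A)

/-- `d` is `±1` or `±2` -/
def un (d : ℤ) : Bool := d == 1 || d == -1 || d == 2 || d == -2

theorem mem_of_sq {Λ : AddSubgroup (I → ℤ)} {d : ℤ} (hd : d * d = 1) {x : I → ℤ} (hx : d • x ∈ Λ) : x ∈ Λ := by
  have := Λ.zsmul_mem hx d
  rwa [smul_smul, hd, one_smul] at this

theorem mem_of_un {Λ : AddSubgroup (I → ℤ)} (hΛ : Sat 2 Λ) {d : ℤ} (hd : un d = true) {x : I → ℤ} (hx : d • x ∈ Λ) :
    x ∈ Λ := by
  simp only [un, Bool.or_eq_true, beq_iff_eq] at hd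
  rcases hd with ((rfl | rfl) | rfl) | rfl
  · exact mem_of_sq (by norm_num) hx
  · exact mem_of_sq (by norm_num) hx
  · exact hΛ x hx
  · exact hΛ x (by simpa using neg_mem hx)

theorem exists_rf [Finite W] {c : I → ℤ} (hc : IsRoot cs h c) : ∃ s : W, ∀ b, rep cs h s b = b - cpr cs h b c • c := by
  obtain ⟨w, i, rfl⟩ := hc
  exact ⟨_, rep_rfl'_eq cs h w i⟩

theorem simple_rf [Finite W] (i : I) (b : I → ℤ) : rep cs h (cs.simple i) b = b - cpr cs h b (sr i) • sr i := by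
  rw [rep_simple, refl_apply, cpr_sr, single_eq_smul]
  rfl

theorem pp_of [Finite W] (P : W → ℕ) (H : ∀ v : W, v = 1 ∨ ∃ c x, IsRoot cs h c ∧ rep cs h v x - x = (4 : ℤ) • c ∧
    ∀ s : W, (∀ b, rep cs h s b = b - cpr cs h b c • c) → P (s * v) < P v) : PPr cs h := by
  intro v Λ hΛ
  induction hn : P v using Nat.strong_induction_on generalizing v with
  | _ n ih =>
    intro hv
    rcases H v with rfl | ⟨c, x, hc, h1, h2⟩
    · exact one_mem _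
    have hcΛ : c ∈ Λ := hΛ c (hΛ _ (by rw [smul_smul]; exact h1 ▸ hv x))
    obtain ⟨s, hs⟩ := exists_rf cs h hc
    have hsm : s ∈ closure (Rfl cs h Λ) := subset_closure ⟨c, ⟨hc, hcΛ⟩, hs⟩
    have h3 := ih _ (hn ▸ h2 s hs) (s * v) rfl fun y => by
      rw [rep_mul_apply, hs, sub_right_comm]
      exact sub_mem (hv y) (Λ.zsmul_mem hcΛ _)
    simpa using mul_mem (inv_mem hsm) h3

theorem cpr_range [Finite W] (h4 : ∀ i j, M i j ≠ 4) (h6 : ∀ i j, M i j ≠ 6) {x y : I → ℤ} (hx : IsRoot cs h x)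
    (hy : IsRoot cs h y) : (x = y ∧ cpr cs h x y = 2) ∨ (x = -y ∧ cpr cs h x y = -2) ∨
      cpr cs h x y = -1 ∨ cpr cs h x y = 0 ∨ cpr cs h x y = 1 := by
  by_cases h1 : x = y
  · exact Or.inl ⟨h1, by rw [h1, cpr_self cs h hy]⟩
  by_cases h2 : x = -y
  · exact Or.inr (Or.inl ⟨h2, by rw [h2, cpr_neg cs h _ hy, cpr_self cs h hy]⟩)
  have := abs_le.1 (abs_cpr_le_one cs h h4 h6 hx hy h1 h2)
  omega

theorem btw_key [Finite W] (h4 : ∀ i j, M i j ≠ 4) (h6 : ∀ i j, M i j ≠ 6) {x y z : I → ℤ} (hx : IsRoot cs h x)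
    (hy : IsRoot cs h y) (hp : cpr cs h y x = -1 ∨ cpr cs h y x = 0 ∨ cpr cs h y x = 1) (hz : Btwn cs h x y z) :
    cpr cs h y x = -1 ∧ z = x + y := by
  obtain ⟨hzr, m, a, b, hm, ha, hb, he⟩ := hz
  have e1 : m * cpr cs h z x = a * 2 + b * cpr cs h y x := by
    have h1 := congrArg (fun v => cpr cs h v x) he
    simpa only [cpr_add cs h _ _ hx, cpr_smul cs h _ _ hx, cpr_self cs h hx] using h1
  have e2 : m * cpr cs h z y = a * cpr cs h y x + b * 2 := by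
    have h1 := congrArg (fun v => cpr cs h v y) he
    simp only [cpr_add cs h _ _ hy, cpr_smul cs h _ _ hy, cpr_self cs h hy] at h1
    rwa [cpr_symm cs h h4 h6 hx hy] at h1
  have e3 : m * 2 = a * cpr cs h z x + b * cpr cs h z y := by
    have h1 := congrArg (fun v => cpr cs h v z) he
    simp only [cpr_add cs h _ _ hzr, cpr_smul cs h _ _ hzr, cpr_self cs h hzr] at h1
    rwa [cpr_symm cs h h4 h6 hx hzr, cpr_symm cs h h4 h6 hy hzr] at h1
  have c1 : cpr cs h z x = 2 ∨ cpr cs h z x = -2 ∨ cpr cs h z x = -1 ∨ cpr cs h z x = 0 ∨ cpr cs h z x = 1 :=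
    (cpr_range cs h h4 h6 hzr hx).imp And.right (Or.imp_left And.right)
  have c2 : cpr cs h z y = 2 ∨ cpr cs h z y = -2 ∨ cpr cs h z y = -1 ∨ cpr cs h z y = 0 ∨ cpr cs h z y = 1 :=
    (cpr_range cs h h4 h6 hzr hy).imp And.right (Or.imp_left And.right)
  generalize cpr cs h z x = s at *
  generalize cpr cs h z y = r at *
  generalize cpr cs h y x = c at *
  have key : c = -1 ∧ a = m ∧ b = m := by
    rcases c1 with rfl | rfl | rfl | rfl | rfl <;> rcases c2 with rfl | rfl | rfl | rfl | rfl <;>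
      rcases hp with rfl | rfl | rfl <;> omega
  obtain ⟨h1, rfl, rfl⟩ := key
  rw [← smul_add] at he
  exact ⟨h1, smul_right_injective _ hm.ne' he⟩

theorem btw0 [Finite W] (h4 : ∀ i j, M i j ≠ 4) (h6 : ∀ i j, M i j ≠ 6) (a b c : I → ℤ) (ha : IsRoot cs h a)
    (hb : IsRoot cs h b) (hab : a ≠ b) (h0 : 0 ≤ cpr cs h b a) : ¬ Btwn cs h a b c := fun hz => by
  rcases cpr_range cs h h4 h6 hb ha with h1 | h1 | h1
  · exact hab h1.1.symm
  · omega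
  · have := (btw_key cs h h4 h6 ha hb h1 hz).1
    omega

theorem btw1 [Finite W] (h4 : ∀ i j, M i j ≠ 4) (h6 : ∀ i j, M i j ≠ 6) (a b c : I → ℤ) (ha : IsRoot cs h a)
    (hb : IsRoot cs h b) (h0 : cpr cs h b a = -1) : Btwn cs h a b c ↔ c = a + b := by
  refine ⟨fun hz => (btw_key cs h h4 h6 ha hb (Or.inl h0) hz).2, fun e => ?_⟩
  have h1 := isRoot_refl cs h hb ha
  rw [h0, neg_smul, one_smul, sub_neg_eq_add, add_comm, ← e] at h1
  exact Btwn.of_int h1 one_pos one_pos (by rw [one_smul, one_smul, e])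

/-- a set with more elements than a list -/
theorem exists_out {α β : Type} {S : Set α} {f : α → β} (hf : Function.Injective f) (L : List β)
    (hL : L.length < S.ncard) : ∃ x ∈ S, f x ∉ L := by
  classical
  by_contra hc
  push Not at hc
  have h1 := Set.ncard_le_ncard_of_injOn (s := S) (t := (L.toFinset : Set β)) f
    (fun x hx => by simpa using hc x hx) hf.injOn (Finset.finite_toSet _)
  rw [Set.ncard_coe_finset] at h1
  have := L.toFinset_card_le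
  omega

theorem ncard_le {α β : Type} {S : Set α} {f : α → β} (hf : Function.Injective f) (L : List β) {n : ℕ}
    (hL : L.length ≤ n) (h : ∀ x ∈ S, f x ∈ L) : S.ncard ≤ n := by
  by_contra hc
  obtain ⟨x, hx, h1⟩ := exists_out (S := S) hf L (by omega)
  exact h1 (h x hx)

end Cfsg.Agent.SB.Low.Tab

private theorem dce_655bca13ff4e : _root_.True := by
  try have : _root_.True := by simp only [_root_.Cfsg.Agent.SB.Low.Rfl.congr_simp]
  try have : _root_.True := by simp only [_root_.Cfsg.Agent.SB.Low.Tab.un.eq_1]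
  exact _root_.True.intro
end

-- part: SB/Low/TabD1
section
prune_inst 0x30007504642202000018001022003d26f6000192006b8801f9e00f4607cfff008041872146800e129044b64c3830004811000150421000002a003400411e04a190ae5a02a608a3042e000f803007180c00000000000000000000000000041000200000000
set_option linter.all false
open scoped Cfsg.Agent.FastGrp

/-!
# S5765 : root tables for `D₄` with the triality, the finite checks (helper61)
-/

set_option autoImplicit false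

namespace Cfsg.Agent.SB.Low.Tab.D

open Cfsg Cfsg.Lie Cfsg.Agent.ChevalleyStructure.CoxeterGeomTypes Cfsg.Agent.Tits.Roots Cfsg.Agent.Nodes.RGDChev
  Cfsg.Lie.ChevalleyDatum

/-- four integers -/
abbrev T4 : Type := ℤ × ℤ × ℤ × ℤ

/-- the images of the four simple roots -/
abbrev M4 : Type := T4 × T4 × T4 × T4

/-- the tuple -/
def vt (x : Fin 4 → ℤ) : T4 := (x 0, x 1, x 2, x 3)

/-- the vector -/
def tv (x : T4) : Fin 4 → ℤ := ![x.1, x.2.1, x.2.2.1, x.2.2.2]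

/-- the standard product -/
def dt (x y : T4) : ℤ := x.1 * y.1 + x.2.1 * y.2.1 + x.2.2.1 * y.2.2.1 + x.2.2.2 * y.2.2.2

/-- the invariant form -/
def ip (x y : T4) : ℤ :=
  dt x (2 * y.1 - y.2.1, 2 * y.2.1 - y.1 - y.2.2.1 - y.2.2.2, 2 * y.2.2.1 - y.2.1, 2 * y.2.2.2 - y.2.1)

/-- the action of a matrix -/
def ap (m : M4) (x : T4) : T4 :=
  (x.1 * m.1.1 + x.2.1 * m.2.1.1 + x.2.2.1 * m.2.2.1.1 + x.2.2.2 * m.2.2.2.1,
   x.1 * m.1.2.1 + x.2.1 * m.2.1.2.1 + x.2.2.1 * m.2.2.1.2.1 + x.2.2.2 * m.2.2.2.2.1,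
   x.1 * m.1.2.2.1 + x.2.1 * m.2.1.2.2.1 + x.2.2.1 * m.2.2.1.2.2.1 + x.2.2.2 * m.2.2.2.2.2.1,
   x.1 * m.1.2.2.2 + x.2.1 * m.2.1.2.2.2 + x.2.2.1 * m.2.2.1.2.2.2 + x.2.2.2 * m.2.2.2.2.2.2)

/-- the reflection -/
def rf (c x : T4) : T4 := x - ip x c • c

/-- the product with a reflection -/
def rm (c : T4) (m : M4) : M4 := (rf c m.1, rf c m.2.1, rf c m.2.2.1, rf c m.2.2.2)

/-- the product with the triality -/
def tm (m : M4) : M4 := (m.2.2.1, m.2.1, m.2.2.2, m.1)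

/-- non-negative vectors -/
def pos (x : T4) : Bool := decide (0 ≤ x.1) && decide (0 ≤ x.2.1) && decide (0 ≤ x.2.2.1) && decide (0 ≤ x.2.2.2)

/-- the cofactors: `dt (cr a b c) d` is the determinant -/
def cr (a b c : T4) : T4 :=
  (-(c.2.1 * (a.2.2.1 * b.2.2.2 - a.2.2.2 * b.2.2.1) - c.2.2.1 * (a.2.1 * b.2.2.2 - a.2.2.2 * b.2.1) + c.2.2.2 * (a.2.1 * b.2.2.1 - a.2.2.1 * b.2.1)),
   c.1 * (a.2.2.1 * b.2.2.2 - a.2.2.2 * b.2.2.1) - c.2.2.1 * (a.1 * b.2.2.2 - a.2.2.2 * b.1) + c.2.2.2 * (a.1 * b.2.2.1 - a.2.2.1 * b.1),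
   -(c.1 * (a.2.1 * b.2.2.2 - a.2.2.2 * b.2.1) - c.2.1 * (a.1 * b.2.2.2 - a.2.2.2 * b.1) + c.2.2.2 * (a.1 * b.2.1 - a.2.1 * b.1)),
   c.1 * (a.2.1 * b.2.2.1 - a.2.2.1 * b.2.1) - c.2.1 * (a.1 * b.2.2.1 - a.2.2.1 * b.1) + c.2.2.1 * (a.1 * b.2.1 - a.2.1 * b.1))

/-- the coefficients of the characteristic polynomial -/
def e1 (m : M4) : ℤ := m.1.1 + m.2.1.2.1 + m.2.2.1.2.2.1 + m.2.2.2.2.2.2

/-- the coefficients of the characteristic polynomial -/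
def e2 (m : M4) : ℤ :=
  (m.1.1 * m.2.1.2.1 - m.2.1.1 * m.1.2.1) +
    (m.1.1 * m.2.2.1.2.2.1 - m.2.2.1.1 * m.1.2.2.1) +
    (m.1.1 * m.2.2.2.2.2.2 - m.2.2.2.1 * m.1.2.2.2) +
    (m.2.1.2.1 * m.2.2.1.2.2.1 - m.2.2.1.2.1 * m.2.1.2.2.1) +
    (m.2.1.2.1 * m.2.2.2.2.2.2 - m.2.2.2.2.1 * m.2.1.2.2.2) +
    (m.2.2.1.2.2.1 * m.2.2.2.2.2.2 - m.2.2.2.2.2.1 * m.2.2.1.2.2.2)

/-- the coefficients of the characteristic polynomial -/
def e3 (m : M4) : ℤ :=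
  (m.1.1 * (m.2.1.2.1 * m.2.2.1.2.2.1 - m.2.2.1.2.1 * m.2.1.2.2.1) -
      m.2.1.1 * (m.1.2.1 * m.2.2.1.2.2.1 - m.2.2.1.2.1 * m.1.2.2.1) +
      m.2.2.1.1 * (m.1.2.1 * m.2.1.2.2.1 - m.2.1.2.1 * m.1.2.2.1)) +
    (m.1.1 * (m.2.1.2.1 * m.2.2.2.2.2.2 - m.2.2.2.2.1 * m.2.1.2.2.2) -
      m.2.1.1 * (m.1.2.1 * m.2.2.2.2.2.2 - m.2.2.2.2.1 * m.1.2.2.2) +
      m.2.2.2.1 * (m.1.2.1 * m.2.1.2.2.2 - m.2.1.2.1 * m.1.2.2.2)) +
    (m.1.1 * (m.2.2.1.2.2.1 * m.2.2.2.2.2.2 - m.2.2.2.2.2.1 * m.2.2.1.2.2.2) -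
      m.2.2.1.1 * (m.1.2.2.1 * m.2.2.2.2.2.2 - m.2.2.2.2.2.1 * m.1.2.2.2) +
      m.2.2.2.1 * (m.1.2.2.1 * m.2.2.1.2.2.2 - m.2.2.1.2.2.1 * m.1.2.2.2)) +
    (m.2.1.2.1 * (m.2.2.1.2.2.1 * m.2.2.2.2.2.2 - m.2.2.2.2.2.1 * m.2.2.1.2.2.2) -
      m.2.2.1.2.1 * (m.2.1.2.2.1 * m.2.2.2.2.2.2 - m.2.2.2.2.2.1 * m.2.1.2.2.2) +
      m.2.2.2.2.1 * (m.2.1.2.2.1 * m.2.2.1.2.2.2 - m.2.2.1.2.2.1 * m.2.1.2.2.2))

/-- the determinant -/
def e4 (m : M4) : ℤ := dt (cr m.1 m.2.1 m.2.2.1) m.2.2.2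

def r0 : T4 := (-1, -2, -1, -1)
def r1 : T4 := (-1, -1, -1, -1)
def r2 : T4 := (-1, -1, -1, 0)
def r3 : T4 := (-1, -1, 0, -1)
def r4 : T4 := (-1, -1, 0, 0)
def r5 : T4 := (-1, 0, 0, 0)
def r6 : T4 := (0, -1, -1, -1)
def r7 : T4 := (0, -1, -1, 0)
def r8 : T4 := (0, -1, 0, -1)
def r9 : T4 := (0, -1, 0, 0)
def r10 : T4 := (0, 0, -1, 0)
def r11 : T4 := (0, 0, 0, -1)
def r12 : T4 := (0, 0, 0, 1)
def r13 : T4 := (0, 0, 1, 0)
def r14 : T4 := (0, 1, 0, 0)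
def r15 : T4 := (0, 1, 0, 1)
def r16 : T4 := (0, 1, 1, 0)
def r17 : T4 := (0, 1, 1, 1)
def r18 : T4 := (1, 0, 0, 0)
def r19 : T4 := (1, 1, 0, 0)
def r20 : T4 := (1, 1, 0, 1)
def r21 : T4 := (1, 1, 1, 0)
def r22 : T4 := (1, 1, 1, 1)
def r23 : T4 := (1, 2, 1, 1)

/-- the roots -/
def RL : List T4 := [r0, r1, r2, r3, r4, r5, r6, r7, r8, r9, r10, r11, r12, r13, r14, r15, r16, r17, r18, r19, r20, r21, r22, r23]

/-- the Weyl group by reflection length, with a root `c` and a vector `x` such that `(m - 1) x = 4 c` -/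
def PL : List (M4 × T4 × T4) :=
  [((r18, r14, r13, r12), r0, ((-1 : ℤ), (-2 : ℤ), (-1 : ℤ), (-1 : ℤ))), ((r5, r19, r13, r12), r18, ((-2 : ℤ), (0 : ℤ), (0 : ℤ), (0 : ℤ))),
   ((r6, r23, r3, r2), r22, ((-4 : ℤ), (0 : ℤ), (0 : ℤ), (0 : ℤ))), ((r7, r14, r4, r22), r21, ((-4 : ℤ), (0 : ℤ), (0 : ℤ), (0 : ℤ))),
   ((r8, r14, r22, r4), r20, ((-4 : ℤ), (0 : ℤ), (0 : ℤ), (0 : ℤ))), ((r9, r5, r21, r20), r19, ((-4 : ℤ), (0 : ℤ), (0 : ℤ), (0 : ℤ))),
   ((r18, r1, r13, r12), r23, ((0 : ℤ), (-4 : ℤ), (0 : ℤ), (0 : ℤ))), ((r18, r15, r13, r11), r12, ((0 : ℤ), (0 : ℤ), (0 : ℤ), (-2 : ℤ))),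
   ((r18, r16, r10, r12), r13, ((0 : ℤ), (0 : ℤ), (-2 : ℤ), (0 : ℤ))), ((r19, r9, r16, r15), r14, ((0 : ℤ), (-2 : ℤ), (0 : ℤ), (0 : ℤ))),
   ((r20, r11, r17, r9), r8, ((-4 : ℤ), (0 : ℤ), (0 : ℤ), (0 : ℤ))), ((r21, r10, r9, r17), r7, ((-4 : ℤ), (0 : ℤ), (0 : ℤ), (0 : ℤ))),
   ((r22, r14, r8, r7), r6, ((-4 : ℤ), (0 : ℤ), (0 : ℤ), (0 : ℤ))), ((r0, r14, r12, r13), r21, ((-2 : ℤ), (0 : ℤ), (-2 : ℤ), (0 : ℤ))),
   ((r0, r17, r11, r10), r19, ((-2 : ℤ), (-2 : ℤ), (0 : ℤ), (0 : ℤ))), ((r1, r23, r8, r7), r22, ((-2 : ℤ), (0 : ℤ), (-2 : ℤ), (0 : ℤ))),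
   ((r2, r19, r9, r17), r21, ((-2 : ℤ), (0 : ℤ), (-2 : ℤ), (0 : ℤ))), ((r3, r19, r17, r9), r18, ((-2 : ℤ), (0 : ℤ), (-2 : ℤ), (0 : ℤ))),
   ((r4, r18, r16, r15), r18, ((-2 : ℤ), (0 : ℤ), (-2 : ℤ), (0 : ℤ))), ((r5, r6, r13, r12), r18, ((-2 : ℤ), (0 : ℤ), (0 : ℤ), (0 : ℤ))),
   ((r5, r20, r13, r11), r18, ((-2 : ℤ), (0 : ℤ), (0 : ℤ), (0 : ℤ))), ((r5, r21, r10, r12), r18, ((-2 : ℤ), (0 : ℤ), (0 : ℤ), (0 : ℤ))),
   ((r6, r15, r3, r21), r22, ((-4 : ℤ), (0 : ℤ), (0 : ℤ), (0 : ℤ))), ((r6, r16, r20, r2), r22, ((-4 : ℤ), (0 : ℤ), (0 : ℤ), (0 : ℤ))),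
   ((r6, r22, r3, r2), r22, ((-4 : ℤ), (0 : ℤ), (0 : ℤ), (0 : ℤ))), ((r7, r5, r19, r22), r21, ((-4 : ℤ), (0 : ℤ), (0 : ℤ), (0 : ℤ))),
   ((r7, r11, r4, r22), r21, ((-4 : ℤ), (0 : ℤ), (0 : ℤ), (0 : ℤ))), ((r7, r23, r4, r1), r21, ((-4 : ℤ), (0 : ℤ), (0 : ℤ), (0 : ℤ))),
   ((r8, r5, r22, r19), r20, ((-4 : ℤ), (0 : ℤ), (0 : ℤ), (0 : ℤ))), ((r8, r10, r22, r4), r20, ((-4 : ℤ), (0 : ℤ), (0 : ℤ), (0 : ℤ))),
   ((r8, r23, r1, r4), r20, ((-4 : ℤ), (0 : ℤ), (0 : ℤ), (0 : ℤ))), ((r9, r1, r21, r20), r19, ((-4 : ℤ), (0 : ℤ), (0 : ℤ), (0 : ℤ))),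
   ((r9, r15, r21, r3), r19, ((-4 : ℤ), (0 : ℤ), (0 : ℤ), (0 : ℤ))), ((r9, r16, r2, r20), r19, ((-4 : ℤ), (0 : ℤ), (0 : ℤ), (0 : ℤ))),
   ((r10, r9, r5, r23), r14, ((0 : ℤ), (-2 : ℤ), (0 : ℤ), (0 : ℤ))), ((r10, r21, r5, r0), r22, ((-2 : ℤ), (0 : ℤ), (0 : ℤ), (-2 : ℤ))),
   ((r11, r9, r23, r5), r14, ((0 : ℤ), (-2 : ℤ), (0 : ℤ), (0 : ℤ))), ((r11, r20, r0, r5), r22, ((-2 : ℤ), (0 : ℤ), (-2 : ℤ), (0 : ℤ))),
   ((r12, r3, r23, r18), r19, ((-2 : ℤ), (-2 : ℤ), (0 : ℤ), (0 : ℤ))), ((r12, r14, r0, r18), r21, ((-2 : ℤ), (0 : ℤ), (-2 : ℤ), (0 : ℤ))),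
   ((r13, r2, r18, r23), r19, ((-2 : ℤ), (-2 : ℤ), (0 : ℤ), (0 : ℤ))), ((r13, r14, r18, r0), r20, ((-2 : ℤ), (0 : ℤ), (0 : ℤ), (-2 : ℤ))),
   ((r14, r4, r21, r20), r9, ((-2 : ℤ), (0 : ℤ), (-2 : ℤ), (0 : ℤ))), ((r15, r11, r22, r4), r8, ((-2 : ℤ), (0 : ℤ), (-2 : ℤ), (0 : ℤ))),
   ((r16, r10, r4, r22), r18, ((-2 : ℤ), (0 : ℤ), (-2 : ℤ), (0 : ℤ))), ((r17, r19, r3, r2), r18, ((-2 : ℤ), (0 : ℤ), (-2 : ℤ), (0 : ℤ))),
   ((r18, r2, r13, r11), r12, ((0 : ℤ), (0 : ℤ), (0 : ℤ), (-2 : ℤ))), ((r18, r3, r10, r12), r13, ((0 : ℤ), (0 : ℤ), (-2 : ℤ), (0 : ℤ))),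
   ((r18, r17, r10, r11), r13, ((0 : ℤ), (0 : ℤ), (-2 : ℤ), (0 : ℤ))), ((r19, r0, r16, r15), r9, ((-4 : ℤ), (0 : ℤ), (0 : ℤ), (0 : ℤ))),
   ((r19, r12, r16, r8), r9, ((-4 : ℤ), (0 : ℤ), (0 : ℤ), (0 : ℤ))), ((r19, r13, r7, r15), r9, ((-4 : ℤ), (0 : ℤ), (0 : ℤ), (0 : ℤ))),
   ((r20, r1, r17, r9), r8, ((-4 : ℤ), (0 : ℤ), (0 : ℤ), (0 : ℤ))), ((r20, r8, r17, r14), r8, ((-4 : ℤ), (0 : ℤ), (0 : ℤ), (0 : ℤ))),
   ((r20, r16, r6, r9), r8, ((-4 : ℤ), (0 : ℤ), (0 : ℤ), (0 : ℤ))), ((r21, r1, r9, r17), r7, ((-4 : ℤ), (0 : ℤ), (0 : ℤ), (0 : ℤ))),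
   ((r21, r7, r14, r17), r7, ((-4 : ℤ), (0 : ℤ), (0 : ℤ), (0 : ℤ))), ((r21, r15, r9, r6), r7, ((-4 : ℤ), (0 : ℤ), (0 : ℤ), (0 : ℤ))),
   ((r22, r5, r8, r7), r6, ((-4 : ℤ), (0 : ℤ), (0 : ℤ), (0 : ℤ))), ((r22, r10, r8, r16), r6, ((-4 : ℤ), (0 : ℤ), (0 : ℤ), (0 : ℤ))),
   ((r22, r11, r15, r7), r6, ((-4 : ℤ), (0 : ℤ), (0 : ℤ), (0 : ℤ))), ((r23, r6, r12, r13), r8, ((-2 : ℤ), (0 : ℤ), (-2 : ℤ), (0 : ℤ))),
   ((r23, r9, r11, r10), r14, ((0 : ℤ), (-2 : ℤ), (0 : ℤ), (0 : ℤ))), ((r0, r15, r11, r13), r22, ((-2 : ℤ), (0 : ℤ), (-2 : ℤ), (0 : ℤ))),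
   ((r0, r16, r12, r10), r21, ((-2 : ℤ), (0 : ℤ), (-2 : ℤ), (0 : ℤ))), ((r0, r19, r12, r13), r21, ((-2 : ℤ), (0 : ℤ), (-2 : ℤ), (0 : ℤ))),
   ((r0, r22, r11, r10), r22, ((-2 : ℤ), (0 : ℤ), (-2 : ℤ), (0 : ℤ))), ((r1, r9, r15, r16), r14, ((0 : ℤ), (-2 : ℤ), (0 : ℤ), (0 : ℤ))),
   ((r1, r17, r8, r7), r22, ((-2 : ℤ), (0 : ℤ), (-2 : ℤ), (0 : ℤ))), ((r1, r20, r8, r16), r22, ((-2 : ℤ), (0 : ℤ), (-2 : ℤ), (0 : ℤ))),
   ((r1, r21, r15, r7), r22, ((-2 : ℤ), (0 : ℤ), (0 : ℤ), (-2 : ℤ))), ((r2, r11, r9, r17), r21, ((-2 : ℤ), (0 : ℤ), (-2 : ℤ), (0 : ℤ))),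
   ((r2, r13, r14, r6), r19, ((-2 : ℤ), (-2 : ℤ), (0 : ℤ), (0 : ℤ))), ((r2, r18, r14, r17), r18, ((-2 : ℤ), (0 : ℤ), (0 : ℤ), (-2 : ℤ))),
   ((r2, r23, r9, r6), r21, ((-2 : ℤ), (0 : ℤ), (-2 : ℤ), (0 : ℤ))), ((r3, r10, r17, r9), r18, ((-2 : ℤ), (0 : ℤ), (-2 : ℤ), (0 : ℤ))),
   ((r3, r12, r6, r14), r19, ((-2 : ℤ), (-2 : ℤ), (0 : ℤ), (0 : ℤ))), ((r3, r18, r17, r14), r18, ((-2 : ℤ), (0 : ℤ), (-2 : ℤ), (0 : ℤ))),
   ((r3, r23, r6, r9), r22, ((-2 : ℤ), (0 : ℤ), (-2 : ℤ), (0 : ℤ))), ((r4, r6, r16, r15), r18, ((-2 : ℤ), (0 : ℤ), (-2 : ℤ), (0 : ℤ))),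
   ((r4, r14, r7, r8), r21, ((-2 : ℤ), (0 : ℤ), (-2 : ℤ), (0 : ℤ))), ((r4, r20, r16, r8), r18, ((-2 : ℤ), (0 : ℤ), (-2 : ℤ), (0 : ℤ))),
   ((r4, r21, r7, r15), r21, ((-2 : ℤ), (0 : ℤ), (-2 : ℤ), (0 : ℤ))), ((r5, r7, r13, r11), r18, ((-2 : ℤ), (0 : ℤ), (0 : ℤ), (0 : ℤ))),
   ((r5, r8, r10, r12), r18, ((-2 : ℤ), (0 : ℤ), (0 : ℤ), (0 : ℤ))), ((r5, r22, r10, r11), r18, ((-2 : ℤ), (0 : ℤ), (0 : ℤ), (0 : ℤ))),
   ((r6, r5, r20, r21), r22, ((-4 : ℤ), (0 : ℤ), (0 : ℤ), (0 : ℤ))), ((r6, r12, r3, r21), r22, ((-4 : ℤ), (0 : ℤ), (0 : ℤ), (0 : ℤ))),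
   ((r6, r13, r20, r2), r22, ((-4 : ℤ), (0 : ℤ), (0 : ℤ), (0 : ℤ))), ((r7, r3, r19, r22), r21, ((-4 : ℤ), (0 : ℤ), (0 : ℤ), (0 : ℤ))),
   ((r7, r17, r19, r1), r21, ((-4 : ℤ), (0 : ℤ), (0 : ℤ), (0 : ℤ))), ((r7, r21, r4, r1), r21, ((-4 : ℤ), (0 : ℤ), (0 : ℤ), (0 : ℤ))),
   ((r8, r2, r22, r19), r20, ((-4 : ℤ), (0 : ℤ), (0 : ℤ), (0 : ℤ))), ((r8, r17, r1, r19), r20, ((-4 : ℤ), (0 : ℤ), (0 : ℤ), (0 : ℤ))),
   ((r8, r20, r1, r4), r20, ((-4 : ℤ), (0 : ℤ), (0 : ℤ), (0 : ℤ))), ((r9, r10, r21, r3), r19, ((-4 : ℤ), (0 : ℤ), (0 : ℤ), (0 : ℤ))),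
   ((r9, r11, r2, r20), r19, ((-4 : ℤ), (0 : ℤ), (0 : ℤ), (0 : ℤ))), ((r9, r23, r2, r3), r19, ((-4 : ℤ), (0 : ℤ), (0 : ℤ), (0 : ℤ))),
   ((r10, r4, r18, r23), r13, ((-2 : ℤ), (0 : ℤ), (-2 : ℤ), (0 : ℤ))), ((r10, r8, r5, r23), r9, ((-2 : ℤ), (0 : ℤ), (0 : ℤ), (-2 : ℤ))),
   ((r10, r16, r18, r0), r13, ((-2 : ℤ), (0 : ℤ), (-2 : ℤ), (0 : ℤ))), ((r10, r22, r5, r0), r22, ((-2 : ℤ), (0 : ℤ), (0 : ℤ), (-2 : ℤ))),
   ((r11, r4, r23, r18), r9, ((-2 : ℤ), (0 : ℤ), (-2 : ℤ), (0 : ℤ))), ((r11, r7, r23, r5), r9, ((-2 : ℤ), (0 : ℤ), (-2 : ℤ), (0 : ℤ))),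
   ((r11, r15, r0, r18), r22, ((-2 : ℤ), (0 : ℤ), (-2 : ℤ), (0 : ℤ))), ((r11, r22, r0, r5), r22, ((-2 : ℤ), (0 : ℤ), (-2 : ℤ), (0 : ℤ))),
   ((r12, r1, r23, r18), r8, ((-2 : ℤ), (0 : ℤ), (-2 : ℤ), (0 : ℤ))), ((r12, r8, r23, r5), r8, ((-2 : ℤ), (0 : ℤ), (-2 : ℤ), (0 : ℤ))),
   ((r12, r16, r0, r18), r21, ((-2 : ℤ), (0 : ℤ), (-2 : ℤ), (0 : ℤ))), ((r12, r19, r0, r5), r21, ((-2 : ℤ), (0 : ℤ), (-2 : ℤ), (0 : ℤ))),
   ((r13, r1, r18, r23), r7, ((-2 : ℤ), (0 : ℤ), (0 : ℤ), (-2 : ℤ))), ((r13, r7, r5, r23), r18, ((-2 : ℤ), (0 : ℤ), (-2 : ℤ), (0 : ℤ))),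
   ((r13, r15, r18, r0), r20, ((-2 : ℤ), (0 : ℤ), (0 : ℤ), (-2 : ℤ))), ((r13, r19, r5, r0), r18, ((-2 : ℤ), (0 : ℤ), (-2 : ℤ), (0 : ℤ))),
   ((r14, r0, r21, r20), r9, ((-2 : ℤ), (0 : ℤ), (-2 : ℤ), (0 : ℤ))), ((r14, r12, r21, r3), r9, ((-2 : ℤ), (0 : ℤ), (-2 : ℤ), (0 : ℤ))),
   ((r14, r13, r2, r20), r9, ((-2 : ℤ), (0 : ℤ), (0 : ℤ), (-2 : ℤ))), ((r14, r18, r2, r3), r8, ((-2 : ℤ), (0 : ℤ), (0 : ℤ), (2 : ℤ))),
   ((r15, r3, r22, r19), r8, ((-2 : ℤ), (0 : ℤ), (-2 : ℤ), (0 : ℤ))), ((r15, r6, r22, r4), r8, ((-2 : ℤ), (0 : ℤ), (-2 : ℤ), (0 : ℤ))),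
   ((r15, r9, r1, r19), r14, ((0 : ℤ), (-2 : ℤ), (0 : ℤ), (0 : ℤ))), ((r15, r21, r1, r4), r18, ((-2 : ℤ), (0 : ℤ), (0 : ℤ), (-2 : ℤ))),
   ((r16, r2, r19, r22), r9, ((-2 : ℤ), (0 : ℤ), (-2 : ℤ), (0 : ℤ))), ((r16, r6, r4, r22), r18, ((-2 : ℤ), (0 : ℤ), (-2 : ℤ), (0 : ℤ))),
   ((r16, r9, r19, r1), r14, ((0 : ℤ), (-2 : ℤ), (0 : ℤ), (0 : ℤ))), ((r16, r20, r4, r1), r18, ((-2 : ℤ), (0 : ℤ), (-2 : ℤ), (0 : ℤ))),
   ((r17, r0, r20, r21), r19, ((-2 : ℤ), (-2 : ℤ), (0 : ℤ), (0 : ℤ))), ((r17, r10, r3, r21), r18, ((-2 : ℤ), (0 : ℤ), (-2 : ℤ), (0 : ℤ))),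
   ((r17, r11, r20, r2), r8, ((-2 : ℤ), (0 : ℤ), (-2 : ℤ), (0 : ℤ))), ((r17, r18, r3, r2), r18, ((-2 : ℤ), (0 : ℤ), (-2 : ℤ), (0 : ℤ))),
   ((r18, r4, r10, r11), r13, ((0 : ℤ), (0 : ℤ), (-2 : ℤ), (0 : ℤ))), ((r19, r2, r16, r8), r9, ((-4 : ℤ), (0 : ℤ), (0 : ℤ), (0 : ℤ))),
   ((r19, r3, r7, r15), r9, ((-4 : ℤ), (0 : ℤ), (0 : ℤ), (0 : ℤ))), ((r19, r17, r7, r8), r9, ((-4 : ℤ), (0 : ℤ), (0 : ℤ), (0 : ℤ))),
   ((r20, r0, r17, r14), r8, ((-4 : ℤ), (0 : ℤ), (0 : ℤ), (0 : ℤ))), ((r20, r5, r6, r9), r8, ((-4 : ℤ), (0 : ℤ), (0 : ℤ), (0 : ℤ))),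
   ((r20, r13, r6, r14), r8, ((-4 : ℤ), (0 : ℤ), (0 : ℤ), (0 : ℤ))), ((r21, r0, r14, r17), r7, ((-4 : ℤ), (0 : ℤ), (0 : ℤ), (0 : ℤ))),
   ((r21, r5, r9, r6), r7, ((-4 : ℤ), (0 : ℤ), (0 : ℤ), (0 : ℤ))), ((r21, r12, r14, r6), r7, ((-4 : ℤ), (0 : ℤ), (0 : ℤ), (0 : ℤ))),
   ((r22, r2, r8, r16), r6, ((-4 : ℤ), (0 : ℤ), (0 : ℤ), (0 : ℤ))), ((r22, r3, r15, r7), r6, ((-4 : ℤ), (0 : ℤ), (0 : ℤ), (0 : ℤ))),
   ((r22, r6, r15, r16), r6, ((-4 : ℤ), (0 : ℤ), (0 : ℤ), (0 : ℤ))), ((r23, r1, r12, r13), r8, ((-2 : ℤ), (0 : ℤ), (-2 : ℤ), (0 : ℤ))),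
   ((r23, r4, r11, r10), r9, ((-2 : ℤ), (0 : ℤ), (-2 : ℤ), (0 : ℤ))), ((r23, r7, r11, r13), r9, ((-2 : ℤ), (0 : ℤ), (-2 : ℤ), (0 : ℤ))),
   ((r23, r8, r12, r10), r8, ((-2 : ℤ), (0 : ℤ), (-2 : ℤ), (0 : ℤ))), ((r0, r20, r11, r13), r22, ((-2 : ℤ), (0 : ℤ), (-2 : ℤ), (0 : ℤ))),
   ((r0, r21, r12, r10), r21, ((-2 : ℤ), (0 : ℤ), (-2 : ℤ), (0 : ℤ))), ((r1, r12, r8, r16), r22, ((-2 : ℤ), (0 : ℤ), (-2 : ℤ), (0 : ℤ))),
   ((r1, r13, r15, r7), r22, ((-2 : ℤ), (0 : ℤ), (0 : ℤ), (-2 : ℤ))), ((r1, r18, r15, r16), r21, ((-2 : ℤ), (0 : ℤ), (0 : ℤ), (2 : ℤ))),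
   ((r2, r8, r14, r17), r18, ((-2 : ℤ), (0 : ℤ), (0 : ℤ), (-2 : ℤ))), ((r2, r16, r9, r6), r21, ((-2 : ℤ), (0 : ℤ), (-2 : ℤ), (0 : ℤ))),
   ((r2, r22, r14, r6), r22, ((-2 : ℤ), (0 : ℤ), (0 : ℤ), (-2 : ℤ))), ((r3, r7, r17, r14), r18, ((-2 : ℤ), (0 : ℤ), (-2 : ℤ), (0 : ℤ))),
   ((r3, r15, r6, r9), r22, ((-2 : ℤ), (0 : ℤ), (-2 : ℤ), (0 : ℤ))), ((r3, r22, r6, r14), r22, ((-2 : ℤ), (0 : ℤ), (-2 : ℤ), (0 : ℤ))),
   ((r4, r10, r16, r8), r18, ((-2 : ℤ), (0 : ℤ), (-2 : ℤ), (0 : ℤ))), ((r4, r11, r7, r15), r21, ((-2 : ℤ), (0 : ℤ), (-2 : ℤ), (0 : ℤ))),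
   ((r4, r23, r7, r8), r21, ((-2 : ℤ), (0 : ℤ), (-2 : ℤ), (0 : ℤ))), ((r5, r9, r10, r11), r18, ((-2 : ℤ), (0 : ℤ), (0 : ℤ), (0 : ℤ))),
   ((r6, r4, r20, r21), r22, ((-4 : ℤ), (0 : ℤ), (0 : ℤ), (0 : ℤ))), ((r7, r13, r19, r1), r21, ((-4 : ℤ), (0 : ℤ), (0 : ℤ), (0 : ℤ))),
   ((r8, r12, r1, r19), r20, ((-4 : ℤ), (0 : ℤ), (0 : ℤ), (0 : ℤ))), ((r9, r19, r2, r3), r19, ((-4 : ℤ), (0 : ℤ), (0 : ℤ), (0 : ℤ))),
   ((r10, r3, r18, r23), r13, ((-2 : ℤ), (0 : ℤ), (-2 : ℤ), (0 : ℤ))), ((r10, r17, r18, r0), r13, ((-2 : ℤ), (0 : ℤ), (-2 : ℤ), (0 : ℤ))),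
   ((r11, r2, r23, r18), r9, ((-2 : ℤ), (0 : ℤ), (-2 : ℤ), (0 : ℤ))), ((r11, r17, r0, r18), r22, ((-2 : ℤ), (0 : ℤ), (-2 : ℤ), (0 : ℤ))),
   ((r12, r6, r23, r5), r8, ((-2 : ℤ), (0 : ℤ), (-2 : ℤ), (0 : ℤ))), ((r12, r21, r0, r5), r21, ((-2 : ℤ), (0 : ℤ), (-2 : ℤ), (0 : ℤ))),
   ((r13, r6, r5, r23), r18, ((-2 : ℤ), (0 : ℤ), (-2 : ℤ), (0 : ℤ))), ((r13, r20, r5, r0), r18, ((-2 : ℤ), (0 : ℤ), (-2 : ℤ), (0 : ℤ))),
   ((r14, r7, r21, r3), r9, ((-2 : ℤ), (0 : ℤ), (-2 : ℤ), (0 : ℤ))), ((r14, r8, r2, r20), r9, ((-2 : ℤ), (0 : ℤ), (0 : ℤ), (-2 : ℤ))),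
   ((r14, r22, r2, r3), r8, ((-2 : ℤ), (0 : ℤ), (0 : ℤ), (2 : ℤ))), ((r15, r0, r22, r19), r8, ((-2 : ℤ), (0 : ℤ), (-2 : ℤ), (0 : ℤ))),
   ((r15, r13, r1, r19), r9, ((-2 : ℤ), (0 : ℤ), (0 : ℤ), (-2 : ℤ))), ((r15, r18, r1, r4), r18, ((-2 : ℤ), (0 : ℤ), (0 : ℤ), (-2 : ℤ))),
   ((r16, r0, r19, r22), r9, ((-2 : ℤ), (0 : ℤ), (-2 : ℤ), (0 : ℤ))), ((r16, r12, r19, r1), r9, ((-2 : ℤ), (0 : ℤ), (-2 : ℤ), (0 : ℤ))),
   ((r16, r18, r4, r1), r18, ((-2 : ℤ), (0 : ℤ), (-2 : ℤ), (0 : ℤ))), ((r17, r1, r20, r21), r8, ((-2 : ℤ), (0 : ℤ), (-2 : ℤ), (0 : ℤ))),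
   ((r17, r7, r3, r21), r18, ((-2 : ℤ), (0 : ℤ), (-2 : ℤ), (0 : ℤ))), ((r17, r8, r20, r2), r8, ((-2 : ℤ), (0 : ℤ), (-2 : ℤ), (0 : ℤ))),
   ((r19, r5, r7, r8), r9, ((-4 : ℤ), (0 : ℤ), (0 : ℤ), (0 : ℤ))), ((r20, r4, r6, r14), r8, ((-4 : ℤ), (0 : ℤ), (0 : ℤ), (0 : ℤ))),
   ((r21, r4, r14, r6), r7, ((-4 : ℤ), (0 : ℤ), (0 : ℤ), (0 : ℤ))), ((r22, r0, r15, r16), r6, ((-4 : ℤ), (0 : ℤ), (0 : ℤ), (0 : ℤ))),
   ((r23, r2, r11, r13), r9, ((-2 : ℤ), (0 : ℤ), (-2 : ℤ), (0 : ℤ))), ((r23, r3, r12, r10), r8, ((-2 : ℤ), (0 : ℤ), (-2 : ℤ), (0 : ℤ)))]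

/-- the normal vectors of the subsystems `A₃` -/
def NL : List T4 :=
  [((-1 : ℤ), (0 : ℤ), (0 : ℤ), (0 : ℤ)), ((-1 : ℤ), (0 : ℤ), (0 : ℤ), (1 : ℤ)), ((-1 : ℤ), (0 : ℤ), (1 : ℤ), (0 : ℤ)), ((-1 : ℤ), (1 : ℤ), (-1 : ℤ), (0 : ℤ)), ((-1 : ℤ), (1 : ℤ), (0 : ℤ), (-1 : ℤ)), ((-1 : ℤ), (1 : ℤ), (0 : ℤ), (0 : ℤ)), ((0 : ℤ), (-1 : ℤ), (0 : ℤ), (1 : ℤ)), ((0 : ℤ), (-1 : ℤ), (1 : ℤ), (0 : ℤ)), ((0 : ℤ), (-1 : ℤ), (1 : ℤ), (1 : ℤ)), ((0 : ℤ), (0 : ℤ), (-1 : ℤ), (0 : ℤ)), ((0 : ℤ), (0 : ℤ), (-1 : ℤ), (1 : ℤ)), ((0 : ℤ), (0 : ℤ), (0 : ℤ), (-1 : ℤ)), ((0 : ℤ), (0 : ℤ), (0 : ℤ), (1 : ℤ)), ((0 : ℤ), (0 : ℤ), (1 : ℤ), (-1 : ℤ)), ((0 : ℤ), (0 : ℤ), (1 : ℤ), (0 : ℤ)), ((0 : ℤ), (1 : ℤ), (-1 : ℤ), (-1 : ℤ)), ((0 : ℤ), (1 : ℤ), (-1 : ℤ), (0 : ℤ)), ((0 : ℤ), (1 : ℤ), (0 : ℤ), (-1 : ℤ)), ((1 : ℤ), (-1 : ℤ), (0 : ℤ), (0 : ℤ)), ((1 : ℤ), (-1 : ℤ), (0 : ℤ), (1 : ℤ)), ((1 : ℤ), (-1 : ℤ), (1 : ℤ), (0 : ℤ)),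 ((1 : ℤ), (0 : ℤ), (-1 : ℤ), (0 : ℤ)), ((1 : ℤ), (0 : ℤ), (0 : ℤ), (-1 : ℤ)), ((1 : ℤ), (0 : ℤ), (0 : ℤ), (0 : ℤ))]

/-- the Weyl group -/
def WL : List M4 := PL.map Prod.fst

/-- the identity -/
def id4 : M4 := (r18, r14, r13, r12)

/-! ### evaluation on the indices of the roots -/

private noncomputable def fN (x : ℕ) (k : ℕ → Bool) : Bool := Nat.rec (k 0) (fun m _ => k (Nat.succ m)) x

private theorem fN_eq (x : ℕ) (k : ℕ → Bool) : fN x k = k x := by cases x <;> rfl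

private noncomputable def fZ (x : ℤ) (k : ℤ → Bool) : Bool :=
  Int.rec (fun n => fN n fun n => k (Int.ofNat n)) (fun n => fN n fun n => k (Int.negSucc n)) x

private theorem fZ_eq (x : ℤ) (k : ℤ → Bool) : fZ x k = k x := by
  cases x
  exacts [fN_eq _ fun n => k (Int.ofNat n), fN_eq _ fun n => k (Int.negSucc n)]

private noncomputable def fT (x : T4) (k : T4 → Bool) : Bool :=
  fZ x.1 fun a => fZ x.2.1 fun b => fZ x.2.2.1 fun c => fZ x.2.2.2 fun d => k (a, b, c, d)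

private theorem fT_eq (x : T4) (k : T4 → Bool) : fT x k = k x := by simp only [fT, fZ_eq]

private noncomputable def fL (G : List ℕ) : (List ℕ → Bool) → Bool :=
  List.rec (fun k => k []) (fun a _ ih k => ih fun t => k (a :: t)) G

private theorem fL_eq (G : List ℕ) (k : List ℕ → Bool) : fL G k = k G := by
  induction G generalizing k with
  | nil => rfl
  | cons a G ih => exact ih _

private noncomputable def cN {α : Type} (L : List α) (f : α → Bool) : ℕ :=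
  List.rec 0 (fun a _ ih => Bool.rec ih (Nat.succ ih) (f a)) L

private theorem cN_eq {α : Type} (L : List α) (f : α → Bool) : cN L f = (L.filter f).length := by
  induction L with
  | nil => rfl
  | cons a L ih =>
    show Bool.rec (motive := fun _ => ℕ) (cN L f) (Nat.succ (cN L f)) (f a) = _
    rw [List.filter_cons, ih]
    cases f a <;> rfl

private noncomputable def mN (x : ℕ) (L : List ℕ) : Bool := List.rec false (fun a _ ih => Bool.rec ih true (Nat.beq a x)) L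

private theorem mN_iff {x : ℕ} {L : List ℕ} : mN x L = true ↔ x ∈ L := by
  induction L with
  | nil => exact ⟨fun h => (Bool.false_ne_true h).elim, fun h => (List.not_mem_nil h).elim⟩
  | cons a L ih =>
    show Bool.rec (motive := fun _ => Bool) (mN x L) true (Nat.beq a x) = true ↔ _
    rw [List.mem_cons, ← ih, eq_comm (a := x), ← Nat.beq_eq]
    cases Nat.beq a x <;> simp only [Bool.false_eq_true, false_or, true_or]

private def ky (m : M4) : ℕ := (dt m.1 (1, 5, 25, 125) + 625 * (dt m.2.1 (1, 5, 25, 125) + 625 * (dt m.2.2.1 (1, 5, 25, 125) +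
  625 * dt m.2.2.2 (1, 5, 25, 125))) + 1000000000001).natAbs

private noncomputable def sc (x : M4) (u v : ℕ) (L : List M4) : Bool :=
  List.rec false (fun a _ ih => Bool.rec (Bool.rec ih (a == x) (Nat.beq (ky a) u)) false (Nat.beq (ky a) v)) L

private theorem sc_lt {x y : M4} {u : ℕ} {L : List M4} (h : sc x u (ky y) L = true) : L.idxOf x < L.idxOf y := by
  induction L with
  | nil => cases h
  | cons a L ih =>
    have h1 : Bool.rec (motive := fun _ => Bool) (Bool.rec (motive := fun _ => Bool) (sc x u (ky y) L) (a == x)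
      (Nat.beq (ky a) u)) false (Nat.beq (ky a) (ky y)) = true := h
    have h2 : a ≠ y := fun e => by rw [e, Nat.beq_refl] at h1; cases h1
    rw [List.idxOf_cons_ne _ h2]
    by_cases h3 : a = x
    · rw [List.idxOf_cons_eq _ h3]
      exact Nat.succ_pos _
    · rw [List.idxOf_cons_ne _ h3]
      rw [beq_false_of_ne h3] at h1
      refine Nat.succ_lt_succ (ih ?_)
      revert h1
      cases Nat.beq (ky a) (ky y) <;> cases Nat.beq (ky a) u <;> first | exact id | exact fun h => (Bool.false_ne_true h).elim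

private noncomputable def an (a b : Bool) : Bool := Bool.rec false b a

private theorem an_eq (a b : Bool) : an a b = (a && b) := by cases a <;> rfl

private def R (i : ℕ) : T4 := RL.getD i r0

private def pm (n i : ℕ) : ℕ := Nat.mod (Nat.div n (Nat.pow 25 i)) 25

private def pp (n i : ℕ) : ℕ := pm n (pm 3397614474310148848187152932456900 i)

private def toM (n : ℕ) : M4 := (R (pm n 18), R (pm n 14), R (pm n 13), R (pm n 12))

private def QL : List ℕ := [3398516036491451409852339161766900, 3368909978816082325951092952863900, 1997803064683382384301499923648684, 2200480706080391828476063637950908, 2352439459604765758646852202267132, 2543967420156332559846234275178156, 53044178129231182185643122134748, 3393050336571989148648720020766300, 3386711521649413553551692676580700, 3262091481906721909768891886766876, 3114735526413161132955977814140652, 2971535599385775164559731710550028,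 2807345987214309433973466074267004, 733762509554233456742451649544868, 716928852294290693974807117138068, 2736765625812982479572767552554804, 2912114765936299697319061733729028, 3061890731885831628433990922895252, 3226090192837404628487103462678276, 23438120453862098284396913231748, 3363444278896620064747473811863300, 3357105463974044469650446467677700, 2052451333285873896629445239529684, 2050696372129649093466646411284084, 1280866216717180780893162765884964, 2247698764309502962086694500570708, 1188193455544717435310793620014740, 2145823705769075567151530431069908, 2396165057843771228955725252146932, 1050013939852300570159322907394116, 2293416884255522775364897120086132, 956852233186433918752820946743892, 2494784853147001791224367084672756, 2485171856962744602802388568387156, 1791207042520278574806483531700836, 1572123221502497848806810431521812, 1943165796044652504977272096017060,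 1428268458289839670480144406011188, 1976415483893973720152326042800660, 1461518146139160885655198352794788, 1832560720681315541825660017290036, 1613476899663534815825986917111012, 2550361603812496073510956149738756, 2375650955274212644244399495984532, 2229613404553763393833749095323908, 2021724388153073362844622129036084, 47578478209768920982023981134148, 41239663287193325884996636948548, 3381245821729951292348073535580100, 224283855712997337146275192398372, 3251160080949315942045479776640676, 3244384708458122035637905557425076, 355907398159678850833702183067796, 3120201227451998851930604767641252, 3091126496124686872224503203143252, 502190904230862394801170434494020, 2977437858015581503835530539080628, 2949672799148238104757456318422628, 622664767505799690795415783772244, 2823743088091177720120956309768804, 2819150503241889634943753184453204, 2687755089889522696657663331673780,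 2670921432629579933890018799266980, 727860252133215273602504383514268, 722831109715308877114754383168668, 2610779497094247544876422594775980, 2593945839834304782108778062369180, 597337954969503956659004374544844, 569136338622954944635227028856844, 2764085393141781765472443335307804, 2760147644410714963253785131912204, 449108884405768946599215301858620, 433148342798038226072738738261820, 2929821536990575030727563688070828, 2884786266898675662422798059976028, 308091745020288799433340292167996, 289948415770652257676492634671196, 3078287830524843297596594439647052, 3032379445385122870636164748992252, 171230634125197847623977001512972, 142592460277091480863578562044972, 3204236125428067661011505805300876, 3196805916818652471645386664165276, 17972420534399837080777772231148, 11633605611824241983750428045548, 3351639764054582208446827326677100, 2099896401996941631196185477539484, 1324618010080872244400295582514764,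 1322863048924647441237496754269164, 1240632742096811357003858075620140, 2193041765671885126044161293689708, 1138975962262457723054875646759340, 1099179045120362589536811190899516, 2337142484168226670955770169965932, 996212592826040374959801418198716, 902221428557703125720547506612892, 892608432373445937298568990327292, 2441437525341215958214927627507356, 1820718329625381410672235486853836, 1643177320455507816658449108279612, 1601634508607600684672562386674812, 1720152943567268606954844854943036, 1970494295641964268759039676020060, 1504997804763090951506978395658988, 1455596957887151434261911986014188, 1866436449571401223950438106369260, 1538247492612412166682032342442588, 1949086984296661956370558462797660, 1899686137420722439125492053152860, 1434189646541849121873430772791788, 1684530998616544783677625593868812, 1803049433576212705959908062137036, 1761506621728305573974021340532236,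 1583965612558431979960234961958012, 963246416842597432417542821304492, 2512075509810367453333901458484556, 2502462513626110264911922942198956, 860716522027480830786236173633692, 2408471349357773015672669030613132, 1067541458015586719676700278845916, 1052244482579047631985618246544716, 2305504897063450801095659257912332, 2265707979921355667577594802052508, 1211642176511928264588309155122140, 1204203236103421562156406810860940, 2164051200087002033628612373191708, 1406880877500431006330970525163164, 2081820893259165949394973694542684, 2080065932102941146232174866297084, 1304787540186871759436284971272364, 35773963367731064681377495947948, 207878025365160918987083784646572, 200447816755745729620964643510972, 3233453308058615543008493447298876, 372304496798690519996305699819596, 326396111658970093035876009164796, 3096592197163524591199130156643852, 519897675285137728209672388835820,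 474862405193238359904906760741020, 2955575057778044444033255146953228, 644536297773098427378685316899644, 640598549042031625160027113504044, 2835547603560858445997243419955004, 810738102349508608523692386442668, 793904445089565845756047854035868, 2681852832468504513517716065643180, 2676823690050598117029966065297580, 2604877239673229361736475328745380, 2599848097255322965248725328399780, 585533438941923755688717264358644, 580940854092635670511514139043044, 2782019174678013699837054665039604, 455011143035575285875014130389220, 427246084168231886796939909731220, 2902493037952950995831300014317828, 313557446059126518407967245668596, 284482714731814538701865681170596, 3048776544024134539798768265744052, 160299233725691354994564891386772, 153523861234497448586990672171172, 3180400086470816053486195256413476, 6167905692361980780131287044948, 1382959554030740027787848319775764, 1175070537630049996798721353487940,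 1029032986909600746388070952827316, 854322338371317317121514299073092, 1672688607560610652524201063432612, 1749664230672371442820596810096036, 1532326304360402715288745975661988, 1893764949168712987732205686372260, 1510918993015100402900264762439588, 1872357637823410675343724473149860, 1655019711511441947811873638715812, 1731995334623202738108269385379236, 919512085221068787830081880424692, 909899089036811599408103364139092, 2447831708997379471879649502067956, 1111267057928290615267573328725716, 2354670002331512820473147541417732, 1008518884340042161676745196664916, 1258860236414737823480940017741940, 2216490486639095955321676828797108, 1156985177874310428545775948241140, 2123817725466632609739307682926884, 1353987570054164297165824037527764, 1352232608897939494003025209282164, 178593749346408762145366986133572, 342793210297981762198479525916596, 492569176247513693313408715082820,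 667918316370830911059702896257044, 804835844928490425383745120412068, 799806702510584028895995120066468]

private theorem WL_eq : WL = QL.map toM := eq_of_beq (by decide +kernel)

private theorem RL_eq : RL = (List.range 24).map R := rfl

private theorem R_beq : ∀ i < 24, ∀ j < 24, (R i == R j) = Nat.beq i j := by decide +kernel

private theorem R_neg : ∀ i < 24, R (23 - i) = -R i := by decide +kernel

private theorem ap_add (m : M4) (x y : T4) : ap m (x + y) = ap m x + ap m y := by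
  refine Prod.ext ?_ (Prod.ext ?_ (Prod.ext ?_ ?_)) <;> simp only [ap, Prod.fst_add, Prod.snd_add] <;> ring

private theorem ap_neg (m : M4) (x : T4) : ap m (-x) = -ap m x := by
  refine Prod.ext ?_ (Prod.ext ?_ (Prod.ext ?_ ?_)) <;> simp only [ap, Prod.fst_neg, Prod.snd_neg] <;> ring

private theorem ap_tm (m : M4) (x : T4) : ap (tm m) x = ap m (ap (tm id4) x) := by
  refine Prod.ext ?_ (Prod.ext ?_ (Prod.ext ?_ ?_)) <;> simp only [ap, tm, id4, r18, r14, r13, r12] <;> ring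

private theorem _root_.Cfsg.Agent.KO48c2685.e0.{ku, kv} {α : Type kv} {M : List α → Sort ku} (φ : ∀ l, M l) {z : M List.nil} {s : ∀ a l, M l → M (List.cons a l)} (h0 : φ List.nil = z) (hs : ∀ a l, φ (List.cons a l) = s a l (φ l)) (l : List α) : φ l = @List.rec α M z s l := List.rec h0 (fun a l ih => (hs a l).trans (congrArg (s a l) ih)) l
private noncomputable def _root_.Cfsg.Agent.KO48c2685.k2 : type_of% @Nat.decEq := @(fun x0 x1 => @Bool.rec.{1} @(fun x2 => (@Eq.{1} _ (@Nat.beq @x0 @x1) @x2) → @Decidable (@Eq.{1} _ @x0 @x1)) @(fun x2 => @Decidable.isFalse _ (@Nat.ne_of_beq_eq_false _ _ @x2)) @(fun x2 => @Decidable.isTrue _ (@Nat.eq_of_beq_eq_true _ _ @x2)) (@Nat.beq @x0 @x1) (@Eq.refl.{1} _ (@Nat.beq @x0 @x1)))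
private theorem _root_.Cfsg.Agent.KO48c2685.e2 : @Nat.decEq = @_root_.Cfsg.Agent.KO48c2685.k2 := by delta _root_.Cfsg.Agent.KO48c2685.k2; rfl'
private noncomputable def _root_.Cfsg.Agent.KO48c2685.k3 : type_of% @Int.decEq := @(fun x0 x1 => @Int.rec.{1} @(fun x2 => @Decidable (@Eq.{1} _ @x2 @x1)) @(fun x2 => @Int.rec.{1} @(fun x3 => @Decidable (@Eq.{1} _ (@Int.ofNat @x2) @x3)) @(fun x3 => @Decidable.rec.{1} _ @(fun x4 => @Decidable (@Eq.{1} _ (@Int.ofNat @x2) (@Int.ofNat @x3))) @(fun x4 => @Decidable.isFalse _ (@Int.decEq._proof_2 @x2 @x3 @x4)) @(fun x4 => @Decidable.isTrue _ (@Int.decEq._proof_1 @x2 @x3 @x4)) (@Cfsg.Agent.KO48c2685.k2 @x2 @x3)) @(fun x3 => @Decidable.isFalse _ (@Int.decEq._proof_3 @x2 @x3)) @x1) @(fun x2 => @Int.rec.{1} @(fun x3 => @Decidable (@Eq.{1} _ (@Int.negSucc @x2) @x3)) @(fun x3 => @Decidable.isFalse _ (@Int.decEq._proof_4 @x2 @x3)) @(fun x3 => @Decidable.rec.{1}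 _ @(fun x4 => @Decidable (@Eq.{1} _ (@Int.negSucc @x2) (@Int.negSucc @x3))) @(fun x4 => @Decidable.isFalse _ (@Int.decEq._proof_6 @x2 @x3 @x4)) @(fun x4 => @Decidable.isTrue _ (@Int.decEq._proof_5 @x2 @x3 @x4)) (@Cfsg.Agent.KO48c2685.k2 @x2 @x3)) @x1) @x0)
private theorem _root_.Cfsg.Agent.KO48c2685.e3 : @Int.decEq = @_root_.Cfsg.Agent.KO48c2685.k3 := by delta _root_.Cfsg.Agent.KO48c2685.k3; rewrite [← Cfsg.Agent.KO48c2685.e2]; rfl'
private noncomputable def _root_.Cfsg.Agent.KO48c2685.k4 : type_of% @Int.instDecidableEq := @Cfsg.Agent.KO48c2685.k3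
private theorem _root_.Cfsg.Agent.KO48c2685.e4 : @Int.instDecidableEq = @_root_.Cfsg.Agent.KO48c2685.k4 := by delta _root_.Cfsg.Agent.KO48c2685.k4; rewrite [← Cfsg.Agent.KO48c2685.e3]; rfl'
private noncomputable def _root_.Cfsg.Agent.KO48c2685.k6.{ku0} : type_of% @List.get?Internal.{ku0} := @(fun x0 x1 x2 => @List.rec.{(ku0+1), ku0} @x0 @(fun x3 => ℕ → @Option.{ku0} @x0) @(fun x3 => @Option.none.{ku0} _) @(fun x3 x4 x5 x6 => @Nat.rec.{(ku0+1)} @(fun x7 => @Option.{ku0} @x0) (@Option.some.{ku0} _ @x3) @(fun x7 x8 => @x5 @x7) @x6) @x1 @x2)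
private theorem _root_.Cfsg.Agent.KO48c2685.e6.{ku0} : @List.get?Internal.{ku0} = @_root_.Cfsg.Agent.KO48c2685.k6.{ku0} := by delta _root_.Cfsg.Agent.KO48c2685.k6; funext a0 a1 a2; refine (congrFun (_root_.Cfsg.Agent.KO48c2685.e0 (fun a1 a2 => @List.get?Internal.{ku0} a0 a1 a2) ?_ (fun c0 c1 => ?_) a1) a2 :) <;> [(funext b0; (rfl')); (funext b0; (cases b0 with | @zero  => (rfl') | @succ b0_0 => (rfl')))]
private noncomputable def _root_.Cfsg.Agent.KO48c2685.k7 : (by first | exact type_of% @Cfsg.Agent.SB.Low.Tab.D.pm | exact Unit : Sort _) := by first | (refine @Subtype.val _ (fun g => @Cfsg.Agent.SB.Low.Tab.D.pm = @g) (@Subtype.mk _ _ (@(fun x0 x1 => @Nat.mod (@Nat.div @x0 (@Nat.pow (nat_lit 25) @x1)) (nat_lit 25))) ?_); rfl') | exact @Cfsg.Agent.SB.Low.Tab.D.pm | exact ()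
private theorem _root_.Cfsg.Agent.KO48c2685.e7 : (by first | exact @Cfsg.Agent.SB.Low.Tab.D.pm = @_root_.Cfsg.Agent.KO48c2685.k7 | exact True : Prop) := by first | (delta _root_.Cfsg.Agent.KO48c2685.k7; exact @Subtype.property _ (fun g => @Cfsg.Agent.SB.Low.Tab.D.pm = @g) _) | rfl | trivial
private noncomputable def _root_.Cfsg.Agent.KO48c2685.k9.{ku0} : type_of% @List.all.{ku0} := @(fun x0 x1 x2 => @List.rec.{(ku0+1), ku0} @x0 @(fun x3 => (@x0 → @Bool) → @Bool) @(fun x3 => @Bool.true) @(fun x3 x4 x5 x6 => @Bool.rec.{1} @(fun x7 => @Bool) @Bool.false (@x5 @x6) (@x6 @x3)) @x1 @x2)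
private theorem _root_.Cfsg.Agent.KO48c2685.e9.{ku0} : @List.all.{ku0} = @_root_.Cfsg.Agent.KO48c2685.k9.{ku0} := by delta _root_.Cfsg.Agent.KO48c2685.k9; funext a0 a1 a2; refine (congrFun (_root_.Cfsg.Agent.KO48c2685.e0 (fun a1 a2 => @List.all.{ku0} a0 a1 a2) ?_ (fun c0 c1 => ?_) a1) a2 :) <;> (rfl')
private noncomputable def _root_.Cfsg.Agent.KO48c2685.k10 : type_of% @Bool.and := @(fun x0 x1 => @Bool.rec.{1} @(fun x2 => @Bool) @Bool.false @x1 @x0)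
private theorem _root_.Cfsg.Agent.KO48c2685.e10 : @Bool.and = @_root_.Cfsg.Agent.KO48c2685.k10 := by delta _root_.Cfsg.Agent.KO48c2685.k10; rfl'
private theorem _root_.Cfsg.Agent.KO48c2685.e11.{ku} {M : Nat → Sort ku} (φ : ∀ n, M n) {z : M Nat.zero} {s : ∀ n, M n → M (Nat.succ n)} (h0 : φ Nat.zero = z) (hs : ∀ n, φ (Nat.succ n) = s n (φ n)) (n : Nat) : φ n = @Nat.rec M z s n := Nat.rec h0 (fun n ih => (hs n).trans (congrArg (s n) ih)) n
private noncomputable def _root_.Cfsg.Agent.KO48c2685.k12 : type_of% @List.range.loop := @(fun x0 x1 => @Nat.rec.{1} @(fun x2 => (@List.{0} ℕ) → @List.{0} ℕ) @(fun x2 => @x2) @(fun x2 x3 x4 => @x3 (@x2 :: @x4)) @x0 @x1)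
private theorem _root_.Cfsg.Agent.KO48c2685.e12 : @List.range.loop = @_root_.Cfsg.Agent.KO48c2685.k12 := by delta _root_.Cfsg.Agent.KO48c2685.k12; funext a0 a1; refine (congrFun (_root_.Cfsg.Agent.KO48c2685.e11 (fun a0 a1 => @List.range.loop a0 a1) ?_ (fun c0 => ?_) a0) a1 :) <;> (rfl')
private noncomputable def _root_.Cfsg.Agent.KO48c2685.k13 : type_of% @List.range := @(fun x0 => @Cfsg.Agent.KO48c2685.k12 @x0 [])
private theorem _root_.Cfsg.Agent.KO48c2685.e13 : @List.range = @_root_.Cfsg.Agent.KO48c2685.k13 := by delta _root_.Cfsg.Agent.KO48c2685.k13; rewrite [← Cfsg.Agent.KO48c2685.e12]; rfl'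
private noncomputable def _root_.Cfsg.Agent.KO48c2685.k14 : (by first | exact type_of% @Cfsg.Agent.SB.Low.Tab.D.fN | exact Unit : Sort _) := by first | (refine @Subtype.val _ (fun g => @Cfsg.Agent.SB.Low.Tab.D.fN = @g) (@Subtype.mk _ _ (@(fun x0 x1 => @Nat.rec.{1} @(fun x2 => @Bool) (@x1 (nat_lit 0)) @(fun x2 x3 => @x1 (@Nat.succ @x2)) @x0)) ?_); rfl') | exact @Cfsg.Agent.SB.Low.Tab.D.fN | exact ()
private theorem _root_.Cfsg.Agent.KO48c2685.e14 : (by first | exact @Cfsg.Agent.SB.Low.Tab.D.fN = @_root_.Cfsg.Agent.KO48c2685.k14 | exact True : Prop) := by first | (delta _root_.Cfsg.Agent.KO48c2685.k14; exact @Subtype.property _ (fun g => @Cfsg.Agent.SB.Low.Tab.D.fN = @g) _) | rfl | trivial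
private noncomputable def _root_.Cfsg.Agent.KO48c2685.k15 : (by first | exact type_of% @Cfsg.Agent.SB.Low.Tab.D.R | exact Unit : Sort _) := by first | (refine @Subtype.val _ (fun g => @Cfsg.Agent.SB.Low.Tab.D.R = @g) (@Subtype.mk _ _ (@(fun x0 => @Option.rec.{1, 0} @Cfsg.Agent.SB.Low.Tab.D.T4 @(fun x1 => @Cfsg.Agent.SB.Low.Tab.D.T4) @Cfsg.Agent.SB.Low.Tab.D.r0 @(fun x1 => @x1) (@Cfsg.Agent.KO48c2685.k6.{0} _ @Cfsg.Agent.SB.Low.Tab.D.RL @x0))) ?_); rewrite [← Cfsg.Agent.KO48c2685.e6.{0}]; (try delta Cfsg.Agent.SB.Low.Tab.D.R); (try generalize @Cfsg.Agent.SB.Low.Tab.D.r0 = g0); (try generalize @Cfsg.Agent.SB.Low.Tab.D.RL = g1); rfl') | exact @Cfsg.Agent.SB.Low.Tab.D.R | exact ()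
private theorem _root_.Cfsg.Agent.KO48c2685.e15 : (by first | exact @Cfsg.Agent.SB.Low.Tab.D.R = @_root_.Cfsg.Agent.KO48c2685.k15 | exact True : Prop) := by first | (delta _root_.Cfsg.Agent.KO48c2685.k15; exact @Subtype.property _ (fun g => @Cfsg.Agent.SB.Low.Tab.D.R = @g) _) | rfl | trivial

private theorem chk_q : (QL.all fun n => ((List.range 24).all fun i => Nat.beq (Nat.add (pm n i) (pm n (23 - i))) 23) &&
    [(15, 14, 12), (16, 14, 13), (17, 16, 12), (19, 18, 14), (20, 19, 12), (21, 19, 13), (22, 21, 12), (23, 22, 14)].all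
      fun t : ℕ × ℕ × ℕ => fN (pm n t.1) fun a => fN (pm n t.2.1) fun b => fN (pm n t.2.2) fun c => R a == R b + R c) = true := by
  (first | (rewrite [Cfsg.Agent.KO48c2685.e9.{0}, Cfsg.Agent.KO48c2685.e10, Cfsg.Agent.KO48c2685.e13, Cfsg.Agent.KO48c2685.e7, Cfsg.Agent.KO48c2685.e14, Cfsg.Agent.KO48c2685.e4, Cfsg.Agent.KO48c2685.e15]; decide +kernel) | decide +kernel)

section

variable {n i : ℕ} (hn : n ∈ QL) (hi : i < 24)

include hn hi

private theorem sq : pm n i + pm n (23 - i) = 23 :=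
  Nat.eq_of_beq_eq_true (List.all_eq_true.1 (Bool.and_eq_true_iff.1 (List.all_eq_true.1 chk_q n hn)).1 i (List.mem_range.2 hi))

private theorem lq : pm n i < 24 := by have := sq hn hi; omega

private theorem hq : ap (toM n) (R i) = R (pm n i) := by
  have h := (Bool.and_eq_true_iff.1 (List.all_eq_true.1 chk_q n hn)).2
  simp only [List.all_cons, List.all_nil, fN_eq, Bool.and_eq_true, beq_iff_eq, and_true] at h
  obtain ⟨a15, a16, a17, a19, a20, a21, a22, a23⟩ := h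
  have s : ∀ m : M4, ap m r18 = m.1 ∧ ap m r14 = m.2.1 ∧ ap m r13 = m.2.2.1 ∧ ap m r12 = m.2.2.2 := fun m => by
    simp only [ap, r18, r14, r13, r12, one_mul, zero_mul, add_zero, zero_add, and_self]
  have ad : ∀ {i j k : ℕ}, ap (toM n) (R j) = R (pm n j) → ap (toM n) (R k) = R (pm n k) →
      R (pm n i) = R (pm n j) + R (pm n k) → R i = R j + R k → ap (toM n) (R i) = R (pm n i) := fun h1 h2 h3 h4 => by
    rw [h4, ap_add, h1, h2, h3]
  have b18 : ap (toM n) (R 18) = R (pm n 18) := (s _).1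
  have b14 : ap (toM n) (R 14) = R (pm n 14) := (s _).2.1
  have b13 : ap (toM n) (R 13) = R (pm n 13) := (s _).2.2.1
  have b12 : ap (toM n) (R 12) = R (pm n 12) := (s _).2.2.2
  have b15 := ad b14 b12 a15 (by decide +kernel)
  have b16 := ad b14 b13 a16 (by decide +kernel)
  have b17 := ad b16 b12 a17 (by decide +kernel)
  have b19 := ad b18 b14 a19 (by decide +kernel)
  have b20 := ad b19 b12 a20 (by decide +kernel)
  have b21 := ad b19 b13 a21 (by decide +kernel)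
  have b22 := ad b21 b12 a22 (by decide +kernel)
  have b23 := ad b22 b14 a23 (by decide +kernel)
  have h1 : ∀ j, 12 ≤ j → j < 24 → ap (toM n) (R j) = R (pm n j) := fun j h1 h2 => by
    interval_cases j <;> assumption
  by_cases h2 : 12 ≤ i
  · exact h1 i h2 hi
  · have h3 := h1 (23 - i) (by omega) (by omega)
    have h4 := sq hn hi
    rw [R_neg i hi, ap_neg, show pm n (23 - i) = 23 - pm n i by omega, R_neg _ (lq hn hi)] at h3
    exact neg_injective h3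

omit hn hi in
private theorem chk_gm : ∀ i < 24, pm 3397614474310148848187152932456900 i < 24 ∧
    ap (tm id4) (R i) = R (pm 3397614474310148848187152932456900 i) := by decide +kernel

private theorem lp : pp n i < 24 := lq hn (chk_gm i hi).1

private theorem hp : ap (tm (toM n)) (R i) = R (pp n i) := by
  rw [ap_tm, (chk_gm i hi).2, hq hn (chk_gm i hi).1]
  rfl

end

private theorem allW {f : M4 → Bool} {g : ℕ → Bool} (H : QL.all g = true) (h : ∀ n ∈ QL, f (toM n) = g n) : WL.all f = true := by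
  rw [WL_eq, List.all_map, List.all_eq_true]
  exact fun n hn => (h n hn).trans (List.all_eq_true.1 H n hn)

private theorem allR {f : T4 → Bool} {g : ℕ → Bool} (h : ∀ i < 24, f (R i) = g i) : RL.all f = (List.range 24).all g := by
  rw [RL_eq, List.all_map, Bool.eq_iff_iff, List.all_eq_true, List.all_eq_true]
  exact forall₂_congr fun i hi => by rw [← h i (List.mem_range.1 hi)]; rfl

private theorem anyR {f : T4 → Bool} {g : ℕ → Bool} (h : ∀ i < 24, f (R i) = g i) : RL.any f = (List.range 24).any g := by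
  rw [RL_eq, List.any_map, Bool.eq_iff_iff, List.any_eq_true, List.any_eq_true]
  exact exists_congr fun i => and_congr_right fun hi => by rw [← h i (List.mem_range.1 hi)]; rfl

theorem vec_mem : ∀ s < 24, vt (vec chevD4 4 s) ∈ RL := by decide +kernel

theorem mem_vec : (RL.all fun x => (List.range 24).any fun s => vt (vec chevD4 4 s) == x) = true := by decide +kernel

theorem cartan_eq : ∀ i j : Fin 4, cartanOf chevD4 4 i j =
    (![![2, -1, 0, 0], ![-1, 2, -1, -1], ![0, -1, 2, 0], ![0, -1, 0, 2]] : Fin 4 → Fin 4 → ℤ) i j := by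
  decide +kernel

theorem chk_W : (WL.all fun m => [r18, r14, r13, r12].all fun c => WL.contains (rm c m)) = true := by
  have h1 : (([(r18, 3368909978816082325951092952863900), (r14, 3262091481906721909768891886766876), (r13, 3386711521649413553551692676580700), (r12, 3393050336571989148648720020766300)] : List (T4 × ℕ)).all fun c => (List.range 24).all fun i => rf c.1 (R i) == R (pm c.2 i)) = true := by
    decide +kernel
  have h2 : (QL.all fun n => ([(r18, 3368909978816082325951092952863900), (r14, 3262091481906721909768891886766876), (r13, 3386711521649413553551692676580700), (r12, 3393050336571989148648720020766300)] : List (T4 × ℕ)).all fun c => fN (pm c.2 (pm n 18) + 25 * (pm c.2 (pm n 14) + 25 * (pm c.2 (pm n 13) +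
      25 * pm c.2 (pm n 12)))) fun x => mN x (QL.map fun v => pm v 18 + 25 * (pm v 14 + 25 * (pm v 13 + 25 * pm v 12)))) = true := by
    decide +kernel
  rw [WL_eq, List.all_map]
  refine List.all_eq_true.2 fun n hn => List.all_eq_true.2 fun c hc => ?_
  obtain ⟨c', hc', rfl⟩ := List.mem_map.1 (show c ∈ ([(r18, 3368909978816082325951092952863900), (r14, 3262091481906721909768891886766876), (r13, 3386711521649413553551692676580700), (r12, 3393050336571989148648720020766300)] : List (T4 × ℕ)).map Prod.fst from hc)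
  have h4 : ∀ i < 24, rf c'.1 (R (pm n i)) = R (pm c'.2 (pm n i)) := fun i hi =>
    eq_of_beq (List.all_eq_true.1 (List.all_eq_true.1 h1 c' hc') _ (List.mem_range.2 (lq hn hi)))
  obtain ⟨v, hv, e⟩ := List.mem_map.1 (mN_iff.1 ((fN_eq _ _).symm.trans (List.all_eq_true.1 (List.all_eq_true.1 h2 n hn) c' hc')))
  have b : ∀ x y, pm x y < 25 := fun x y => Nat.mod_lt _ (by decide)
  have e' : pm v 18 = pm c'.2 (pm n 18) ∧ pm v 14 = pm c'.2 (pm n 14) ∧ pm v 13 = pm c'.2 (pm n 13) ∧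
      pm v 12 = pm c'.2 (pm n 12) := by
    have := b v 18; have := b v 14; have := b v 13
    have := b c'.2 (pm n 18); have := b c'.2 (pm n 14); have := b c'.2 (pm n 13)
    omega
  refine List.contains_iff_mem.2 (List.mem_map.2 ⟨v, hv, ?_⟩)
  rw [toM, e'.1, e'.2.1, e'.2.2.1, e'.2.2.2, ← h4 18 (by decide), ← h4 14 (by decide), ← h4 13 (by decide), ← h4 12 (by decide)]
  rfl

private noncomputable def _root_.Cfsg.Agent.KO48c2685.k1.{ku0, ku1} : type_of% @List.map.{ku0, ku1} := @(fun x0 x1 x2 x3 => @List.rec.{(ku1+1), ku0} @x0 @(fun x4 => @List.{ku1} @x1) [] @(fun x4 x5 x6 => (@x2 @x4) :: @x6) @x3)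
private theorem _root_.Cfsg.Agent.KO48c2685.e1.{ku0, ku1} : @List.map.{ku0, ku1} = @_root_.Cfsg.Agent.KO48c2685.k1.{ku0, ku1} := by delta _root_.Cfsg.Agent.KO48c2685.k1; funext a0 a1 a2 a3; refine (_root_.Cfsg.Agent.KO48c2685.e0 (fun a3 => @List.map.{ku0, ku1} a0 a1 a2 a3) ?_ (fun c0 c1 => ?_) a3 :) <;> (rfl')
private noncomputable def _root_.Cfsg.Agent.KO48c2685.k16 : type_of% @Int.add := @(fun x0 x1 => @Int.rec.{1} @(fun x2 => ℤ) @(fun x2 => @Int.rec.{1} @(fun x3 => ℤ) @(fun x3 => @Int.ofNat (@Nat.add @x2 @x3)) @(fun x3 => @Nat.rec.{1} @(fun x4 => ℤ) (@Int.ofNat (@Nat.sub @x2 (@Nat.succ @x3))) @(fun x4 x5 => @Int.negSucc @x4) (@Nat.sub (@Nat.succ @x3) @x2)) @x1) @(fun x2 => @Int.rec.{1} @(fun x3 => ℤ) @(fun x3 => @Nat.rec.{1} @(fun x4 => ℤ) (@Int.ofNat (@Nat.sub @x3 (@Nat.succ @x2))) @(fun x4 x5 => @Int.negSucc @x4) (@Nat.sub (@Nat.succ @x2) @x3)) @(fun x3 => @Int.negSucc (@Nat.succ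 (@Nat.add @x2 @x3))) @x1) @x0)
private theorem _root_.Cfsg.Agent.KO48c2685.e16 : @Int.add = @_root_.Cfsg.Agent.KO48c2685.k16 := by delta _root_.Cfsg.Agent.KO48c2685.k16; rfl'
private noncomputable def _root_.Cfsg.Agent.KO48c2685.k17 : type_of% @Int.mul := @(fun x0 x1 => @Int.rec.{1} @(fun x2 => ℤ) @(fun x2 => @Int.rec.{1} @(fun x3 => ℤ) @(fun x3 => @Int.ofNat (@Nat.mul @x2 @x3)) @(fun x3 => @Nat.rec.{1} @(fun x4 => ℤ) (@Int.ofNat (nat_lit 0)) @(fun x4 x5 => @Int.negSucc @x4) (@Nat.mul @x2 (@Nat.succ @x3))) @x1) @(fun x2 => @Int.rec.{1} @(fun x3 => ℤ) @(fun x3 => @Nat.rec.{1} @(fun x4 => ℤ) (@Int.ofNat (nat_lit 0)) @(fun x4 x5 => @Int.negSucc @x4) (@Nat.mul (@Nat.succ @x2) @x3)) @(fun x3 => @Int.ofNat (@Nat.mul (@Nat.succ @x2) (@Nat.succ @x3))) @x1) @x0)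
private theorem _root_.Cfsg.Agent.KO48c2685.e17 : @Int.mul = @_root_.Cfsg.Agent.KO48c2685.k17 := by delta _root_.Cfsg.Agent.KO48c2685.k17; rfl'
private noncomputable def _root_.Cfsg.Agent.KO48c2685.k18 : (by first | exact type_of% @Cfsg.Agent.SB.Low.Tab.D.dt | exact Unit : Sort _) := by first | (refine @Subtype.val _ (fun g => @Cfsg.Agent.SB.Low.Tab.D.dt = @g) (@Subtype.mk _ _ (@(fun x0 x1 => @Cfsg.Agent.KO48c2685.k16 (@Cfsg.Agent.KO48c2685.k16 (@Cfsg.Agent.KO48c2685.k16 (@Cfsg.Agent.KO48c2685.k17 (@Prod.fst.{0, 0} _ _ @x0) (@Prod.fst.{0, 0} _ _ @x1)) (@Cfsg.Agent.KO48c2685.k17 (@Prod.fst.{0, 0} _ _ (@Prod.snd.{0, 0} _ _ @x0)) (@Prod.fst.{0, 0} _ _ (@Prod.snd.{0, 0} _ _ @x1)))) (@Cfsg.Agent.KO48c2685.k17 (@Prod.fst.{0, 0} _ _ (@Prod.snd.{0, 0} _ _ (@Prod.snd.{0, 0} _ _ @x0))) (@Prod.fst.{0, 0} _ _ (@Prod.snd.{0, 0} _ _ (@Prod.snd.{0, 0} _ _ @x1))))) (@Cfsg.Agent.KO48c2685.k17 (@Prod.snd.{0,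 0} _ _ (@Prod.snd.{0, 0} _ _ (@Prod.snd.{0, 0} _ _ @x0))) (@Prod.snd.{0, 0} _ _ (@Prod.snd.{0, 0} _ _ (@Prod.snd.{0, 0} _ _ @x1)))))) ?_); rewrite [← Cfsg.Agent.KO48c2685.e17, ← Cfsg.Agent.KO48c2685.e16]; rfl') | exact @Cfsg.Agent.SB.Low.Tab.D.dt | exact ()
private theorem _root_.Cfsg.Agent.KO48c2685.e18 : (by first | exact @Cfsg.Agent.SB.Low.Tab.D.dt = @_root_.Cfsg.Agent.KO48c2685.k18 | exact True : Prop) := by first | (delta _root_.Cfsg.Agent.KO48c2685.k18; exact @Subtype.property _ (fun g => @Cfsg.Agent.SB.Low.Tab.D.dt = @g) _) | rfl | trivial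
private noncomputable def _root_.Cfsg.Agent.KO48c2685.k19 : (by first | exact type_of% @Cfsg.Agent.SB.Low.Tab.D.ip | exact Unit : Sort _) := by first | (refine @Subtype.val _ (fun g => @Cfsg.Agent.SB.Low.Tab.D.ip = @g) (@Subtype.mk _ _ (@(fun x0 x1 => @Cfsg.Agent.KO48c2685.k18 @x0 ((@Cfsg.Agent.KO48c2685.k16 (@Cfsg.Agent.KO48c2685.k17 (@Int.ofNat (nat_lit 2)) (@Prod.fst.{0, 0} _ _ @x1)) (@Int.rec.{1} @(fun x2 => ℤ) @(fun x2 => @Nat.rec.{1} @(fun x3 => ℤ) (@Int.ofNat (nat_lit 0)) @(fun x3 x4 => @Int.negSucc @x3) @x2) @(fun x2 => @Int.ofNat (@Nat.succ @x2)) (@Prod.fst.{0, 0} _ _ (@Prod.snd.{0, 0} _ _ @x1))), (@Cfsg.Agent.KO48c2685.k16 (@Cfsg.Agent.KO48c2685.k16 (@Cfsg.Agent.KO48c2685.k16 (@Cfsg.Agent.KO48c2685.k17 (@Int.ofNat (nat_lit 2)) (@Prod.fst.{0, 0} _ _ (@Prod.snd.{0, 0} _ _ @x1))) (@Int.rec.{1} @(fun x2 => ℤ) @(fun x2 => @Nat.rec.{1} @(fun x3 => ℤ) (@Int.ofNat (nat_lit 0))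 @(fun x3 x4 => @Int.negSucc @x3) @x2) @(fun x2 => @Int.ofNat (@Nat.succ @x2)) (@Prod.fst.{0, 0} _ _ @x1))) (@Int.rec.{1} @(fun x2 => ℤ) @(fun x2 => @Nat.rec.{1} @(fun x3 => ℤ) (@Int.ofNat (nat_lit 0)) @(fun x3 x4 => @Int.negSucc @x3) @x2) @(fun x2 => @Int.ofNat (@Nat.succ @x2)) (@Prod.fst.{0, 0} _ _ (@Prod.snd.{0, 0} _ _ (@Prod.snd.{0, 0} _ _ @x1))))) (@Int.rec.{1} @(fun x2 => ℤ) @(fun x2 => @Nat.rec.{1} @(fun x3 => ℤ) (@Int.ofNat (nat_lit 0)) @(fun x3 x4 => @Int.negSucc @x3) @x2) @(fun x2 => @Int.ofNat (@Nat.succ @x2)) (@Prod.snd.{0, 0} _ _ (@Prod.snd.{0, 0} _ _ (@Prod.snd.{0, 0} _ _ @x1)))), (@Cfsg.Agent.KO48c2685.k16 (@Cfsg.Agent.KO48c2685.k17 (@Int.ofNat (nat_lit 2)) (@Prod.fst.{0, 0} _ _ (@Prod.snd.{0, 0} _ _ (@Prod.snd.{0, 0} _ _ @x1)))) (@Int.rec.{1} @(fun x2 => ℤ) @(fun x2 => @Nat.rec.{1} @(fun x3 => ℤ) (@Int.ofNat (nat_lit 0)) @(fun x3 x4 => @Int.negSucc @x3) @x2) @(fun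 x2 => @Int.ofNat (@Nat.succ @x2)) (@Prod.fst.{0, 0} _ _ (@Prod.snd.{0, 0} _ _ @x1))), @Cfsg.Agent.KO48c2685.k16 (@Cfsg.Agent.KO48c2685.k17 (@Int.ofNat (nat_lit 2)) (@Prod.snd.{0, 0} _ _ (@Prod.snd.{0, 0} _ _ (@Prod.snd.{0, 0} _ _ @x1)))) (@Int.rec.{1} @(fun x2 => ℤ) @(fun x2 => @Nat.rec.{1} @(fun x3 => ℤ) (@Int.ofNat (nat_lit 0)) @(fun x3 x4 => @Int.negSucc @x3) @x2) @(fun x2 => @Int.ofNat (@Nat.succ @x2)) (@Prod.fst.{0, 0} _ _ (@Prod.snd.{0, 0} _ _ @x1))))))))) ?_); rewrite [← Cfsg.Agent.KO48c2685.e17, ← Cfsg.Agent.KO48c2685.e16, ← Cfsg.Agent.KO48c2685.e18]; (try delta Cfsg.Agent.SB.Low.Tab.D.ip); (try generalize @Cfsg.Agent.SB.Low.Tab.D.dt = g0); rfl') | exact @Cfsg.Agent.SB.Low.Tab.D.ip | exact ()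
private theorem _root_.Cfsg.Agent.KO48c2685.e19 : (by first | exact @Cfsg.Agent.SB.Low.Tab.D.ip = @_root_.Cfsg.Agent.KO48c2685.k19 | exact True : Prop) := by first | (delta _root_.Cfsg.Agent.KO48c2685.k19; exact @Subtype.property _ (fun g => @Cfsg.Agent.SB.Low.Tab.D.ip = @g) _) | rfl | trivial
private noncomputable def _root_.Cfsg.Agent.KO48c2685.k20 : (by first | exact type_of% @Cfsg.Agent.SB.Low.Tab.D.rf | exact Unit : Sort _) := by first | (refine @Subtype.val _ (fun g => @Cfsg.Agent.SB.Low.Tab.D.rf = @g) (@Subtype.mk _ _ (@(fun x0 x1 => (@Cfsg.Agent.KO48c2685.k16 (@Prod.fst.{0, 0} _ _ @x1) (@Int.rec.{1} @(fun x2 => ℤ) @(fun x2 => @Nat.rec.{1} @(fun x3 => ℤ) (@Int.ofNat (nat_lit 0)) @(fun x3 x4 => @Int.negSucc @x3) @x2) @(fun x2 => @Int.ofNat (@Nat.succ @x2)) (@Cfsg.Agent.KO48c2685.k17 (@Cfsg.Agent.KO48c2685.k19 @x1 @x0) (@Prod.fst.{0, 0} _ _ @x0))), (@Cfsg.Agent.KO48c2685.k16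 (@Prod.fst.{0, 0} _ _ (@Prod.snd.{0, 0} _ _ @x1)) (@Int.rec.{1} @(fun x2 => ℤ) @(fun x2 => @Nat.rec.{1} @(fun x3 => ℤ) (@Int.ofNat (nat_lit 0)) @(fun x3 x4 => @Int.negSucc @x3) @x2) @(fun x2 => @Int.ofNat (@Nat.succ @x2)) (@Cfsg.Agent.KO48c2685.k17 (@Cfsg.Agent.KO48c2685.k19 @x1 @x0) (@Prod.fst.{0, 0} _ _ (@Prod.snd.{0, 0} _ _ @x0)))), (@Cfsg.Agent.KO48c2685.k16 (@Prod.fst.{0, 0} _ _ (@Prod.snd.{0, 0} _ _ (@Prod.snd.{0, 0} _ _ @x1))) (@Int.rec.{1} @(fun x2 => ℤ) @(fun x2 => @Nat.rec.{1} @(fun x3 => ℤ) (@Int.ofNat (nat_lit 0)) @(fun x3 x4 => @Int.negSucc @x3) @x2) @(fun x2 => @Int.ofNat (@Nat.succ @x2)) (@Cfsg.Agent.KO48c2685.k17 (@Cfsg.Agent.KO48c2685.k19 @x1 @x0) (@Prod.fst.{0, 0} _ _ (@Prod.snd.{0, 0} _ _ (@Prod.snd.{0, 0} _ _ @x0))))), @Cfsg.Agent.KO48c2685.k16 (@Prod.snd.{0, 0} _ _ (@Prod.snd.{0, 0} _ _ (@Prod.snd.{0, 0} _ _ @x1))) (@Int.rec.{1} @(fun x2 => ℤ) @(fun x2 => @Nat.rec.{1}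 @(fun x3 => ℤ) (@Int.ofNat (nat_lit 0)) @(fun x3 x4 => @Int.negSucc @x3) @x2) @(fun x2 => @Int.ofNat (@Nat.succ @x2)) (@Cfsg.Agent.KO48c2685.k17 (@Cfsg.Agent.KO48c2685.k19 @x1 @x0) (@Prod.snd.{0, 0} _ _ (@Prod.snd.{0, 0} _ _ (@Prod.snd.{0, 0} _ _ @x0)))))))))) ?_); rewrite [← Cfsg.Agent.KO48c2685.e19, ← Cfsg.Agent.KO48c2685.e17, ← Cfsg.Agent.KO48c2685.e16]; (try delta Cfsg.Agent.SB.Low.Tab.D.rf); (try generalize @Cfsg.Agent.SB.Low.Tab.D.ip = g0); rfl') | exact @Cfsg.Agent.SB.Low.Tab.D.rf | exact ()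
private theorem _root_.Cfsg.Agent.KO48c2685.e20 : (by first | exact @Cfsg.Agent.SB.Low.Tab.D.rf = @_root_.Cfsg.Agent.KO48c2685.k20 | exact True : Prop) := by first | (delta _root_.Cfsg.Agent.KO48c2685.k20; exact @Subtype.property _ (fun g => @Cfsg.Agent.SB.Low.Tab.D.rf = @g) _) | rfl | trivial
private noncomputable def _root_.Cfsg.Agent.KO48c2685.k21 : type_of% @Bool.or := @(fun x0 x1 => @Bool.rec.{1} @(fun x2 => @Bool) @x1 @Bool.true @x0)
private theorem _root_.Cfsg.Agent.KO48c2685.e21 : @Bool.or = @_root_.Cfsg.Agent.KO48c2685.k21 := by delta _root_.Cfsg.Agent.KO48c2685.k21; rfl'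
private noncomputable def _root_.Cfsg.Agent.KO48c2685.k22.{ku0} : type_of% @List.elem.{ku0} := @(fun x0 x1 x2 x3 => @List.rec.{1, ku0} @x0 @(fun x4 => @Bool) @Bool.false @(fun x4 x5 x6 => @Bool.rec.{1} @(fun x7 => @Bool) @x6 @Bool.true (@BEq.beq.{ku0} _ @x1 @x2 @x4)) @x3)
private theorem _root_.Cfsg.Agent.KO48c2685.e22.{ku0} : @List.elem.{ku0} = @_root_.Cfsg.Agent.KO48c2685.k22.{ku0} := by delta _root_.Cfsg.Agent.KO48c2685.k22; funext a0 a1 a2 a3; refine (_root_.Cfsg.Agent.KO48c2685.e0 (fun a3 => @List.elem.{ku0} a0 a1 a2 a3) ?_ (fun c0 c1 => ?_) a3 :) <;> (rfl')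
private noncomputable def _root_.Cfsg.Agent.KO48c2685.k23.{ku0} : type_of% @List.contains.{ku0} := @(fun x0 x1 x2 x3 => @Cfsg.Agent.KO48c2685.k22.{ku0} _ @x1 @x3 @x2)
private theorem _root_.Cfsg.Agent.KO48c2685.e23.{ku0} : @List.contains.{ku0} = @_root_.Cfsg.Agent.KO48c2685.k23.{ku0} := by delta _root_.Cfsg.Agent.KO48c2685.k23; rewrite [← Cfsg.Agent.KO48c2685.e22.{ku0}]; rfl'
private noncomputable def _root_.Cfsg.Agent.KO48c2685.k24 : (by first | exact type_of% @Cfsg.Agent.SB.Low.Tab.D.ky | exact Unit : Sort _) := by first | (refine @Subtype.val _ (fun g => @Cfsg.Agent.SB.Low.Tab.D.ky = @g) (@Subtype.mk _ _ (@(fun x0 => @Int.rec.{1} @(fun x1 => ℕ) @(fun x1 => @x1) @(fun x1 => @Nat.succ @x1) (@Cfsg.Agent.KO48c2685.k16 (@Cfsg.Agent.KO48c2685.k16 (@Cfsg.Agent.KO48c2685.k18 (@Prod.fst.{0, 0} _ _ @x0) ((@Int.ofNat (nat_lit 1), (@Int.ofNat (nat_lit 5), (@Int.ofNat (nat_lit 25), @Int.ofNat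 (nat_lit 125)))))) (@Cfsg.Agent.KO48c2685.k17 (@Int.ofNat (nat_lit 625)) (@Cfsg.Agent.KO48c2685.k16 (@Cfsg.Agent.KO48c2685.k18 (@Prod.fst.{0, 0} _ _ (@Prod.snd.{0, 0} _ _ @x0)) ((@Int.ofNat (nat_lit 1), (@Int.ofNat (nat_lit 5), (@Int.ofNat (nat_lit 25), @Int.ofNat (nat_lit 125)))))) (@Cfsg.Agent.KO48c2685.k17 (@Int.ofNat (nat_lit 625)) (@Cfsg.Agent.KO48c2685.k16 (@Cfsg.Agent.KO48c2685.k18 (@Prod.fst.{0, 0} _ _ (@Prod.snd.{0, 0} _ _ (@Prod.snd.{0, 0} _ _ @x0))) ((@Int.ofNat (nat_lit 1), (@Int.ofNat (nat_lit 5), (@Int.ofNat (nat_lit 25), @Int.ofNat (nat_lit 125)))))) (@Cfsg.Agent.KO48c2685.k17 (@Int.ofNat (nat_lit 625)) (@Cfsg.Agent.KO48c2685.k18 (@Prod.snd.{0, 0} _ _ (@Prod.snd.{0, 0} _ _ (@Prod.snd.{0, 0} _ _ @x0))) ((@Int.ofNat (nat_lit 1), (@Int.ofNat (nat_lit 5), (@Int.ofNat (nat_lit 25), @Int.ofNat (nat_lit 125)))))))))))) (@Int.ofNat (nat_lit 1000000000001))))) ?_); rewrite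 [← Cfsg.Agent.KO48c2685.e17, ← Cfsg.Agent.KO48c2685.e18, ← Cfsg.Agent.KO48c2685.e16]; (try delta Cfsg.Agent.SB.Low.Tab.D.ky); (try generalize @Cfsg.Agent.SB.Low.Tab.D.dt = g0); rfl') | exact @Cfsg.Agent.SB.Low.Tab.D.ky | exact ()
private theorem _root_.Cfsg.Agent.KO48c2685.e24 : (by first | exact @Cfsg.Agent.SB.Low.Tab.D.ky = @_root_.Cfsg.Agent.KO48c2685.k24 | exact True : Prop) := by first | (delta _root_.Cfsg.Agent.KO48c2685.k24; exact @Subtype.property _ (fun g => @Cfsg.Agent.SB.Low.Tab.D.ky = @g) _) | rfl | trivial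
private noncomputable def _root_.Cfsg.Agent.KO48c2685.k25 : (by first | exact type_of% @Cfsg.Agent.SB.Low.Tab.D.rm | exact Unit : Sort _) := by first | (refine @Subtype.val _ (fun g => @Cfsg.Agent.SB.Low.Tab.D.rm = @g) (@Subtype.mk _ _ (@(fun x0 x1 => (@Cfsg.Agent.KO48c2685.k20 @x0 (@Prod.fst.{0, 0} _ _ @x1), (@Cfsg.Agent.KO48c2685.k20 @x0 (@Prod.fst.{0, 0} _ _ (@Prod.snd.{0, 0} _ _ @x1)), (@Cfsg.Agent.KO48c2685.k20 @x0 (@Prod.fst.{0, 0} _ _ (@Prod.snd.{0, 0} _ _ (@Prod.snd.{0, 0} _ _ @x1))), @Cfsg.Agent.KO48c2685.k20 @x0 (@Prod.snd.{0, 0} _ _ (@Prod.snd.{0, 0} _ _ (@Prod.snd.{0, 0} _ _ @x1)))))))) ?_); rewrite [← Cfsg.Agent.KO48c2685.e20]; (try delta Cfsg.Agent.SB.Low.Tab.D.rm); (try generalize @Cfsg.Agent.SB.Low.Tab.D.rf = g0); rfl') | exact @Cfsg.Agent.SB.Low.Tab.D.rm | exact ()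
private theorem _root_.Cfsg.Agent.KO48c2685.e25 : (by first | exact @Cfsg.Agent.SB.Low.Tab.D.rm = @_root_.Cfsg.Agent.KO48c2685.k25 | exact True : Prop) := by first | (delta _root_.Cfsg.Agent.KO48c2685.k25; exact @Subtype.property _ (fun g => @Cfsg.Agent.SB.Low.Tab.D.rm = @g) _) | rfl | trivial
private noncomputable def _root_.Cfsg.Agent.KO48c2685.k26 : (by first | exact type_of% @Cfsg.Agent.SB.Low.Tab.D.sc | exact Unit : Sort _) := by first | (refine @Subtype.val _ (fun g => @Cfsg.Agent.SB.Low.Tab.D.sc = @g) (@Subtype.mk _ _ (@(fun x0 x1 x2 x3 => @List.rec.{1, 0} @Cfsg.Agent.SB.Low.Tab.D.M4 @(fun x4 => @Bool) @Bool.false @(fun x4 x5 x6 => @Bool.rec.{1} @(fun x7 => @Bool) (@Bool.rec.{1} @(fun x7 => @Bool) @x6 (@Prod.rec.{1, 0, 0} @Cfsg.Agent.SB.Low.Tab.D.T4 (@Cfsg.Agent.SB.Low.Tab.D.T4 × (@Cfsg.Agent.SB.Low.Tab.D.T4 × @Cfsg.Agent.SB.Low.Tab.D.T4)) @(fun x7 => @Bool) @(fun x7 x8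 => @Prod.rec.{1, 0, 0} @Cfsg.Agent.SB.Low.Tab.D.T4 (@Cfsg.Agent.SB.Low.Tab.D.T4 × (@Cfsg.Agent.SB.Low.Tab.D.T4 × @Cfsg.Agent.SB.Low.Tab.D.T4)) @(fun x9 => @Bool) @(fun x9 x10 => @Bool.rec.{1} @(fun x11 => @Bool) @Bool.false (@Prod.rec.{1, 0, 0} @Cfsg.Agent.SB.Low.Tab.D.T4 (@Cfsg.Agent.SB.Low.Tab.D.T4 × @Cfsg.Agent.SB.Low.Tab.D.T4) @(fun x11 => @Bool) @(fun x11 x12 => @Prod.rec.{1, 0, 0} @Cfsg.Agent.SB.Low.Tab.D.T4 (@Cfsg.Agent.SB.Low.Tab.D.T4 × @Cfsg.Agent.SB.Low.Tab.D.T4) @(fun x13 => @Bool) @(fun x13 x14 => @Bool.rec.{1} @(fun x15 => @Bool) @Bool.false (@Prod.rec.{1, 0, 0} @Cfsg.Agent.SB.Low.Tab.D.T4 @Cfsg.Agent.SB.Low.Tab.D.T4 @(fun x15 => @Bool) @(fun x15 x16 => @Prod.rec.{1, 0, 0} @Cfsg.Agent.SB.Low.Tab.D.T4 @Cfsg.Agent.SB.Low.Tab.D.T4 @(fun x17 => @Bool) @(fun x17 x18 => @Bool.rec.{1} @(fun x19 => @Bool) @Bool.false (@Prod.rec.{1, 0, 0} ℤ (ℤ × (ℤ × ℤ)) @(fun x19 => @Bool)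 @(fun x19 x20 => @Prod.rec.{1, 0, 0} ℤ (ℤ × (ℤ × ℤ)) @(fun x21 => @Bool) @(fun x21 x22 => @Bool.rec.{1} @(fun x23 => @Bool) @Bool.false (@Prod.rec.{1, 0, 0} ℤ (ℤ × ℤ) @(fun x23 => @Bool) @(fun x23 x24 => @Prod.rec.{1, 0, 0} ℤ (ℤ × ℤ) @(fun x25 => @Bool) @(fun x25 x26 => @Bool.rec.{1} @(fun x27 => @Bool) @Bool.false (@Prod.rec.{1, 0, 0} ℤ ℤ @(fun x27 => @Bool) @(fun x27 x28 => @Prod.rec.{1, 0, 0} ℤ ℤ @(fun x29 => @Bool) @(fun x29 x30 => @Bool.rec.{1} @(fun x31 => @Bool) @Bool.false (@Decidable.rec.{1} _ @(fun x31 => @Bool) @(fun x31 => @Bool.false) @(fun x31 => @Bool.true) (@Cfsg.Agent.KO48c2685.k3 @x28 @x30)) (@Decidable.rec.{1} _ @(fun x31 => @Bool) @(fun x31 => @Bool.false) @(fun x31 => @Bool.true) (@Cfsg.Agent.KO48c2685.k3 @x27 @x29))) @x26) @x24) (@Decidable.rec.{1} _ @(fun x27 => @Bool) @(fun x27 => @Bool.false) @(fun x27 => @Bool.true) (@Cfsg.Agent.KO48c2685.k3 @x23 @x25)))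 @x22) @x20) (@Decidable.rec.{1} _ @(fun x23 => @Bool) @(fun x23 => @Bool.false) @(fun x23 => @Bool.true) (@Cfsg.Agent.KO48c2685.k3 @x19 @x21))) @x18) @x16) (@Prod.rec.{1, 0, 0} ℤ (ℤ × (ℤ × ℤ)) @(fun x19 => @Bool) @(fun x19 x20 => @Prod.rec.{1, 0, 0} ℤ (ℤ × (ℤ × ℤ)) @(fun x21 => @Bool) @(fun x21 x22 => @Bool.rec.{1} @(fun x23 => @Bool) @Bool.false (@Prod.rec.{1, 0, 0} ℤ (ℤ × ℤ) @(fun x23 => @Bool) @(fun x23 x24 => @Prod.rec.{1, 0, 0} ℤ (ℤ × ℤ) @(fun x25 => @Bool) @(fun x25 x26 => @Bool.rec.{1} @(fun x27 => @Bool) @Bool.false (@Prod.rec.{1, 0, 0} ℤ ℤ @(fun x27 => @Bool) @(fun x27 x28 => @Prod.rec.{1, 0, 0} ℤ ℤ @(fun x29 => @Bool) @(fun x29 x30 => @Bool.rec.{1} @(fun x31 => @Bool) @Bool.false (@Decidable.rec.{1} _ @(fun x31 => @Bool) @(fun x31 => @Bool.false) @(fun x31 => @Bool.true) (@Cfsg.Agent.KO48c2685.k3 @x28 @x30)) (@Decidable.rec.{1} _ @(fun x31 => @Bool) @(fun x31 => @Bool.false)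 @(fun x31 => @Bool.true) (@Cfsg.Agent.KO48c2685.k3 @x27 @x29))) @x26) @x24) (@Decidable.rec.{1} _ @(fun x27 => @Bool) @(fun x27 => @Bool.false) @(fun x27 => @Bool.true) (@Cfsg.Agent.KO48c2685.k3 @x23 @x25))) @x22) @x20) (@Decidable.rec.{1} _ @(fun x23 => @Bool) @(fun x23 => @Bool.false) @(fun x23 => @Bool.true) (@Cfsg.Agent.KO48c2685.k3 @x19 @x21))) @x17) @x15)) @x14) @x12) (@Prod.rec.{1, 0, 0} ℤ (ℤ × (ℤ × ℤ)) @(fun x15 => @Bool) @(fun x15 x16 => @Prod.rec.{1, 0, 0} ℤ (ℤ × (ℤ × ℤ)) @(fun x17 => @Bool) @(fun x17 x18 => @Bool.rec.{1} @(fun x19 => @Bool) @Bool.false (@Prod.rec.{1, 0, 0} ℤ (ℤ × ℤ) @(fun x19 => @Bool) @(fun x19 x20 => @Prod.rec.{1, 0, 0} ℤ (ℤ × ℤ) @(fun x21 => @Bool) @(fun x21 x22 => @Bool.rec.{1} @(fun x23 => @Bool) @Bool.false (@Prod.rec.{1, 0, 0} ℤ ℤ @(fun x23 => @Bool) @(fun x23 x24 => @Prod.rec.{1, 0, 0} ℤ ℤ @(fun x25 => @Bool) @(fun x25 x26 => @Bool.rec.{1} @(fun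 x27 => @Bool) @Bool.false (@Decidable.rec.{1} _ @(fun x27 => @Bool) @(fun x27 => @Bool.false) @(fun x27 => @Bool.true) (@Cfsg.Agent.KO48c2685.k3 @x24 @x26)) (@Decidable.rec.{1} _ @(fun x27 => @Bool) @(fun x27 => @Bool.false) @(fun x27 => @Bool.true) (@Cfsg.Agent.KO48c2685.k3 @x23 @x25))) @x22) @x20) (@Decidable.rec.{1} _ @(fun x23 => @Bool) @(fun x23 => @Bool.false) @(fun x23 => @Bool.true) (@Cfsg.Agent.KO48c2685.k3 @x19 @x21))) @x18) @x16) (@Decidable.rec.{1} _ @(fun x19 => @Bool) @(fun x19 => @Bool.false) @(fun x19 => @Bool.true) (@Cfsg.Agent.KO48c2685.k3 @x15 @x17))) @x13) @x11)) @x10) @x8) (@Prod.rec.{1, 0, 0} ℤ (ℤ × (ℤ × ℤ)) @(fun x11 => @Bool) @(fun x11 x12 => @Prod.rec.{1, 0, 0} ℤ (ℤ × (ℤ × ℤ)) @(fun x13 => @Bool) @(fun x13 x14 => @Bool.rec.{1} @(fun x15 => @Bool) @Bool.false (@Prod.rec.{1, 0, 0} ℤ (ℤ × ℤ) @(fun x15 => @Bool) @(fun x15 x16 => @Prod.rec.{1, 0, 0} ℤ (ℤ × ℤ)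 @(fun x17 => @Bool) @(fun x17 x18 => @Bool.rec.{1} @(fun x19 => @Bool) @Bool.false (@Prod.rec.{1, 0, 0} ℤ ℤ @(fun x19 => @Bool) @(fun x19 x20 => @Prod.rec.{1, 0, 0} ℤ ℤ @(fun x21 => @Bool) @(fun x21 x22 => @Bool.rec.{1} @(fun x23 => @Bool) @Bool.false (@Decidable.rec.{1} _ @(fun x23 => @Bool) @(fun x23 => @Bool.false) @(fun x23 => @Bool.true) (@Cfsg.Agent.KO48c2685.k3 @x20 @x22)) (@Decidable.rec.{1} _ @(fun x23 => @Bool) @(fun x23 => @Bool.false) @(fun x23 => @Bool.true) (@Cfsg.Agent.KO48c2685.k3 @x19 @x21))) @x18) @x16) (@Decidable.rec.{1} _ @(fun x19 => @Bool) @(fun x19 => @Bool.false) @(fun x19 => @Bool.true) (@Cfsg.Agent.KO48c2685.k3 @x15 @x17))) @x14) @x12) (@Decidable.rec.{1} _ @(fun x15 => @Bool) @(fun x15 => @Bool.false) @(fun x15 => @Bool.true) (@Cfsg.Agent.KO48c2685.k3 @x11 @x13))) @x9) @x7)) @x0) @x4) (@Nat.beq (@Cfsg.Agent.KO48c2685.k24 @x4) @x1)) @Bool.false (@Nat.beq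 (@Cfsg.Agent.KO48c2685.k24 @x4) @x2)) @x3)) ?_); rewrite [← Cfsg.Agent.KO48c2685.e24, ← Cfsg.Agent.KO48c2685.e3]; (try delta Cfsg.Agent.SB.Low.Tab.D.sc); (try generalize @Cfsg.Agent.SB.Low.Tab.D.ky = g0); rfl') | exact @Cfsg.Agent.SB.Low.Tab.D.sc | exact ()
private theorem _root_.Cfsg.Agent.KO48c2685.e26 : (by first | exact @Cfsg.Agent.SB.Low.Tab.D.sc = @_root_.Cfsg.Agent.KO48c2685.k26 | exact True : Prop) := by first | (delta _root_.Cfsg.Agent.KO48c2685.k26; exact @Subtype.property _ (fun g => @Cfsg.Agent.SB.Low.Tab.D.sc = @g) _) | rfl | trivial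

theorem chk_pp : (PL.all fun p => p.1 == id4 || (RL.contains p.2.1 && ap p.1 p.2.2 - p.2.2 == (4 : ℤ) • p.2.1 &&
    decide (WL.idxOf (rm p.2.1 p.1) < WL.idxOf p.1))) = true := by
  have h : (PL.all fun p => p.1 == id4 || (RL.contains p.2.1 && ap p.1 p.2.2 - p.2.2 == (4 : ℤ) • p.2.1 &&
      fN (ky (rm p.2.1 p.1)) fun u => fN (ky p.1) fun v => sc (rm p.2.1 p.1) u v WL)) = true := by (first | (delta Cfsg.Agent.SB.Low.Tab.D.WL; rewrite [Cfsg.Agent.KO48c2685.e9.{0}, Cfsg.Agent.KO48c2685.e21, Cfsg.Agent.KO48c2685.e4, Cfsg.Agent.KO48c2685.e10, Cfsg.Agent.KO48c2685.e23.{0}, Cfsg.Agent.KO48c2685.e14, Cfsg.Agent.KO48c2685.e24, Cfsg.Agent.KO48c2685.e25, Cfsg.Agent.KO48c2685.e26, Cfsg.Agent.KO48c2685.e1.{0, 0}]; decide +kernel) | decide +kernel)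
  refine List.all_eq_true.2 fun p hp => ?_
  have h1 := List.all_eq_true.1 h p hp
  simp only [fN_eq, Bool.or_eq_true, Bool.and_eq_true, decide_eq_true_eq] at h1 ⊢
  exact h1.imp_right fun h2 => ⟨h2.1, sc_lt h2.2⟩

theorem chk_perp : (RL.all fun a => RL.any fun c => ip c a == 0) = true := by decide +kernel

theorem chk_g : (RL.all fun a => RL.contains (ap (tm id4) a)) = true := by decide +kernel

private noncomputable def _root_.Cfsg.Agent.KO48c2685.k27 : (by first | exact type_of% @Cfsg.Agent.SB.Low.Tab.D.pp | exact Unit : Sort _) := by first | (refine @Subtype.val _ (fun g => @Cfsg.Agent.SB.Low.Tab.D.pp = @g) (@Subtype.mk _ _ (@(fun x0 x1 => @Cfsg.Agent.KO48c2685.k7 @x0 (@Cfsg.Agent.KO48c2685.k7 (nat_lit 3397614474310148848187152932456900) @x1))) ?_); rewrite [← Cfsg.Agent.KO48c2685.e7]; (try delta Cfsg.Agent.SB.Low.Tab.D.pp); (try generalize @Cfsg.Agent.SB.Low.Tab.D.pm = g0);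 rfl') | exact @Cfsg.Agent.SB.Low.Tab.D.pp | exact ()
private theorem _root_.Cfsg.Agent.KO48c2685.e27 : (by first | exact @Cfsg.Agent.SB.Low.Tab.D.pp = @_root_.Cfsg.Agent.KO48c2685.k27 | exact True : Prop) := by first | (delta _root_.Cfsg.Agent.KO48c2685.k27; exact @Subtype.property _ (fun g => @Cfsg.Agent.SB.Low.Tab.D.pp = @g) _) | rfl | trivial
private noncomputable def _root_.Cfsg.Agent.KO48c2685.k28.{ku0} : type_of% @bne.{ku0} := @(fun x0 x1 x2 x3 => @Bool.rec.{1} @(fun x4 => @Bool) @Bool.true @Bool.false (@BEq.beq.{ku0} _ @x1 @x2 @x3))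
private theorem _root_.Cfsg.Agent.KO48c2685.e28.{ku0} : @bne.{ku0} = @_root_.Cfsg.Agent.KO48c2685.k28.{ku0} := by delta _root_.Cfsg.Agent.KO48c2685.k28; rfl'

theorem chk_t1 : (WL.all fun m => RL.all fun a => ip (ap (tm m) a) a != 0 ||
    (ip (ap (tm m) (ap (tm m) a)) a == 0 && ip (ap (tm m) (ap (tm m) a)) (ap (tm m) a) == 0 &&
      (ap (tm m) (ap (tm m) (ap (tm m) a)) == a || ap (tm m) (ap (tm m) (ap (tm m) a)) == -a))) = true := 
  allW (g := fun n => (List.range 24).all fun i => fN (pp n i) fun j => ip (R j) (R i) != 0 || fN (pp n j) fun k =>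
    ip (R k) (R i) == 0 && ip (R k) (R j) == 0 && fN (pp n k) fun l => R l == R i || R l == -R i) (by (first | (rewrite [Cfsg.Agent.KO48c2685.e9.{0}, Cfsg.Agent.KO48c2685.e13, Cfsg.Agent.KO48c2685.e14, Cfsg.Agent.KO48c2685.e27, Cfsg.Agent.KO48c2685.e21, Cfsg.Agent.KO48c2685.e28.{0}, Cfsg.Agent.KO48c2685.e4, Cfsg.Agent.KO48c2685.e19, Cfsg.Agent.KO48c2685.e15, Cfsg.Agent.KO48c2685.e10]; decide +kernel) | decide +kernel))
    fun n hn => allR fun i hi => by simp only [fN_eq, hp hn hi, hp hn (lp hn hi), hp hn (lp hn (lp hn hi))]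

theorem chk_t2 : (WL.all fun m => RL.all fun a => ap (tm m) a != a || RL.all fun c => ip c a != 0 ||
    (ip (ap (tm m) c) c == 0 && ip (ap (tm m) c) a == 0 && ip (ap (tm m) (ap (tm m) c)) a == 0)) = true := 
  allW (g := fun n => (List.range 24).all fun i => fN (pp n i) fun j => R j != R i || (List.range 24).all fun c =>
    ip (R c) (R i) != 0 || fN (pp n c) fun d => ip (R d) (R c) == 0 && ip (R d) (R i) == 0 && fN (pp n d) fun e =>
      ip (R e) (R i) == 0) (by (first | (rewrite [Cfsg.Agent.KO48c2685.e9.{0}, Cfsg.Agent.KO48c2685.e13, Cfsg.Agent.KO48c2685.e14, Cfsg.Agent.KO48c2685.e27, Cfsg.Agent.KO48c2685.e21, Cfsg.Agent.KO48c2685.e28.{0}, Cfsg.Agent.KO48c2685.e4, Cfsg.Agent.KO48c2685.e15, Cfsg.Agent.KO48c2685.e19, Cfsg.Agent.KO48c2685.e10]; decide +kernel) | decide +kernel))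
    fun n hn => allR fun i hi => by
      rw [fN_eq, hp hn hi]
      exact congrArg _ (allR fun c hc => by simp only [fN_eq, hp hn hc, hp hn (lp hn hc)])

/-- commuting matrices -/
def cm (t m : M4) : Bool := ap t m.1 == ap m t.1 && ap t m.2.1 == ap m t.2.1 && ap t m.2.2.1 == ap m t.2.2.1 &&
  ap t m.2.2.2 == ap m t.2.2.2

theorem chk_cw : (WL.all fun m => decide ((WL.filter (cm (tm m))).length ≤ 24)) = true := 
  allW (g := fun n => decide (cN QL (fun v => an (Nat.beq (pp n (pm v 18)) (pm v (pm n 13)))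
    (an (Nat.beq (pp n (pm v 14)) (pm v (pm n 14))) (an (Nat.beq (pp n (pm v 13)) (pm v (pm n 12)))
    (Nat.beq (pp n (pm v 12)) (pm v (pm n 18)))))) ≤ 24)) (by decide +kernel)
    fun n hn => by
      have h : ∀ v ∈ QL, ∀ i < 24, ∀ j < 24, (ap (tm (toM n)) (R (pm v i)) == ap (toM v) (R (pm n j))) =
          Nat.beq (pp n (pm v i)) (pm v (pm n j)) := fun v hv i hi j hj => by
        rw [hp hn (lq hv hi), hq hv (lq hn hj), R_beq _ (lp hn (lq hv hi)) _ (lq hv (lq hn hj))]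
      rw [WL_eq, List.filter_map, List.length_map, cN_eq, List.filter_congr fun v hv => ?_]
      rw [an_eq, an_eq, an_eq, ← Bool.and_assoc, ← Bool.and_assoc, ← h v hv 18 (by decide) 13 (by decide), ← h v hv 14 (by decide) 14 (by decide),
        ← h v hv 13 (by decide) 12 (by decide), ← h v hv 12 (by decide) 18 (by decide)]
      rfl

theorem chk_tor : (WL.all fun m => decide ((e1 (tm m)).natAbs ≤ 2) && decide ((e2 (tm m)).natAbs ≤ 3) &&
    decide ((e3 (tm m)).natAbs ≤ 2) && (e4 (tm m)).natAbs == 1) = true := by decide +kernel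

private def sxG (x : T4) : Bool :=
  x == 0 || NL.contains x || decide ((RL.filter fun d => !un (dt x d)).length ≤ 6)

private def sxS (f : T4 → T4) : Bool := decide ((RL.filter fun c => f c == 0).length ≤ 6) && RL.all fun c => sxG (f c)

private theorem sxS_neg {f g : T4 → T4} (h : ∀ c, g c = -f c) : sxS g = sxS f := by
  have h0 : ∀ x : T4, (-x == 0) = (x == 0) := fun x => by rw [Bool.eq_iff_iff, beq_iff_eq, beq_iff_eq, neg_eq_zero]
  have h1 : (NL.all fun x => NL.contains (-x)) = true := by decide +kernel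
  have h2 : ∀ x : T4, NL.contains (-x) = NL.contains x := fun x => Bool.eq_iff_iff.2
    ⟨fun e => neg_neg x ▸ List.all_eq_true.1 h1 _ (List.contains_iff_mem.1 e),
      fun e => List.all_eq_true.1 h1 _ (List.contains_iff_mem.1 e)⟩
  have h3 : ∀ x d : T4, un (dt (-x) d) = un (dt x d) := fun x d => by
    rw [show dt (-x) d = -dt x d by simp only [dt, Prod.fst_neg, Prod.snd_neg]; ring]
    generalize dt x d = z
    show (-z == 1 || -z == -1 || -z == 2 || -z == -2) = (z == 1 || z == -1 || z == 2 || z == -2)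
    rw [Bool.eq_iff_iff]
    simp only [Bool.or_eq_true, beq_iff_eq]
    omega
  simp only [sxS, sxG, h, h0, h2, h3]

private theorem sx_chk : ((List.range 12).all fun i => (List.range i).all fun j =>
    decide ((RL.filter fun c => fT (cr (R i) (R j) c) fun x => x == 0).length ≤ 6) &&
      RL.all fun c => fT (cr (R i) (R j) c) sxG) = true := by decide +kernel

theorem chk_six : (RL.all fun a => RL.all fun b => [a, -a].contains b ||
    (decide ((RL.filter fun c => cr a b c == 0).length ≤ 6) && RL.all fun c => cr a b c == 0 || NL.contains (cr a b c) ||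
      decide ((RL.filter fun d => !un (dt (cr a b c) d)).length ≤ 6))) = true := by
  have n1 : ∀ a b, sxS (cr (-a) b) = sxS (cr a b) := fun a b => sxS_neg fun c => by
    refine Prod.ext ?_ (Prod.ext ?_ (Prod.ext ?_ ?_)) <;> simp only [cr, Prod.fst_neg, Prod.snd_neg] <;> ring
  have n2 : ∀ a b, sxS (cr b a) = sxS (cr a b) := fun a b => sxS_neg fun c => by
    refine Prod.ext ?_ (Prod.ext ?_ (Prod.ext ?_ ?_)) <;> simp only [cr, Prod.fst_neg, Prod.snd_neg] <;> ring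
  have h1 : ∀ i < 12, ∀ j < i, sxS (cr (R i) (R j)) = true := fun i hi j hj => by
    simpa only [fT_eq, sxS] using List.all_eq_true.1 (List.all_eq_true.1 sx_chk i (List.mem_range.2 hi)) j (List.mem_range.2 hj)
  have h2 : ∀ a ∈ RL, ∃ i < 12, a = R i ∨ a = -R i := fun a ha => by
    obtain ⟨i, hi, rfl⟩ := List.mem_map.1 (RL_eq ▸ ha)
    rw [List.mem_range] at hi
    by_cases h : i < 12
    · exact ⟨i, h, .inl rfl⟩
    · exact ⟨23 - i, by omega, .inr (by rw [R_neg i hi, neg_neg])⟩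
  refine List.all_eq_true.2 fun a ha => List.all_eq_true.2 fun b hb => ?_
  obtain ⟨i, hi, ei⟩ := h2 a ha
  obtain ⟨j, hj, ej⟩ := h2 b hb
  show ([a, -a].contains b || sxS (cr a b)) = true
  rw [Bool.or_eq_true, List.contains_iff_mem]
  by_cases e : i = j
  · subst e
    rcases ei with rfl | rfl <;> rcases ej with rfl | rfl <;> simp only [neg_neg, List.mem_cons, true_or, or_true]
  · have h3 : sxS (cr (R i) (R j)) = true := (Nat.lt_or_gt_of_ne e).elim (fun h => n2 _ _ ▸ h1 j hj i h) (h1 i hi j)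
    have h4 : sxS (cr a (R j)) = true := by rcases ei with rfl | rfl; exacts [h3, (n1 _ _).trans h3]
    rcases ej with rfl | rfl
    exacts [.inr h4, .inr ((n2 _ _).trans ((n1 _ _).trans ((n2 _ _).trans h4)))]

private noncomputable def _root_.Cfsg.Agent.KO48c2685.k44.{ku0} : type_of% @List.any.{ku0} := @(fun x0 x1 x2 => @List.rec.{(ku0+1), ku0} @x0 @(fun x3 => (@x0 → @Bool) → @Bool) @(fun x3 => @Bool.false) @(fun x3 x4 x5 x6 => @Bool.rec.{1} @(fun x7 => @Bool) (@x5 @x6) @Bool.true (@x6 @x3)) @x1 @x2)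
private theorem _root_.Cfsg.Agent.KO48c2685.e44.{ku0} : @List.any.{ku0} = @_root_.Cfsg.Agent.KO48c2685.k44.{ku0} := by delta _root_.Cfsg.Agent.KO48c2685.k44; funext a0 a1 a2; refine (congrFun (_root_.Cfsg.Agent.KO48c2685.e0 (fun a1 a2 => @List.any.{ku0} a0 a1 a2) ?_ (fun c0 c1 => ?_) a1) a2 :) <;> (rfl')

theorem chk_nl : (WL.all fun m => NL.all fun n => RL.any fun r => dt n r == 0 &&
    dt n (ap (tm m) r) * dt n (ap (tm m) r) == 1) = true := 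
  allW (g := fun n => NL.all fun x => (List.range 24).any fun i => dt x (R i) == 0 && fN (pp n i) fun j =>
    dt x (R j) * dt x (R j) == 1) (by (first | (rewrite [Cfsg.Agent.KO48c2685.e9.{0}, Cfsg.Agent.KO48c2685.e44.{0}, Cfsg.Agent.KO48c2685.e13, Cfsg.Agent.KO48c2685.e10, Cfsg.Agent.KO48c2685.e4, Cfsg.Agent.KO48c2685.e18, Cfsg.Agent.KO48c2685.e15, Cfsg.Agent.KO48c2685.e14, Cfsg.Agent.KO48c2685.e27]; decide +kernel) | decide +kernel))
    fun n hn => congrArg _ (funext fun x => anyR fun i hi => by rw [fN_eq, hp hn hi])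

theorem chk_tw : (WL.all fun m => RL.all fun a => ip (ap (tm m) a) a != -1 || ap (tm m) (ap (tm m) a) != a ||
    RL.any fun x => dt (cr a (ap (tm m) a) x) (ap (tm m) x) * dt (cr a (ap (tm m) a) x) (ap (tm m) x) == 1 &&
      [(-1 : ℤ), 0, 1].any fun i => [(-1 : ℤ), 0, 1].any fun j =>
        ap (tm m) (ap (tm m) x) - ap (tm m) x + x == i • a + j • ap (tm m) a) = true := 
  allW (g := fun n => (List.range 24).all fun i => fN (pp n i) fun j => ip (R j) (R i) != -1 || fN (pp n j) fun k =>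
    R k != R i || (List.range 24).any fun x => fN (pp n x) fun y =>
      dt (cr (R i) (R j) (R x)) (R y) * dt (cr (R i) (R j) (R x)) (R y) == 1 && fN (pp n y) fun z =>
        [(-1 : ℤ), 0, 1].any fun a => [(-1 : ℤ), 0, 1].any fun b => R z - R y + R x == a • R i + b • R j) (by (first | (rewrite [Cfsg.Agent.KO48c2685.e9.{0}, Cfsg.Agent.KO48c2685.e13, Cfsg.Agent.KO48c2685.e14, Cfsg.Agent.KO48c2685.e27, Cfsg.Agent.KO48c2685.e21, Cfsg.Agent.KO48c2685.e28.{0}, Cfsg.Agent.KO48c2685.e4, Cfsg.Agent.KO48c2685.e19, Cfsg.Agent.KO48c2685.e15, Cfsg.Agent.KO48c2685.e44.{0}, Cfsg.Agent.KO48c2685.e10, Cfsg.Agent.KO48c2685.e18]; decide +kernel) | decide +kernel))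
    fun n hn => allR fun i hi => by
      rw [fN_eq, fN_eq, hp hn hi, hp hn (lp hn hi), Bool.or_assoc]
      exact congrArg _ (congrArg _ (anyR fun c hc => by simp only [fN_eq, hp hn hc, hp hn (lp hn hc)]))

/-- the roots which are not orthogonal to their image and keep their sign -/
def good (t : M4) (a : T4) : Bool :=
  ip (ap t a) a != 0 && (!pos a || pos (ap t a)) && (!pos (-a) || pos (-ap t a))

/-- one pruning step -/
def pr (t : M4) (G : List T4) : List T4 :=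
  G.filter fun a => G.contains (ap t a) && (!RL.contains (a - ap t a) || G.contains (a - ap t a))

/-- the final check -/
def fin (t : M4) (G : List T4) : Bool := G.all fun a => G.all fun b => ip a b != 0 ||
  (RL.contains (b - ap t a) && !G.contains (b - ap t a)) || (RL.contains (b + ap t a) && !G.contains (b + ap t a))

private noncomputable def prI (n : ℕ) (G : List ℕ) : List ℕ := G.filter fun i => fN (pp n i) fun j =>
  mN j G && fN (RL.idxOf (R i - R j)) fun k => !Nat.blt k 24 || mN k G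

private noncomputable def finI (n : ℕ) (G : List ℕ) : Bool := G.all fun i => fN (pp n i) fun j => G.all fun b =>
  ip (R i) (R b) != 0 || (fN (RL.idxOf (R b - R j)) fun k => Nat.blt k 24 && !mN k G) ||
    fN (RL.idxOf (R b + R j)) fun k => Nat.blt k 24 && !mN k G

private theorem idx_R : ∀ i < 24, RL.idxOf (R i) = i := by decide +kernel

private theorem ct_RL (x : T4) : RL.contains x = Nat.blt (RL.idxOf x) 24 := by
  rw [Bool.eq_iff_iff, List.contains_iff_mem, Nat.blt_eq]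
  exact List.idxOf_lt_length_iff.symm

private theorem ct_G {G : List ℕ} (hG : ∀ i ∈ G, i < 24) (x : T4) : (G.map R).contains x = mN (RL.idxOf x) G := by
  rw [Bool.eq_iff_iff, List.contains_iff_mem, mN_iff, List.mem_map]
  refine ⟨fun ⟨i, hi, e⟩ => by rwa [← e, idx_R i (hG i hi)], fun h => ⟨_, h, ?_⟩⟩
  have h1 : RL.idxOf x < RL.length := hG _ h
  exact (List.getD_eq_getElem _ _ h1).trans (List.getElem_idxOf h1)

private noncomputable def _root_.Cfsg.Agent.KO48c2685.k38.{ku0} : type_of% @List.filter.{ku0} := @(fun x0 x1 x2 => @List.rec.{(ku0+1), ku0} @x0 @(fun x3 => @List.{ku0} @x0) [] @(fun x3 x4 x5 => @Bool.rec.{(ku0+1)} @(fun x6 => @List.{ku0} @x0) @x5 (@x3 :: @x5) (@x1 @x3)) @x2)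
private theorem _root_.Cfsg.Agent.KO48c2685.e38.{ku0} : @List.filter.{ku0} = @_root_.Cfsg.Agent.KO48c2685.k38.{ku0} := by delta _root_.Cfsg.Agent.KO48c2685.k38; funext a0 a1 a2; refine (_root_.Cfsg.Agent.KO48c2685.e0 (fun a2 => @List.filter.{ku0} a0 a1 a2) ?_ (fun c0 c1 => ?_) a2 :) <;> (rfl')
private noncomputable def _root_.Cfsg.Agent.KO48c2685.k45 : type_of% @Bool.not := @(fun x0 => @Bool.rec.{1} @(fun x1 => @Bool) @Bool.true @Bool.false @x0)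
private theorem _root_.Cfsg.Agent.KO48c2685.e45 : @Bool.not = @_root_.Cfsg.Agent.KO48c2685.k45 := by delta _root_.Cfsg.Agent.KO48c2685.k45; rfl'
private noncomputable def _root_.Cfsg.Agent.KO48c2685.k46 : (by first | exact type_of% @Cfsg.Agent.SB.Low.Tab.D.pos | exact Unit : Sort _) := by first | (refine @Subtype.val _ (fun g => @Cfsg.Agent.SB.Low.Tab.D.pos = @g) (@Subtype.mk _ _ (@(fun x0 => @Bool.rec.{1} @(fun x1 => @Bool) @Bool.false (@Decidable.rec.{1} _ @(fun x1 => @Bool) @(fun x1 => @Bool.false) @(fun x1 => @Bool.true) (@Int.rec.{1} @(fun x1 => @Decidable (@Int.NonNeg @x1)) @(fun x1 => @Decidable.isTrue _ (@Int.NonNeg.mk @x1)) @(fun x1 => @Decidable.isFalse _ (@Int.decNonneg._proof_1 @x1)) (@Int.add (@Prod.snd.{0, 0} _ _ (@Prod.snd.{0, 0} _ _ (@Prod.snd.{0, 0} _ _ @x0))) (@Int.ofNat (nat_lit 0))))) (@Bool.rec.{1} @(fun x1 => @Bool) @Bool.false (@Decidable.rec.{1} _ @(fun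 x1 => @Bool) @(fun x1 => @Bool.false) @(fun x1 => @Bool.true) (@Int.rec.{1} @(fun x1 => @Decidable (@Int.NonNeg @x1)) @(fun x1 => @Decidable.isTrue _ (@Int.NonNeg.mk @x1)) @(fun x1 => @Decidable.isFalse _ (@Int.decNonneg._proof_1 @x1)) (@Int.add (@Prod.fst.{0, 0} _ _ (@Prod.snd.{0, 0} _ _ (@Prod.snd.{0, 0} _ _ @x0))) (@Int.ofNat (nat_lit 0))))) (@Bool.rec.{1} @(fun x1 => @Bool) @Bool.false (@Decidable.rec.{1} _ @(fun x1 => @Bool) @(fun x1 => @Bool.false) @(fun x1 => @Bool.true) (@Int.rec.{1} @(fun x1 => @Decidable (@Int.NonNeg @x1)) @(fun x1 => @Decidable.isTrue _ (@Int.NonNeg.mk @x1)) @(fun x1 => @Decidable.isFalse _ (@Int.decNonneg._proof_1 @x1)) (@Int.add (@Prod.fst.{0, 0} _ _ (@Prod.snd.{0, 0} _ _ @x0)) (@Int.ofNat (nat_lit 0))))) (@Decidable.rec.{1} _ @(fun x1 => @Bool) @(fun x1 => @Bool.false) @(fun x1 => @Bool.true) (@Int.rec.{1} @(fun x1 => @Decidable (@Int.NonNeg @x1))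 @(fun x1 => @Decidable.isTrue _ (@Int.NonNeg.mk @x1)) @(fun x1 => @Decidable.isFalse _ (@Int.decNonneg._proof_1 @x1)) (@Int.add (@Prod.fst.{0, 0} _ _ @x0) (@Int.ofNat (nat_lit 0))))))))) ?_); rfl') | exact @Cfsg.Agent.SB.Low.Tab.D.pos | exact ()
private theorem _root_.Cfsg.Agent.KO48c2685.e46 : (by first | exact @Cfsg.Agent.SB.Low.Tab.D.pos = @_root_.Cfsg.Agent.KO48c2685.k46 | exact True : Prop) := by first | (delta _root_.Cfsg.Agent.KO48c2685.k46; exact @Subtype.property _ (fun g => @Cfsg.Agent.SB.Low.Tab.D.pos = @g) _) | rfl | trivial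
private noncomputable def _root_.Cfsg.Agent.KO48c2685.k47.{ku0} : type_of% @List.findIdx.go.{ku0} := @(fun x0 x1 x2 x3 => @List.rec.{1, ku0} @x0 @(fun x4 => ℕ → ℕ) @(fun x4 => @x4) @(fun x4 x5 x6 x7 => @Bool.rec.{1} @(fun x8 => ℕ) (@x6 (@Nat.add @x7 (nat_lit 1))) @x7 (@x1 @x4)) @x2 @x3)
private theorem _root_.Cfsg.Agent.KO48c2685.e47.{ku0} : @List.findIdx.go.{ku0} = @_root_.Cfsg.Agent.KO48c2685.k47.{ku0} := by delta _root_.Cfsg.Agent.KO48c2685.k47; funext a0 a1 a2 a3; refine (congrFun (_root_.Cfsg.Agent.KO48c2685.e0 (fun a2 a3 => @List.findIdx.go.{ku0} a0 a1 a2 a3) ?_ (fun c0 c1 => ?_) a2) a3 :) <;> (rfl')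
private noncomputable def _root_.Cfsg.Agent.KO48c2685.k48 : (by first | exact type_of% @Cfsg.Agent.SB.Low.Tab.D.prI | exact Unit : Sort _) := by first | (refine @Subtype.val _ (fun g => @Cfsg.Agent.SB.Low.Tab.D.prI = @g) (@Subtype.mk _ _ (@(fun x0 x1 => @Cfsg.Agent.KO48c2685.k38.{0} _ @(fun x2 => @Cfsg.Agent.KO48c2685.k14 (@Cfsg.Agent.KO48c2685.k7 @x0 (@Cfsg.Agent.KO48c2685.k7 (nat_lit 3397614474310148848187152932456900) @x2)) @(fun x3 => @Bool.rec.{1} @(fun x4 => @Bool) @Bool.false (@Cfsg.Agent.KO48c2685.k14 (@Cfsg.Agent.KO48c2685.k47.{0} _ @(fun x4 => @Prod.rec.{1, 0, 0} ℤ (ℤ × (ℤ × ℤ)) @(fun x5 => @Bool) @(fun x5 x6 => @Bool.rec.{1} @(fun x7 => @Bool) @Bool.false (@Prod.rec.{1, 0, 0} ℤ (ℤ × ℤ) @(fun x7 => @Bool) @(fun x7 x8 => @Bool.rec.{1} @(fun x9 => @Bool) @Bool.false (@Prod.rec.{1, 0, 0} ℤ ℤ @(fun x9 => @Bool) @(fun x9 x10 => @Bool.rec.{1} @(fun x11 => @Bool) @Bool.false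 (@Decidable.rec.{1} _ @(fun x11 => @Bool) @(fun x11 => @Bool.false) @(fun x11 => @Bool.true) (@Cfsg.Agent.KO48c2685.k3 @x10 (@Cfsg.Agent.KO48c2685.k16 (@Prod.snd.{0, 0} _ _ (@Prod.snd.{0, 0} _ _ (@Prod.snd.{0, 0} _ _ (@Option.rec.{1, 0} @Cfsg.Agent.SB.Low.Tab.D.T4 @(fun x11 => @Cfsg.Agent.SB.Low.Tab.D.T4) @Cfsg.Agent.SB.Low.Tab.D.r0 @(fun x11 => @x11) (@Cfsg.Agent.KO48c2685.k6.{0} _ @Cfsg.Agent.SB.Low.Tab.D.RL @x2))))) (@Int.rec.{1} @(fun x11 => ℤ) @(fun x11 => @Nat.rec.{1} @(fun x12 => ℤ) (@Int.ofNat (nat_lit 0)) @(fun x12 x13 => @Int.negSucc @x12) @x11) @(fun x11 => @Int.ofNat (@Nat.succ @x11)) (@Prod.snd.{0, 0} _ _ (@Prod.snd.{0, 0} _ _ (@Prod.snd.{0, 0} _ _ (@Option.rec.{1, 0} @Cfsg.Agent.SB.Low.Tab.D.T4 @(fun x11 => @Cfsg.Agent.SB.Low.Tab.D.T4) @Cfsg.Agent.SB.Low.Tab.D.r0 @(fun x11 => @x11) (@Cfsg.Agent.KO48c2685.k6.{0} _ @Cfsg.Agent.SB.Low.Tab.D.RL @x3))))))))) (@Decidable.rec.{1}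 _ @(fun x11 => @Bool) @(fun x11 => @Bool.false) @(fun x11 => @Bool.true) (@Cfsg.Agent.KO48c2685.k3 @x9 (@Cfsg.Agent.KO48c2685.k16 (@Prod.fst.{0, 0} _ _ (@Prod.snd.{0, 0} _ _ (@Prod.snd.{0, 0} _ _ (@Option.rec.{1, 0} @Cfsg.Agent.SB.Low.Tab.D.T4 @(fun x11 => @Cfsg.Agent.SB.Low.Tab.D.T4) @Cfsg.Agent.SB.Low.Tab.D.r0 @(fun x11 => @x11) (@Cfsg.Agent.KO48c2685.k6.{0} _ @Cfsg.Agent.SB.Low.Tab.D.RL @x2))))) (@Int.rec.{1} @(fun x11 => ℤ) @(fun x11 => @Nat.rec.{1} @(fun x12 => ℤ) (@Int.ofNat (nat_lit 0)) @(fun x12 x13 => @Int.negSucc @x12) @x11) @(fun x11 => @Int.ofNat (@Nat.succ @x11)) (@Prod.fst.{0, 0} _ _ (@Prod.snd.{0, 0} _ _ (@Prod.snd.{0, 0} _ _ (@Option.rec.{1, 0} @Cfsg.Agent.SB.Low.Tab.D.T4 @(fun x11 => @Cfsg.Agent.SB.Low.Tab.D.T4) @Cfsg.Agent.SB.Low.Tab.D.r0 @(fun x11 => @x11) (@Cfsg.Agent.KO48c2685.k6.{0} _ @Cfsg.Agent.SB.Low.Tab.D.RL @x3)))))))))) @x8) (@Decidable.rec.{1} _ @(fun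 x9 => @Bool) @(fun x9 => @Bool.false) @(fun x9 => @Bool.true) (@Cfsg.Agent.KO48c2685.k3 @x7 (@Cfsg.Agent.KO48c2685.k16 (@Prod.fst.{0, 0} _ _ (@Prod.snd.{0, 0} _ _ (@Option.rec.{1, 0} @Cfsg.Agent.SB.Low.Tab.D.T4 @(fun x9 => @Cfsg.Agent.SB.Low.Tab.D.T4) @Cfsg.Agent.SB.Low.Tab.D.r0 @(fun x9 => @x9) (@Cfsg.Agent.KO48c2685.k6.{0} _ @Cfsg.Agent.SB.Low.Tab.D.RL @x2)))) (@Int.rec.{1} @(fun x9 => ℤ) @(fun x9 => @Nat.rec.{1} @(fun x10 => ℤ) (@Int.ofNat (nat_lit 0)) @(fun x10 x11 => @Int.negSucc @x10) @x9) @(fun x9 => @Int.ofNat (@Nat.succ @x9)) (@Prod.fst.{0, 0} _ _ (@Prod.snd.{0, 0} _ _ (@Option.rec.{1, 0} @Cfsg.Agent.SB.Low.Tab.D.T4 @(fun x9 => @Cfsg.Agent.SB.Low.Tab.D.T4) @Cfsg.Agent.SB.Low.Tab.D.r0 @(fun x9 => @x9) (@Cfsg.Agent.KO48c2685.k6.{0} _ @Cfsg.Agent.SB.Low.Tab.D.RL @x3))))))))) @x6) (@Decidable.rec.{1} _ @(fun x7 => @Bool) @(fun x7 => @Bool.false) @(fun x7 => @Bool.true) (@Cfsg.Agent.KO48c2685.k3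 @x5 (@Cfsg.Agent.KO48c2685.k16 (@Prod.fst.{0, 0} _ _ (@Option.rec.{1, 0} @Cfsg.Agent.SB.Low.Tab.D.T4 @(fun x7 => @Cfsg.Agent.SB.Low.Tab.D.T4) @Cfsg.Agent.SB.Low.Tab.D.r0 @(fun x7 => @x7) (@Cfsg.Agent.KO48c2685.k6.{0} _ @Cfsg.Agent.SB.Low.Tab.D.RL @x2))) (@Int.rec.{1} @(fun x7 => ℤ) @(fun x7 => @Nat.rec.{1} @(fun x8 => ℤ) (@Int.ofNat (nat_lit 0)) @(fun x8 x9 => @Int.negSucc @x8) @x7) @(fun x7 => @Int.ofNat (@Nat.succ @x7)) (@Prod.fst.{0, 0} _ _ (@Option.rec.{1, 0} @Cfsg.Agent.SB.Low.Tab.D.T4 @(fun x7 => @Cfsg.Agent.SB.Low.Tab.D.T4) @Cfsg.Agent.SB.Low.Tab.D.r0 @(fun x7 => @x7) (@Cfsg.Agent.KO48c2685.k6.{0} _ @Cfsg.Agent.SB.Low.Tab.D.RL @x3)))))))) @x4) @Cfsg.Agent.SB.Low.Tab.D.RL (nat_lit 0)) @(fun x4 => @Bool.rec.{1} @(fun x5 => @Bool) (@Cfsg.Agent.SB.Low.Tab.D.mN @x4 @x1) @Bool.true (@Bool.rec.{1} @(fun x5 => @Bool) @Bool.true @Bool.false (@Nat.ble (@Nat.succ @x4) (nat_lit 24)))))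 (@Cfsg.Agent.SB.Low.Tab.D.mN @x3 @x1))) @x1)) ?_); rewrite [← Cfsg.Agent.KO48c2685.e6.{0}, ← Cfsg.Agent.KO48c2685.e16, ← Cfsg.Agent.KO48c2685.e3, ← Cfsg.Agent.KO48c2685.e47.{0}, ← Cfsg.Agent.KO48c2685.e7, ← Cfsg.Agent.KO48c2685.e14, ← Cfsg.Agent.KO48c2685.e38.{0}]; (try delta Cfsg.Agent.SB.Low.Tab.D.prI Cfsg.Agent.SB.Low.Tab.D.pp Cfsg.Agent.SB.Low.Tab.D.R); (try generalize @Cfsg.Agent.SB.Low.Tab.D.fN = g0); (try generalize @Cfsg.Agent.SB.Low.Tab.D.pm = g1); (try generalize @Cfsg.Agent.SB.Low.Tab.D.r0 = g2); (try generalize @Cfsg.Agent.SB.Low.Tab.D.RL = g3); (try generalize @Cfsg.Agent.SB.Low.Tab.D.mN = g4); rfl') | exact @Cfsg.Agent.SB.Low.Tab.D.prI | exact ()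
private theorem _root_.Cfsg.Agent.KO48c2685.e48 : (by first | exact @Cfsg.Agent.SB.Low.Tab.D.prI = @_root_.Cfsg.Agent.KO48c2685.k48 | exact True : Prop) := by first | (delta _root_.Cfsg.Agent.KO48c2685.k48; exact @Subtype.property _ (fun g => @Cfsg.Agent.SB.Low.Tab.D.prI = @g) _) | rfl | trivial

theorem chk_cls : (WL.all fun m => fin (tm m) (pr (tm m) (pr (tm m) (pr (tm m) (pr (tm m) (pr (tm m)
    (RL.filter (good (tm m))))))))) = true := 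
  allW (g := fun n => fL ((List.range 24).filter fun i => fN (pp n i) fun j =>
      ip (R j) (R i) != 0 && (!pos (R i) || pos (R j)) && (!pos (-R i) || pos (-R j))) fun G => fL (prI n G) fun G =>
    fL (prI n G) fun G => fL (prI n G) fun G => fL (prI n G) fun G => fL (prI n G) (finI n)) (by (first | (rewrite [Cfsg.Agent.KO48c2685.e9.{0}, Cfsg.Agent.KO48c2685.e38.{0}, Cfsg.Agent.KO48c2685.e14, Cfsg.Agent.KO48c2685.e27, Cfsg.Agent.KO48c2685.e10, Cfsg.Agent.KO48c2685.e28.{0}, Cfsg.Agent.KO48c2685.e4, Cfsg.Agent.KO48c2685.e19, Cfsg.Agent.KO48c2685.e15, Cfsg.Agent.KO48c2685.e21, Cfsg.Agent.KO48c2685.e45, Cfsg.Agent.KO48c2685.e46, Cfsg.Agent.KO48c2685.e13, Cfsg.Agent.KO48c2685.e48]; decide +kernel) | decide +kernel))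
    fun n hn => by
      have h1 : ∀ G : List ℕ, (∀ i ∈ G, i < 24) → pr (tm (toM n)) (G.map R) = (prI n G).map R ∧ ∀ i ∈ prI n G, i < 24 :=
        fun G hG => ⟨(List.filter_map ..).trans (congrArg _ (List.filter_congr fun i hi => by
          rw [fN_eq, fN_eq, ← ct_RL, ← ct_G hG, ← idx_R _ (lp hn (hG i hi)), ← ct_G hG, idx_R _ (lp hn (hG i hi)),
            ← hp hn (hG i hi)]
          rfl)), fun i hi => hG i (List.mem_filter.1 hi).1⟩
      have h2 : ∀ G : List ℕ, (∀ i ∈ G, i < 24) → fin (tm (toM n)) (G.map R) = finI n G := fun G hG => by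
        rw [fin, finI, List.all_map, Bool.eq_iff_iff, List.all_eq_true, List.all_eq_true]
        refine forall₂_congr fun i hi => ?_
        simp only [fN_eq, ← ct_RL, ← ct_G hG]
        rw [← hp hn (hG i hi), Function.comp, List.all_map]
        rfl
      have h3 : RL.filter (good (tm (toM n))) = ((List.range 24).filter fun i => fN (pp n i) fun j =>
          ip (R j) (R i) != 0 && (!pos (R i) || pos (R j)) && (!pos (-R i) || pos (-R j))).map R := by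
        rw [RL_eq, List.filter_map]
        exact congrArg _ (List.filter_congr fun i hi => by rw [fN_eq, ← hp hn (List.mem_range.1 hi)]; rfl)
      rw [h3]
      simp only [fL_eq]
      generalize hG : (List.range 24).filter _ = G
      have g0 : ∀ i ∈ G, i < 24 := fun i hi => List.mem_range.1 (List.mem_filter.1 (hG ▸ hi)).1
      have g1 := h1 G g0
      have g2 := h1 _ g1.2
      have g3 := h1 _ g2.2
      have g4 := h1 _ g3.2
      have g5 := h1 _ g4.2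
      rw [g1.1, g2.1, g3.1, g4.1, g5.1, h2 _ g5.2]

/-- the roots of an `A₂` -/
def a2 (a b : T4) : List T4 := [a, b, a + b, -a, -b, -(a + b)]

private noncomputable def _root_.Cfsg.Agent.KO48c2685.k39 : (by first | exact type_of% @Cfsg.Agent.SB.Low.Tab.D.fZ | exact Unit : Sort _) := by first | (refine @Subtype.val _ (fun g => @Cfsg.Agent.SB.Low.Tab.D.fZ = @g) (@Subtype.mk _ _ (@(fun x0 x1 => @Int.rec.{1} @(fun x2 => @Bool) @(fun x2 => @Cfsg.Agent.KO48c2685.k14 @x2 @(fun x3 => @x1 (@Int.ofNat @x3))) @(fun x2 => @Cfsg.Agent.KO48c2685.k14 @x2 @(fun x3 => @x1 (@Int.negSucc @x3))) @x0)) ?_); rewrite [← Cfsg.Agent.KO48c2685.e14]; (try delta Cfsg.Agent.SB.Low.Tab.D.fZ); (try generalize @Cfsg.Agent.SB.Low.Tab.D.fN = g0); rfl') | exact @Cfsg.Agent.SB.Low.Tab.D.fZ | exact ()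
private theorem _root_.Cfsg.Agent.KO48c2685.e39 : (by first | exact @Cfsg.Agent.SB.Low.Tab.D.fZ = @_root_.Cfsg.Agent.KO48c2685.k39 | exact True : Prop) := by first | (delta _root_.Cfsg.Agent.KO48c2685.k39; exact @Subtype.property _ (fun g => @Cfsg.Agent.SB.Low.Tab.D.fZ = @g) _) | rfl | trivial
private noncomputable def _root_.Cfsg.Agent.KO48c2685.k40 : (by first | exact type_of% @Cfsg.Agent.SB.Low.Tab.D.fT | exact Unit : Sort _) := by first | (refine @Subtype.val _ (fun g => @Cfsg.Agent.SB.Low.Tab.D.fT = @g) (@Subtype.mk _ _ (@(fun x0 x1 => @Cfsg.Agent.KO48c2685.k39 (@Prod.fst.{0, 0} _ _ @x0) @(fun x2 => @Cfsg.Agent.KO48c2685.k39 (@Prod.fst.{0, 0} _ _ (@Prod.snd.{0, 0} _ _ @x0)) @(fun x3 => @Cfsg.Agent.KO48c2685.k39 (@Prod.fst.{0, 0} _ _ (@Prod.snd.{0, 0} _ _ (@Prod.snd.{0, 0} _ _ @x0))) @(fun x4 => @Cfsg.Agent.KO48c2685.k39 (@Prod.snd.{0, 0} _ _ (@Prod.snd.{0, 0} _ _ (@Prod.snd.{0,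 0} _ _ @x0))) @(fun x5 => @x1 ((@x2, (@x3, (@x4, @x5)))))))))) ?_); rewrite [← Cfsg.Agent.KO48c2685.e39]; (try delta Cfsg.Agent.SB.Low.Tab.D.fT); (try generalize @Cfsg.Agent.SB.Low.Tab.D.fZ = g0); rfl') | exact @Cfsg.Agent.SB.Low.Tab.D.fT | exact ()
private theorem _root_.Cfsg.Agent.KO48c2685.e40 : (by first | exact @Cfsg.Agent.SB.Low.Tab.D.fT = @_root_.Cfsg.Agent.KO48c2685.k40 | exact True : Prop) := by first | (delta _root_.Cfsg.Agent.KO48c2685.k40; exact @Subtype.property _ (fun g => @Cfsg.Agent.SB.Low.Tab.D.fT = @g) _) | rfl | trivial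
private noncomputable def _root_.Cfsg.Agent.KO48c2685.k49 : (by first | exact type_of% @Cfsg.Agent.SB.Low.Tab.D.a2 | exact Unit : Sort _) := by first | (refine @Subtype.val _ (fun g => @Cfsg.Agent.SB.Low.Tab.D.a2 = @g) (@Subtype.mk _ _ (@(fun x0 x1 => @x0 :: (@x1 :: (((@Cfsg.Agent.KO48c2685.k16 (@Prod.fst.{0, 0} _ _ @x0) (@Prod.fst.{0, 0} _ _ @x1), (@Cfsg.Agent.KO48c2685.k16 (@Prod.fst.{0, 0} _ _ (@Prod.snd.{0, 0} _ _ @x0)) (@Prod.fst.{0, 0} _ _ (@Prod.snd.{0, 0} _ _ @x1)), (@Cfsg.Agent.KO48c2685.k16 (@Prod.fst.{0, 0} _ _ (@Prod.snd.{0, 0} _ _ (@Prod.snd.{0, 0} _ _ @x0))) (@Prod.fst.{0, 0} _ _ (@Prod.snd.{0, 0} _ _ (@Prod.snd.{0, 0} _ _ @x1))), @Cfsg.Agent.KO48c2685.k16 (@Prod.snd.{0, 0} _ _ (@Prod.snd.{0, 0} _ _ (@Prod.snd.{0, 0} _ _ @x0))) (@Prod.snd.{0, 0} _ _ (@Prod.snd.{0, 0} _ _ (@Prod.snd.{0, 0} _ _ @x1))))))) :: (((@Int.rec.{1} @(fun x2 => ℤ) @(fun x2 => @Nat.rec.{1} @(fun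 x3 => ℤ) (@Int.ofNat (nat_lit 0)) @(fun x3 x4 => @Int.negSucc @x3) @x2) @(fun x2 => @Int.ofNat (@Nat.succ @x2)) (@Prod.fst.{0, 0} _ _ @x0), (@Int.rec.{1} @(fun x2 => ℤ) @(fun x2 => @Nat.rec.{1} @(fun x3 => ℤ) (@Int.ofNat (nat_lit 0)) @(fun x3 x4 => @Int.negSucc @x3) @x2) @(fun x2 => @Int.ofNat (@Nat.succ @x2)) (@Prod.fst.{0, 0} _ _ (@Prod.snd.{0, 0} _ _ @x0)), (@Int.rec.{1} @(fun x2 => ℤ) @(fun x2 => @Nat.rec.{1} @(fun x3 => ℤ) (@Int.ofNat (nat_lit 0)) @(fun x3 x4 => @Int.negSucc @x3) @x2) @(fun x2 => @Int.ofNat (@Nat.succ @x2)) (@Prod.fst.{0, 0} _ _ (@Prod.snd.{0, 0} _ _ (@Prod.snd.{0, 0} _ _ @x0))), @Int.rec.{1} @(fun x2 => ℤ) @(fun x2 => @Nat.rec.{1} @(fun x3 => ℤ) (@Int.ofNat (nat_lit 0)) @(fun x3 x4 => @Int.negSucc @x3) @x2) @(fun x2 => @Int.ofNat (@Nat.succ @x2)) (@Prod.snd.{0, 0} _ _ (@Prod.snd.{0, 0} _ _ (@Prod.snd.{0, 0} _ _ @x0))))))) :: (((@Int.rec.{1} @(fun x2 => ℤ)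 @(fun x2 => @Nat.rec.{1} @(fun x3 => ℤ) (@Int.ofNat (nat_lit 0)) @(fun x3 x4 => @Int.negSucc @x3) @x2) @(fun x2 => @Int.ofNat (@Nat.succ @x2)) (@Prod.fst.{0, 0} _ _ @x1), (@Int.rec.{1} @(fun x2 => ℤ) @(fun x2 => @Nat.rec.{1} @(fun x3 => ℤ) (@Int.ofNat (nat_lit 0)) @(fun x3 x4 => @Int.negSucc @x3) @x2) @(fun x2 => @Int.ofNat (@Nat.succ @x2)) (@Prod.fst.{0, 0} _ _ (@Prod.snd.{0, 0} _ _ @x1)), (@Int.rec.{1} @(fun x2 => ℤ) @(fun x2 => @Nat.rec.{1} @(fun x3 => ℤ) (@Int.ofNat (nat_lit 0)) @(fun x3 x4 => @Int.negSucc @x3) @x2) @(fun x2 => @Int.ofNat (@Nat.succ @x2)) (@Prod.fst.{0, 0} _ _ (@Prod.snd.{0, 0} _ _ (@Prod.snd.{0, 0} _ _ @x1))), @Int.rec.{1} @(fun x2 => ℤ) @(fun x2 => @Nat.rec.{1} @(fun x3 => ℤ) (@Int.ofNat (nat_lit 0)) @(fun x3 x4 => @Int.negSucc @x3) @x2) @(fun x2 => @Int.ofNat (@Nat.succ @x2)) (@Prod.snd.{0, 0} _ _ (@Prod.snd.{0, 0} _ _ (@Prod.snd.{0, 0} _ _ @x1))))))) ::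 (((@Int.rec.{1} @(fun x2 => ℤ) @(fun x2 => @Nat.rec.{1} @(fun x3 => ℤ) (@Int.ofNat (nat_lit 0)) @(fun x3 x4 => @Int.negSucc @x3) @x2) @(fun x2 => @Int.ofNat (@Nat.succ @x2)) (@Cfsg.Agent.KO48c2685.k16 (@Prod.fst.{0, 0} _ _ @x0) (@Prod.fst.{0, 0} _ _ @x1)), (@Int.rec.{1} @(fun x2 => ℤ) @(fun x2 => @Nat.rec.{1} @(fun x3 => ℤ) (@Int.ofNat (nat_lit 0)) @(fun x3 x4 => @Int.negSucc @x3) @x2) @(fun x2 => @Int.ofNat (@Nat.succ @x2)) (@Cfsg.Agent.KO48c2685.k16 (@Prod.fst.{0, 0} _ _ (@Prod.snd.{0, 0} _ _ @x0)) (@Prod.fst.{0, 0} _ _ (@Prod.snd.{0, 0} _ _ @x1))), (@Int.rec.{1} @(fun x2 => ℤ) @(fun x2 => @Nat.rec.{1} @(fun x3 => ℤ) (@Int.ofNat (nat_lit 0)) @(fun x3 x4 => @Int.negSucc @x3) @x2) @(fun x2 => @Int.ofNat (@Nat.succ @x2)) (@Cfsg.Agent.KO48c2685.k16 (@Prod.fst.{0, 0} _ _ (@Prod.snd.{0, 0} _ _ (@Prod.snd.{0, 0} _ _ @x0))) (@Prod.fst.{0, 0} _ _ (@Prod.snd.{0, 0} _ _ (@Prod.snd.{0, 0}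 _ _ @x1)))), @Int.rec.{1} @(fun x2 => ℤ) @(fun x2 => @Nat.rec.{1} @(fun x3 => ℤ) (@Int.ofNat (nat_lit 0)) @(fun x3 x4 => @Int.negSucc @x3) @x2) @(fun x2 => @Int.ofNat (@Nat.succ @x2)) (@Cfsg.Agent.KO48c2685.k16 (@Prod.snd.{0, 0} _ _ (@Prod.snd.{0, 0} _ _ (@Prod.snd.{0, 0} _ _ @x0))) (@Prod.snd.{0, 0} _ _ (@Prod.snd.{0, 0} _ _ (@Prod.snd.{0, 0} _ _ @x1)))))))) :: []))))))) ?_); rewrite [← Cfsg.Agent.KO48c2685.e16]; rfl') | exact @Cfsg.Agent.SB.Low.Tab.D.a2 | exact ()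
private theorem _root_.Cfsg.Agent.KO48c2685.e49 : (by first | exact @Cfsg.Agent.SB.Low.Tab.D.a2 = @_root_.Cfsg.Agent.KO48c2685.k49 | exact True : Prop) := by first | (delta _root_.Cfsg.Agent.KO48c2685.k49; exact @Subtype.property _ (fun g => @Cfsg.Agent.SB.Low.Tab.D.a2 = @g) _) | rfl | trivial

theorem chk_a2 : (RL.all fun a => RL.all fun c => [a, -a].contains c || ip c a == 0 ||
    [a, c, rf a c, -a, -c, -rf a c].any fun x => [a, c, rf a c, -a, -c, -rf a c].any fun y =>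
      pos x && pos y && ip y x == -1 && (a2 x y).all RL.contains &&
      ((a2 x y).all fun u => (a2 x y).all fun v => !pos u || !pos v || !(a2 x y).contains (u + v) ||
        (u == x && v == y) || (u == y && v == x)) &&
      RL.all fun d => (a2 x y).contains d || ip x d == 0 || ip y d == 0 || ip (x + y) d == 0) = true := by
  have h : (RL.all fun a => RL.all fun c => [a, -a].contains c || ip c a == 0 ||
      [a, c, rf a c, -a, -c, -rf a c].any fun x => fT x fun x => [a, c, rf a c, -a, -c, -rf a c].any fun y => fT y fun y =>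
        pos x && pos y && ip y x == -1 && (a2 x y).all RL.contains &&
        ((a2 x y).all fun u => (a2 x y).all fun v => !pos u || !pos v || !(a2 x y).contains (u + v) ||
          (u == x && v == y) || (u == y && v == x)) &&
        RL.all fun d => (a2 x y).contains d || ip x d == 0 || ip y d == 0 || ip (x + y) d == 0) = true := by
    (first | (rewrite [Cfsg.Agent.KO48c2685.e9.{0}, Cfsg.Agent.KO48c2685.e21, Cfsg.Agent.KO48c2685.e23.{0}, Cfsg.Agent.KO48c2685.e4, Cfsg.Agent.KO48c2685.e19, Cfsg.Agent.KO48c2685.e44.{0}, Cfsg.Agent.KO48c2685.e20, Cfsg.Agent.KO48c2685.e40, Cfsg.Agent.KO48c2685.e10, Cfsg.Agent.KO48c2685.e46, Cfsg.Agent.KO48c2685.e49, Cfsg.Agent.KO48c2685.e45]; decide +kernel) | decide +kernel)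
  simpa only [fT_eq] using h

end Cfsg.Agent.SB.Low.Tab.D
end

-- part: SB/Low/TwoAut
section
set_option linter.all false
open scoped Cfsg.Agent.FastGrp

/-!
# S5765, low rank: the automiser of an elementary abelian group of order `4` or `8` (helper30)
-/

set_option autoImplicit false
set_option maxHeartbeats 200000

namespace Cfsg.Agent.SB.Low

open Subgroup

theorem twoA_card_aut_four {V : Type*} [Group V] (h : Nat.card V = 4) : Nat.card (MulAut V) ≤ 6 := by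
  classical
  have : Finite V := Nat.finite_of_card_ne_zero (by rw [h]; norm_num)
  have := Fintype.ofFinite V
  let f : MulAut V → Equiv.Perm {x : V // x ≠ 1} := fun φ =>
    Equiv.Perm.subtypePerm φ.toEquiv (fun x => by
      change φ x ≠ 1 ↔ x ≠ 1
      rw [ne_eq, MulEquiv.map_eq_one_iff])
  have hf : Function.Injective f := by
    intro φ ψ e
    ext x
    by_cases hx : x = 1
    · rw [hx, map_one, map_one]
    · exact congrArg (fun g : Equiv.Perm {x : V // x ≠ 1} => (g ⟨x, hx⟩).1) e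
  have h1 := Nat.card_le_card_of_injective f hf
  have h2 : Nat.card {x : V // x ≠ 1} = 3 := by
    rw [Nat.card_eq_fintype_card, Fintype.card_subtype_compl, Fintype.card_subtype_eq, ← Nat.card_eq_fintype_card, h]
  rw [Nat.card_perm, h2] at h1
  exact h1

theorem twoA_relIndex {K : Type} [Group K] (E : Subgroup K) :
    (Cz E).relIndex (Nz E) = Nat.card E.normalizerMonoidHom.range := by
  rw [← index_ker, normalizerMonoidHom_ker]
  rfl

/-- [Aut] -/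
theorem boxAut : BoxAut := by
  intro K _ _ E hE hs
  rw [twoA_relIndex]
  refine ⟨fun h => ?_, fun h => ?_⟩
  · exact (card_le_card_group _).trans (twoA_card_aut_four h)
  · have hsq : ∀ v : E, v * v = 1 := fun v => Subtype.ext (by
      have := hE.pow v v.2
      rwa [pow_two] at this)
    have hc := StdL2.G23Aut.card_aut hsq h
    have := StdL2.G23Aut.simple_aut hsq h
    have hne : E.normalizerMonoidHom.range ≠ ⊤ := by
      intro ht
      have h1 : Group.IsSolvable (MulAut E) := Group.isSolvable_of_surjective (MonoidHom.range_eq_top.1 ht)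
      have h2 := IsSimpleGroup.comm_iff_isSolvable.2 h1
      let _ : CommGroup (MulAut E) := { (inferInstance : Group (MulAut E)) with mul_comm := h2 }
      have h3 : (Nat.card (MulAut E)).Prime := IsSimpleGroup.prime_card
      rw [hc] at h3
      exact absurd h3 (by norm_num)
    have h1 := SmallSimple.Simple168Klein.index_ge_seven hc _ hne
    have h2 := E.normalizerMonoidHom.range.card_mul_index
    rw [hc] at h2
    nlinarith

end Cfsg.Agent.SB.Low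
end

-- part: SB/Low/NS
section
prune_inst 0x20001000002200000018001020003d06d6000002006b8000b8000b0406c21f000041872034202c121000a04c00380048100000500000000000000400011c048100a8120220008000000006000000000000000000000000000000000000041000200000000
set_option linter.all false
open scoped Cfsg.Agent.FastGrp

/-!
# S5765, `G₂(q)` and `³D₄(q)`: a root orbit gives a non-solvable group (helper90)

* `NS.exists_form`, `NS.form_unique` : the rank one relation `X(-a) ⊆ X(a) m X(a)` for an arbitrary root;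
* `NS.exists_perfect` : `g a = ± a` and a field of at least four elements give a perfect subgroup of `⟨X(a), X(-a)⟩^F`;
* `NS.not_solvable` : the diagonal of commuting `F`-images of a perfect group;
* `boxNS`.
-/

set_option autoImplicit false
set_option linter.unusedSectionVars false

namespace Cfsg.Agent.SB.Low

open Subgroup Cfsg CoxeterSystem Cfsg.Agent.ChevalleyStructure.CoxeterGeom Cfsg.Agent.Tits.Roots
  Cfsg.Agent.Nodes.Reps Cfsg.Agent.Nodes.BNOf Cfsg.Agent.Nodes.Coroot Cfsg.Agent.DL Cfsg.Agent.TwoFusion.PerfCore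
open scoped commutatorElement

namespace NS

/-! ### the diagonal -/

section Diag

variable {Y : Type} [Group Y] (F : MulAut Y)

/-- the product of the first `j` images -/
def nm (j : ℕ) (y : Y) : Y := ((List.range j).map fun i => (F ^ i) y).prod

theorem nm_succ (j : ℕ) (y : Y) : nm F (j + 1) y = nm F j y * (F ^ j) y := List.prod_range_succ _ _

theorem nm_succ' (j : ℕ) (y : Y) : nm F (j + 1) y = y * F (nm F j y) := by
  rw [nm, List.prod_range_succ', nm, map_list_prod, List.map_map]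
  congr 2
  refine List.map_congr_left fun i _ => ?_
  rw [pow_succ']
  rfl

theorem nm_mem {M : Subgroup Y} {j : ℕ} {y : Y} (h : ∀ i < j, (F ^ i) y ∈ M) : nm F j y ∈ M := by
  refine list_prod_mem fun z hz => ?_
  obtain ⟨i, hi, rfl⟩ := List.mem_map.1 hz
  exact h i (List.mem_range.1 hi)

theorem not_solvable {j : ℕ} (hj : 0 < j) {P M : Subgroup Y} (hP : ⁅P, P⁆ = P) (h0 : P ≠ ⊥)
    (hF : ∀ y ∈ P, (F ^ j) y = y)
    (hc : ∀ i < j, ∀ i' < j, i ≠ i' → ∀ y ∈ P, ∀ z ∈ P, (F ^ i) y * (F ^ i') z = (F ^ i') z * (F ^ i) y)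
    (hM : ∀ i < j, ∀ y ∈ P, (F ^ i) y ∈ M) : ¬ Group.IsSolvable ↥(fix F ⊓ M) := by
  intro hs
  have hmul : ∀ l ≤ j, ∀ y ∈ P, ∀ z ∈ P, nm F l (y * z) = nm F l y * nm F l z := by
    intro l
    induction l with
    | zero => intro _ y _ z _; simp [nm]
    | succ l ih =>
      intro hl y hy z hz
      have h1 : nm F l z ∈ centralizer ({(F ^ l) y} : Set Y) := nm_mem F fun i hi =>
        mem_centralizer_singleton_iff.2 (hc i (by omega) l (by omega) (by omega) z hz y hy)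
      rw [nm_succ, nm_succ, nm_succ, ih (by omega) y hy z hz, map_mul]
      calc _ = nm F l y * (nm F l z * (F ^ l) y) * (F ^ l) z := by group
        _ = _ := by rw [mem_centralizer_singleton_iff.1 h1]; group
  obtain ⟨l, rfl⟩ : ∃ l, j = l + 1 := ⟨j - 1, by omega⟩
  have hcm : ∀ y ∈ P, ∀ z ∈ P, F (nm F l y) * z = z * F (nm F l y) := fun y hy z hz => by
    have h1 : nm F l y ∈ (centralizer ({z} : Set Y)).comap F.toMonoidHom := nm_mem F fun i hi =>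
      mem_centralizer_singleton_iff.2 (by
        have := hc (i + 1) (by omega) 0 (by omega) (by omega) y hy z hz
        rwa [pow_succ', pow_zero] at this)
    exact mem_centralizer_singleton_iff.1 h1
  let ψ : P →* Y := MonoidHom.mk' (fun y => nm F (l + 1) y) fun y z => hmul _ le_rfl y y.2 z z.2
  have hle : (⊤ : Subgroup P).map ψ ≤ fix F ⊓ M := by
    rintro _ ⟨y, -, rfl⟩
    refine ⟨mem_fix.2 ?_, nm_mem F fun i hi => hM i hi y y.2⟩
    have h1 := nm_succ' F (l + 1) y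
    rw [nm_succ F (l + 1), hF y y.2, nm_succ' F l, mul_assoc, hcm y y.2 y y.2, ← nm_succ' F l] at h1
    exact (mul_left_cancel h1).symm
  have htop : ⁅(⊤ : Subgroup P), (⊤ : Subgroup P)⁆ = ⊤ := by
    apply map_injective P.subtype_injective
    rw [map_commutator, ← MonoidHom.range_eq_map, range_subtype, hP]
  have hk : (⊤ : Subgroup P) ≤ ψ.ker :=
    le_ker_of_perfect htop ψ (Group.isSolvable_of_isSolvable_injective (inclusion_injective hle))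
  apply h0
  rw [← hP, commutator_eq_bot_iff_le_centralizer]
  intro y hy
  refine mem_centralizer_iff.2 fun z hz => ?_
  have h1 : nm F (l + 1) y = 1 := hk (mem_top (⟨y, hy⟩ : P))
  rw [nm_succ'] at h1
  rw [eq_inv_of_mul_eq_one_left h1]
  exact (Commute.inv_left (hcm y hy z hz)).eq.symm

end Diag

/-! ### rank one -/

variable {p : ℕ} [Fact p.Prime] {k : Type} [Field k] [CharP k p] {Y : Type} [Group Y] {N : Type} [Fintype N]
  [DecidableEq N] {ρ : Y →* GL N k} {F : MulAut Y} {G : Subgroup Y} (D : Datum p ρ F G) [IsAlgClosed k]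

theorem exists_form {a : D.I → ℤ} (ha : D.Rt a) {ξ : Y} (hξ : ξ ∈ D.X (-a)) (h1 : ξ ≠ 1) :
    ∃ y ∈ D.X a, ∃ m, D.Rp (D.rf a) m ∧ ∃ z ∈ D.X a, ξ = y * m * z := by
  obtain ⟨w, i, rfl⟩ := ha
  obtain ⟨r, hr, -⟩ := D.exists_rp w
  have hi := isRoot_sr D.cs D.h i
  have h2 := D.conj_mem hr.inv (hi.act w).neg hξ
  rw [Datum.act, map_neg, rep_inv_apply] at h2
  obtain ⟨u, hu⟩ := (D.mem_X _ hi.neg _).1 h2
  have hu0 : u ≠ 0 := by
    rintro rfl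
    rw [D.x_zero hi.neg] at hu
    apply h1
    calc ξ = r * (r⁻¹ * ξ * r⁻¹⁻¹) * r⁻¹ := by group
      _ = 1 := by rw [← hu]; group
  obtain ⟨c₁, c₂, -, -, t₀, ht₀, e⟩ := D.rank_one i
  have h3 := e (Units.mk0 u hu0)
  rw [Units.val_mk0, hu] at h3
  refine ⟨_, D.conj_mem hr hi (D.x_mem hi (c₁ * ((Units.mk0 u hu0)⁻¹ : kˣ))),
    r * (D.τ (coch (D.cw i) (Units.mk0 u hu0)⁻¹) * t₀ * D.n i) * r⁻¹, ?_,
    _, D.conj_mem hr hi (D.x_mem hi (c₂ * ((Units.mk0 u hu0)⁻¹ : kˣ))), ?_⟩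
  · have h4 := (rp_of_mem (cs := D.cs) (hN := D.nsys) (mul_mem (D.τ_mem (coch (D.cw i) (Units.mk0 u hu0)⁻¹)) ht₀)).mul
      (rp_simple _ _ i)
    rw [one_mul] at h4
    exact D.rf_act w i ▸ (hr.mul h4).mul hr.inv
  · calc ξ = r * (r⁻¹ * ξ * r⁻¹⁻¹) * r⁻¹ := by group
      _ = _ := by rw [h3]; group

theorem form_unique {a : D.I → ℤ} (ha : D.Rt a) {y y' z z' m m' : Y} (hy : y ∈ D.X a) (hy' : y' ∈ D.X a)
    (hz : z ∈ D.X a) (hz' : z' ∈ D.X a) (hm : D.Rp (D.rf a) m) (hm' : D.Rp (D.rf a) m')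
    (e : y * m * z = y' * m' * z') : y = y' ∧ m = m' ∧ z = z' := by
  have h1 : m = m' := by
    obtain ⟨w, i, rfl⟩ := ha
    obtain ⟨r, hr, -⟩ := D.exists_rp w
    have hi := isRoot_sr D.cs D.h i
    have key : ∀ v ∈ D.X (rep D.cs D.h w (sr i)), r⁻¹ * v * r ∈ D.U := fun v hv => by
      have h2 := D.conj_mem hr.inv (hi.act w) hv
      rw [Datum.act, rep_inv_apply, inv_inv] at h2
      exact RGD.le_Sup (S := RGD.Pos D.cs D.h) ⟨hi, sr_nonneg i⟩ h2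
    have h3 := (D.eq_of_mem_UNU (key y hy) (key y' hy') ((hr.inv.mul hm).mul hr) ((hr.inv.mul hm').mul hr) (key z hz)
      (key z' hz') (by
        calc _ = r⁻¹ * (y * m * z) * r := by group
          _ = _ := by rw [e]; group)).2
    exact mul_left_cancel (mul_right_cancel h3)
  subst h1
  have h2 := D.conj_mem hm ha (mul_mem hz' (inv_mem hz))
  rw [D.act_rf_self ha] at h2
  have h3 : m * (z' * z⁻¹) * m⁻¹ = y'⁻¹ * y := by
    calc _ = y'⁻¹ * (y' * m * z') * z⁻¹ * m⁻¹ := by group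
      _ = _ := by rw [← e]; group
  have h4 : y'⁻¹ * y = 1 := D.eq_one_of_mem_X_X ha ha.neg (fun h => ha.ne_zero (by
    funext j
    have := congrFun h j
    rw [Pi.neg_apply] at this
    rw [Pi.zero_apply]
    omega)) (mul_mem (inv_mem hy') hy) (h3 ▸ h2)
  have h5 : y = y' := (inv_mul_eq_one.1 h4).symm
  subst h5
  exact ⟨rfl, rfl, mul_left_cancel e⟩

/-- the factors of an `F`-fixed element are `F`-fixed -/
theorem form_fix {a : D.I → ℤ} (ha : D.Rt a) (hg : D.g a = a) {y z m : Y} (hy : y ∈ D.X a) (hz : z ∈ D.X a)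
    (hm : D.Rp (D.rf a) m) (e : F (y * m * z) = y * m * z) : F y = y ∧ F z = z := by
  have h1 := Datum.Rp.mapF hm
  rw [D.Fw_rf ha, hg] at h1
  rw [map_mul, map_mul] at e
  have h2 := form_unique D ha (hg ▸ D.F_mem_X ha hy) hy (hg ▸ D.F_mem_X ha hz) hz h1 hm e
  exact ⟨h2.1, h2.2.2⟩

theorem le_commutator {b : D.I → ℤ} (hb : D.Rt b) (hg : D.g b = b) {h : Y} (hT : h ∈ D.T) (hF : F h = h)
    (hχ : D.χ b h ≠ 1) {P : Subgroup Y} (hP : h ∈ P) (hX : fix F ⊓ D.X b ≤ P) : fix F ⊓ D.X b ≤ ⁅P, P⁆ := by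
  rintro _ ⟨h1, h2⟩
  obtain ⟨s, rfl⟩ := (D.mem_X b hb _).1 h2
  obtain ⟨c, -, hc⟩ := D.F_x b hb
  have h3 := D.χ_F hb hT
  rw [hg, hF] at h3
  rw [hg] at hc
  have h4 : c * s ^ p ^ D.ex b = s := D.x_inj b hb ((hc s).symm.trans h1)
  have h5 : D.χ b h - 1 ≠ 0 := sub_ne_zero.2 hχ
  have h6 : D.x b (s / (D.χ b h - 1)) ∈ P := hX ⟨mem_fix.2 (by
    rw [hc, div_pow, sub_pow_char_pow, ← h3, one_pow, ← mul_div_assoc, h4]), D.x_mem hb _⟩
  have h7 := commutator_mem_commutator hP h6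
  rw [commutatorElement_def, D.tor' hb hT, ← D.x_neg hb, ← D.x_add b hb] at h7
  convert h7 using 2
  field_simp
  ring

theorem exists_v {e : ℕ} (he : 4 ≤ p ^ e) : ∃ v : k, v ≠ 0 ∧ v ^ 2 ≠ 1 ∧ v ^ p ^ e = v := by
  have h0 : 0 < e := Nat.pos_of_ne_zero (by rintro rfl; simp at he)
  by_contra h
  have h1 : {v : k | v ^ p ^ e = v} ⊆ {0, 1, -1} := fun v hv => by
    by_contra h2
    simp only [Set.mem_insert_iff, Set.mem_singleton_iff, not_or] at h2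
    exact h ⟨v, h2.1, fun h3 => (sq_eq_one_iff.1 h3).elim h2.2.1 h2.2.2, hv⟩
  have h2 := Set.ncard_le_ncard h1 (Set.toFinite _)
  have h3 : {v : k | v ^ p ^ e = v}.ncard = p ^ e := card_pow_eq h0
  have h4 : ({0, 1, -1} : Set k).ncard ≤ 3 :=
    (Set.ncard_insert_le _ _).trans (by have := Set.ncard_insert_le (1 : k) {-1}; rw [Set.ncard_singleton] at this; omega)
  omega

theorem exists_perfect_pos {a : D.I → ℤ} (ha : D.Rt a) (hg : D.g a = a) (h4 : 4 ≤ p ^ D.ex a) :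
    ∃ P : Subgroup Y, P ≤ fix F ⊓ D.S {a, -a} ∧ ⁅P, P⁆ = P ∧ P ≠ ⊥ := by
  have hg' : D.g (-a) = -a := by rw [D.g_neg ha, hg]
  obtain ⟨c, hc0, hc⟩ := D.F_x _ ha.neg
  rw [hg', D.ex_neg ha] at hc
  obtain ⟨u, hu⟩ := IsAlgClosed.exists_pow_nat_eq c⁻¹ (n := p ^ D.ex a - 1) (by omega)
  have hu0 : u ≠ 0 := by
    rintro rfl
    rw [zero_pow (by omega)] at hu
    exact inv_ne_zero hc0 hu.symm
  have hu1 : c * u ^ p ^ D.ex a = u := by
    rw [show p ^ D.ex a = p ^ D.ex a - 1 + 1 by omega, pow_succ, hu, mul_inv_cancel_left₀ hc0]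
  obtain ⟨v, hv0, hv2, hv⟩ := exists_v (k := k) h4
  obtain ⟨t, ht, htv⟩ := D.χ_surj ha.neg hv0
  have hne : D.x (-a) u ≠ 1 := fun h => hu0 ((D.x_eq_one_iff ha.neg).1 h)
  obtain ⟨y, hy, m, hm, z, hz, e⟩ := exists_form D ha (D.x_mem ha.neg u) hne
  let P : Subgroup Y := (fix F ⊓ D.X a) ⊔ (fix F ⊓ D.X (-a))
  have f1 : F (D.x (-a) u) = D.x (-a) u := by rw [hc, hu1]
  have f2 : F (D.x (-a) (v * u)) = D.x (-a) (v * u) := by rw [hc, mul_pow, hv, mul_left_comm, hu1]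
  have key : ∀ {ξ y m z : Y}, ξ ∈ D.X (-a) → F ξ = ξ → y ∈ D.X a → z ∈ D.X a → D.Rp (D.rf a) m → ξ = y * m * z →
      m ∈ P := by
    intro ξ y m z h1 h2 hy hz hm e
    obtain ⟨h5, h6⟩ := form_fix D ha hg hy hz hm (e ▸ h2)
    have h7 : m = y⁻¹ * ξ * z⁻¹ := by rw [e]; group
    rw [h7]
    exact mul_mem (mul_mem (inv_mem (mem_sup_left ⟨h5, hy⟩)) (mem_sup_right ⟨h2, h1⟩)) (inv_mem (mem_sup_left ⟨h6, hz⟩))
  have hX : ∀ s ∈ D.X a, t * s * t⁻¹ ∈ D.X a := fun s hs => by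
    obtain ⟨s, rfl⟩ := (D.mem_X a ha _).1 hs
    rw [D.tor' ha ht]
    exact D.x_mem ha _
  have hm2 : D.Rp (D.rf a) (t * m * t⁻¹) := by
    have := ((rp_of_mem (cs := D.cs) (hN := D.nsys) ht).mul hm).mul_mem_right (inv_mem ht)
    rwa [one_mul] at this
  have m1 : m ∈ P := key (D.x_mem ha.neg u) f1 hy hz hm e
  have m2 : t * m * t⁻¹ ∈ P := key (D.x_mem ha.neg (v * u)) f2 (hX y hy) (hX z hz) hm2 (by
    rw [← htv, ← D.tor' ha.neg ht, e]; group)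
  have hPF : P ≤ fix F := sup_le inf_le_left inf_le_left
  have hmt : m * t * m⁻¹ ∈ D.T := D.conj_mem_T ⟨_, hm⟩ ht
  have hh : m * t * m⁻¹ * t⁻¹ ∈ P := by
    have := mul_mem m1 (inv_mem m2)
    simpa only [mul_inv_rev, inv_inv, mul_assoc] using this
  have hχ : D.χ a (m * t * m⁻¹ * t⁻¹) = v ^ 2 := by
    have h5 := D.χ_rp hm (-a) ht
    rw [Datum.act, map_neg, ← Datum.act, D.act_rf_self ha, neg_neg] at h5
    rw [D.χ_mul a hmt (inv_mem ht), h5, D.χ_inv a ht, ← D.χ_neg, htv, pow_two]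
  refine ⟨P, le_inf hPF (sup_le (inf_le_right.trans (RGD.le_Sup (Set.mem_insert _ _)))
    (inf_le_right.trans (RGD.le_Sup (Set.mem_insert_of_mem _ rfl)))), le_antisymm (commutator_le_self P) (sup_le ?_ ?_),
    fun h => hne ?_⟩
  · exact le_commutator D ha hg (mul_mem hmt (inv_mem ht)) (hPF hh) (by rwa [hχ]) hh le_sup_left
  · exact le_commutator D ha.neg hg' (mul_mem hmt (inv_mem ht)) (hPF hh) (by
      rw [D.χ_neg, hχ]
      exact fun h => hv2 (inv_eq_one.1 h)) hh le_sup_right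
  · have : D.x (-a) u ∈ P := mem_sup_right ⟨f1, D.x_mem ha.neg u⟩
    rwa [h, mem_bot] at this

theorem exists_perfect {a : D.I → ℤ} (ha : D.Rt a) (hg : D.g a = a ∨ D.g a = -a) (h4 : 4 ≤ p ^ D.ex a) :
    ∃ P : Subgroup Y, P ≤ fix F ⊓ D.S {a, -a} ∧ ⁅P, P⁆ = P ∧ P ≠ ⊥ := by
  rcases hg with hg | hg
  · exact exists_perfect_pos D ha hg h4
  have hA : ∀ b ∈ ({a, -a} : Set (D.I → ℤ)), D.Rt b := by
    rintro _ (rfl | rfl)
    exacts [ha, ha.neg]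
  obtain ⟨m, hm1, hm⟩ := D.exists_rp_rf ha
  have h5 : D.X a ⊔ D.X (-a) ≤ D.S {a, -a} :=
    sup_le (RGD.le_Sup (Set.mem_insert _ _)) (RGD.le_Sup (Set.mem_insert_of_mem _ rfl))
  have h6 : m ∈ D.T ⊔ D.S {a, -a} := (sup_le_sup_left h5 D.T) hm1
  have h7 : ∀ b ∈ ({a, -a} : Set (D.I → ℤ)), D.g b ∈ ({a, -a} : Set (D.I → ℤ)) := by
    rintro _ (rfl | rfl)
    · exact Or.inr hg
    · exact Or.inl (by rw [D.g_neg ha, hg, neg_neg])
  obtain ⟨y, hy, e⟩ := D.lang_TS hA h7 h6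
  have h8 : D.T ⊔ D.S {a, -a} ≤ G := sup_le D.T_le_G (D.S_le_G hA)
  have h9 : D.T ⊔ D.S {a, -a} ≤ normalizer (D.S {a, -a} : Set Y) := sup_le (D.T_le_normalizer hA) le_normalizer
  have hF : y⁻¹ * F y ∈ D.NN := ⟨_, e ▸ hm⟩
  have h10 : (D.conj (h8 hy) hF).g a = a := by
    rw [D.conj_g (h8 hy) hF, ← e, Datum.Rp.pr_eq hm, hg, Datum.act, map_neg, ← Datum.act, D.act_rf_self ha, neg_neg]
  have h11 : (D.conj (h8 hy) hF).S {a, -a} = D.S {a, -a} :=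
    (D.conj_S (h8 hy) hF _).trans (mem_normalizer_iff_cj.1 (h9 hy))
  obtain ⟨P, h1, h2⟩ := exists_perfect_pos (D.conj (h8 hy) hF) (a := a) ha h10 h4
  exact ⟨P, h1.trans (inf_le_inf_left _ h11.le), h2⟩

theorem pow_mem (i : ℕ) {a : D.I → ℤ} (ha : D.Rt a) {y : Y} (hy : y ∈ D.S {a, -a}) :
    (F ^ i) y ∈ D.X (D.g^[i] a) ⊔ D.X (-D.g^[i] a) := by
  induction i with
  | zero => exact (RGD.Sup_le (K := D.X a ⊔ D.X (-a)) (by
      rintro _ (rfl | rfl)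
      exacts [le_sup_left, le_sup_right])) hy
  | succ i ih =>
    have hr := D.iterate_g_root i ha
    have h1 : D.X (D.g^[i] a) ⊔ D.X (-D.g^[i] a) ≤
        (D.X (D.g^[i + 1] a) ⊔ D.X (-D.g^[i + 1] a)).comap F.toMonoidHom := by
      rw [Function.iterate_succ_apply']
      refine sup_le (fun u hu => mem_sup_left (D.F_mem_X hr hu)) fun u hu => mem_sup_right ?_
      exact D.g_neg hr ▸ D.F_mem_X hr.neg hu
    rw [pow_succ']
    exact h1 ih

end NS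

/-- **[NS]** -/
theorem boxNS : BoxNS := by
  intro p _ k _ _ _ Y _ N _ _ ρ F G D n j a hex ha hj h4 hg hc
  obtain ⟨P, h1, h2, h3⟩ := NS.exists_perfect (D.pow hj) (a := a) ha hg (by
    change 4 ≤ p ^ ∑ i ∈ Finset.range j, D.ex (D.g^[i] a)
    rwa [Finset.sum_congr rfl fun i _ => hex _ (D.iterate_g_root i ha), Finset.sum_const, Finset.card_range,
      smul_eq_mul, mul_comm, pow_mul])
  refine NS.not_solvable F hj h2 h3 (fun y hy => (h1 hy).1) (fun i hi i' hi' hne y hy z hz =>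
    (hc i hi i' hi' hne).2 _ (NS.pow_mem D i ha (h1 hy).2) _ (NS.pow_mem D i' ha (h1 hz).2)) fun i hi y hy => ?_
  exact (sup_le (RGD.le_Sup (S := {c | ∃ i < j, c = D.g^[i] a ∨ c = -D.g^[i] a}) ⟨i, hi, Or.inl rfl⟩)
    (RGD.le_Sup (S := {c | ∃ i < j, c = D.g^[i] a ∨ c = -D.g^[i] a}) ⟨i, hi, Or.inr rfl⟩)) (NS.pow_mem D i ha (h1 hy).2)

end Cfsg.Agent.SB.Low

private theorem dce_a8df4617ded2 : _root_.True := by
  try have : _root_.True := by simp only [_root_.Cfsg.Agent.SB.Low.NS.nm.eq_1]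
  exact _root_.True.intro
end

-- part: SB/Low/TabG
section
set_option linter.all false
open scoped Cfsg.Agent.FastGrp

/-!
# S5765 : root tables for `G₂` (helper61)

`boxTabG : BoxTabG`.
-/

set_option autoImplicit false
set_option linter.unusedSectionVars false

namespace Cfsg.Agent.SB.Low

open Subgroup Cfsg Cfsg.Lie CoxeterSystem
open Cfsg.Agent.ChevalleyStructure.CoxeterGeom Cfsg.Agent.ChevalleyStructure.CoxeterGeomTypes Cfsg.Agent.Tits.Roots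
  Cfsg.Agent.Nodes.Reps Cfsg.Agent.Nodes.Coroot Cfsg.Agent.Nodes.RGDChev Cfsg.Lie.ChevalleyDatum

namespace Tab.G

/-- two integers -/
abbrev T2 : Type := ℤ × ℤ

/-- the images of the two simple roots -/
abbrev M2 : Type := T2 × T2

/-- the tuple -/
def vt (x : Fin 2 → ℤ) : T2 := (x 0, x 1)

/-- the vector -/
def tv (x : T2) : Fin 2 → ℤ := ![x.1, x.2]

theorem tv_vt (x : Fin 2 → ℤ) : tv (vt x) = x := by
  funext i; fin_cases i <;> rfl

theorem vt_inj : Function.Injective vt := fun x y e => by rw [← tv_vt x, e, tv_vt]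

theorem vt_add (x y : Fin 2 → ℤ) : vt (x + y) = vt x + vt y := rfl
theorem vt_sub (x y : Fin 2 → ℤ) : vt (x - y) = vt x - vt y := rfl
theorem vt_neg (x : Fin 2 → ℤ) : vt (-x) = -vt x := rfl
theorem vt_smul (c : ℤ) (x : Fin 2 → ℤ) : vt (c • x) = c • vt x := rfl

/-- the invariant form -/
def bf (x y : T2) : ℤ := 2 * x.1 * y.1 - 3 * x.1 * y.2 - 3 * x.2 * y.1 + 6 * x.2 * y.2

/-- the determinant -/
def dt (x y : T2) : ℤ := x.1 * y.2 - x.2 * y.1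

/-- the action of a matrix -/
def ap (m : M2) (x : T2) : T2 := (x.1 * m.1.1 + x.2 * m.2.1, x.1 * m.1.2 + x.2 * m.2.2)

/-- the reflection -/
def rf (c x : T2) : T2 := x - (2 * bf x c / bf c c) • c

/-- the product with a reflection -/
def rm (c : T2) (m : M2) : M2 := (rf c m.1, rf c m.2)

/-- non-negative vectors -/
def pos (x : T2) : Bool := decide (0 ≤ x.1) && decide (0 ≤ x.2)

/-- the roots -/
def RL : List T2 :=
  [(-3, -2), (-3, -1), (-2, -1), (-1, -1), (-1, 0), (0, -1), (0, 1), (1, 0), (1, 1), (2, 1), (3, 1), (3, 2)]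

/-- the Weyl group by reflection length, with a root `c` and a vector `x` such that `(m - 1) x = 4 c` -/
def PL : List (M2 × T2 × T2) :=
  [(((1, 0), (0, 1)), (-3, -2), (-3, -2)),
   (((-2, -1), (3, 2)), (3, 1), (-4, 0)),
   (((-1, -1), (0, 1)), (2, 1), (-4, 0)),
   (((-1, 0), (3, 1)), (1, 0), (-2, 0)),
   (((1, 0), (-3, -1)), (3, 2), (0, -4)),
   (((1, 1), (0, -1)), (0, 1), (0, -2)),
   (((2, 1), (-3, -2)), (-1, -1), (-1, 1)),
   (((-2, -1), (3, 1)), (3, 1), (-4, 0)),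
   (((-1, -1), (3, 2)), (2, 1), (-4, 0)),
   (((-1, 0), (0, -1)), (1, 0), (-2, 0)),
   (((1, 1), (-3, -2)), (0, -1), (-4, 0)),
   (((2, 1), (-3, -1)), (-1, -1), (-4, 0))]

/-- the Weyl group -/
def WL : List M2 := PL.map Prod.fst

theorem vec_mem : ∀ s < 12, vt (vec chevG2 2 s) ∈ RL := by decide +kernel

theorem mem_vec : ∀ x ∈ RL, ∃ s < 12, vt (vec chevG2 2 s) = x := by decide +kernel

theorem cartan_eq : ∀ i j : Fin 2, cartanOf chevG2 2 i j = (![![2, -3], ![-1, 2]] : Fin 2 → Fin 2 → ℤ) i j := by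
  decide +kernel

theorem chk_bf : ∀ c ∈ RL, bf c c ≠ 0 := by decide +kernel

theorem chk_W : ∀ m ∈ WL, ∀ i : Fin 2, rm (vt (sr i)) m ∈ WL := by decide +kernel

theorem chk_pp : ∀ p ∈ PL, p.1 = ((1, 0), (0, 1)) ∨ (p.2.1 ∈ RL ∧ ap p.1 p.2.2 - p.2.2 = (4 : ℤ) • p.2.1 ∧
    WL.idxOf (rm p.2.1 p.1) < WL.idxOf p.1) := by decide +kernel

theorem chk_six : ∀ a ∈ RL, (RL.filter fun b => !un (dt a b)).length ≤ 6 ∧ (RL.filter fun b => dt a b == 0).length ≤ 2 ∧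
    ∀ b ∈ RL, dt a b = 0 ∨ un (dt a b) = true ∨ dt a b = 3 ∨ dt a b = -3 := by decide +kernel

theorem chk_fix : ∀ m ∈ WL, ∀ a ∈ RL, pos (ap m a) = true → pos (ap m (ap m a)) = true →
    pos (ap m (ap m (ap m a))) = true → pos a = true → ap m a = a ∨
      (a + ap m a ∈ RL ∧ ap m (a + ap m a) = a + ap m a) ∨
      (a - ap m a ∈ RL ∧ pos (a - ap m a) = true ∧ pos (ap m (a - ap m a)) = false) ∨
      (ap m a - a ∈ RL ∧ pos (ap m a - a) = true ∧ pos (ap m (ap m a - a)) = false) := by decide +kernel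

theorem chk_orth : ∀ m ∈ WL, ∀ a ∈ RL, ap m a = a → ∃ b ∈ RL, (ap m b = b ∨ ap m b = -b) ∧ dt a b = 2 := by
  decide +kernel

theorem pos_iff (x : Fin 2 → ℤ) : pos (vt x) = true ↔ 0 ≤ x := by
  rw [pos, Bool.and_eq_true, decide_eq_true_iff, decide_eq_true_iff, Pi.le_def, Fin.forall_fin_two]
  rfl

theorem cramer (a b x : Fin 2 → ℤ) : dt (vt a) (vt b) • x = dt (vt x) (vt b) • a + dt (vt a) (vt x) • b := by
  funext i
  fin_cases i <;> simp [dt, vt] <;> ring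

theorem cramer_mem {Λ : AddSubgroup (Fin 2 → ℤ)} {a b : Fin 2 → ℤ} (ha : a ∈ Λ) (hb : b ∈ Λ) (x : Fin 2 → ℤ) :
    dt (vt a) (vt b) • x ∈ Λ := cramer a b x ▸ add_mem (Λ.zsmul_mem ha _) (Λ.zsmul_mem hb _)

variable {W : Type} [Group W] [Finite W] (cs : CoxeterSystem CoxeterMatrix.G₂ W)

theorem root_iff (x : Fin 2 → ℤ) : IsRoot cs hpG2.isCartan x ↔ vt x ∈ RL := by
  rw [isRoot_iff hpG2 cs]
  constructor
  · rintro ⟨s, hs, rfl⟩
    exact vec_mem s hs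
  · intro h
    obtain ⟨s, hs, h1⟩ := mem_vec _ h
    exact ⟨s, hs, vt_inj h1⟩

theorem bf_rep (w : W) (x y : Fin 2 → ℤ) :
    bf (vt (rep cs hpG2.isCartan w x)) (vt (rep cs hpG2.isCartan w y)) = bf (vt x) (vt y) := by
  induction w using cs.simple_induction_left with
  | one => rw [map_one]; rfl
  | mul_simple_left w i ih =>
    rw [rep_mul_apply, rep_mul_apply, rep_simple, ← ih]
    generalize rep cs hpG2.isCartan w x = a
    generalize rep cs hpG2.isCartan w y = b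
    fin_cases i <;> simp [refl_apply, pairing, cartan_eq, bf, vt] <;> ring

theorem cpr_eq (x : Fin 2 → ℤ) {c : Fin 2 → ℤ} (hc : IsRoot cs hpG2.isCartan c) :
    cpr cs hpG2.isCartan x c = 2 * bf (vt x) (vt c) / bf (vt c) (vt c) := by
  obtain ⟨s, hs⟩ := exists_rf cs _ hc
  have h1 := bf_rep cs s x c
  rw [hs, hs, cpr_self cs _ hc] at h1
  have h2 : 2 * bf (vt x) (vt c) = cpr cs hpG2.isCartan x c * bf (vt c) (vt c) := by
    simp only [bf, vt, Pi.sub_apply, Pi.smul_apply, smul_eq_mul] at h1 ⊢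
    linear_combination -h1
  rw [h2, Int.mul_ediv_cancel _ (chk_bf _ ((root_iff cs c).1 hc))]

/-- the matrix -/
noncomputable def mat (w : W) : M2 := (vt (rep cs hpG2.isCartan w (sr 0)), vt (rep cs hpG2.isCartan w (sr 1)))

theorem ap_mat (w : W) (x : Fin 2 → ℤ) : vt (rep cs hpG2.isCartan w x) = ap (mat cs w) (vt x) := by
  conv_lhs => rw [Nodes.SimplyLaced.eq_sum_sr x, Fin.sum_univ_two, map_add, map_smul, map_smul]
  rfl

theorem mat_inj : Function.Injective (mat cs) := fun v w e => rep_injective cs hpG2.isCartan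
  (LinearMap.ext fun x => vt_inj (by rw [ap_mat, ap_mat, e]))

theorem mat_one : mat cs 1 = ((1, 0), (0, 1)) := by
  rw [mat, map_one]; rfl

theorem mat_mul {c : Fin 2 → ℤ} (hc : IsRoot cs hpG2.isCartan c) {s : W}
    (hs : ∀ b, rep cs hpG2.isCartan s b = b - cpr cs hpG2.isCartan b c • c) (v : W) :
    mat cs (s * v) = rm (vt c) (mat cs v) := by
  simp only [mat, rep_mul_apply, hs, cpr_eq cs _ hc]
  rfl

theorem mat_mem (w : W) : mat cs w ∈ WL := by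
  induction w using cs.simple_induction_left with
  | one => rw [mat_one]; decide +kernel
  | mul_simple_left w i ih =>
    rw [mat_mul cs (isRoot_sr cs _ i) (simple_rf cs _ i)]
    exact chk_W _ ih i

theorem rg : RG cs hpG2.isCartan where
  cardI := rfl
  cardW := by
    rw [← Set.ncard_univ]
    exact ncard_le (mat_inj cs) WL (by decide +kernel) fun w _ => mat_mem cs w
  pp := pp_of cs _ (fun v => WL.idxOf (mat cs v)) fun v => by
    obtain ⟨p, hp, e⟩ := List.mem_map.1 (mat_mem cs v)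
    rcases chk_pp p hp with h | ⟨h1, h2, h3⟩
    · exact Or.inl (mat_inj cs (by rw [← e, h, mat_one]))
    · have hc := (root_iff cs (tv p.2.1)).2 h1
      refine Or.inr ⟨tv p.2.1, tv p.2.2, hc, vt_inj ?_, fun s hs => ?_⟩
      · rw [vt_sub, ap_mat, ← e]
        exact h2
      · rw [mat_mul cs hc hs, ← e]
        exact h3
  six := fun Λ hΛ ⟨x, hx⟩ => by
    rcases (Ps cs hpG2.isCartan Λ).eq_empty_or_nonempty with e | ⟨a, ha⟩
    · rw [e, Set.ncard_empty]; norm_num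
    refine ncard_le vt_inj _ (chk_six _ ((root_iff cs a).1 ha.1)).1 fun b hb =>
      List.mem_filter.2 ⟨(root_iff cs b).1 hb.1, ?_⟩
    rw [Bool.not_eq_true', ← Bool.not_eq_true]
    exact fun h => hx (mem_of_un hΛ h (cramer_mem ha.2 hb.2 x))
  two := fun Λ hΛ hΛ' ⟨x, hx⟩ => by
    rcases (Ps cs hpG2.isCartan Λ).eq_empty_or_nonempty with e | ⟨a, ha⟩
    · rw [e, Set.ncard_empty]; norm_num
    have h0 := chk_six _ ((root_iff cs a).1 ha.1)
    refine ncard_le vt_inj _ h0.2.1 fun b hb => List.mem_filter.2 ⟨(root_iff cs b).1 hb.1, ?_⟩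
    have h1 := cramer_mem ha.2 hb.2 x
    rcases h0.2.2 _ ((root_iff cs b).1 hb.1) with h | h | h | h
    · exact beq_iff_eq.2 h
    · exact absurd (mem_of_un hΛ h h1) hx
    · exact absurd (hΛ' x (h ▸ h1)) hx
    · rw [h] at h1
      exact absurd (hΛ' x (by simpa using neg_mem h1)) hx
  fix := fun w Λ ⟨a, ha⟩ H => by
    wlog h0 : 0 ≤ a generalizing a
    · exact this (-a) ⟨ha.1.neg, neg_mem ha.2⟩ (ha.1.not_nonneg_iff_neg.1 h0)
    have h1 := H a ha h0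
    have h2 := H _ ⟨ha.1.act w, h1.1⟩ h1.2
    have h3 := H _ ⟨(ha.1.act w).act w, h2.1⟩ h2.2
    have h4 := chk_fix _ (mat_mem cs w) _ ((root_iff cs a).1 ha.1)
    simp only [← ap_mat, ← vt_add, ← vt_sub, ← root_iff cs, ← Bool.not_eq_true, pos_iff, vt_inj.eq_iff] at h4
    rcases h4 h1.2 h2.2 h3.2 h0 with h | h | h | h
    · exact ⟨a, ha, h⟩
    · exact ⟨_, ⟨h.1, add_mem ha.2 h1.1⟩, h.2⟩
    · exact absurd (H _ ⟨h.1, sub_mem ha.2 h1.1⟩ h.2.1).2 h.2.2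
    · exact absurd (H _ ⟨h.1, sub_mem h1.1 ha.2⟩ h.2.1).2 h.2.2
  orth := fun w a ha h => by
    obtain ⟨b, hb, h1, h2⟩ := chk_orth _ (mat_mem cs w) _ ((root_iff cs a).1 ha) (by rw [← ap_mat, h])
    refine ⟨tv b, (root_iff cs _).2 hb, h1.imp (fun e => vt_inj ?_) (fun e => vt_inj ?_), fun x => ?_⟩
    · rw [ap_mat]; exact e
    · rw [ap_mat]; exact e
    · rw [← h2]
      exact ⟨_, _, cramer a (tv b) x⟩

end Tab.G

theorem boxTabG : BoxTabG :=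
  have := finite_W hpG2 CoxeterMatrix.G₂.toCoxeterSystem
  Tab.G.rg _

end Cfsg.Agent.SB.Low

private theorem dce_9da4374560a7 : _root_.True := by
  try have : _root_.True := by simp only [_root_.Cfsg.Agent.SB.Low.Tab.G.mat.eq_1]
  try have : _root_.True := by simp only [_root_.Cfsg.Agent.SB.Low.Tab.G.pos.eq_1]
  try have : _root_.True := by simp only [_root_.Cfsg.Agent.SB.Low.Tab.G.vt.eq_1]
  try have : _root_.True := by simp only [_root_.Cfsg.Agent.SB.Low.Tab.G.dt.eq_1]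
  try have : _root_.True := by simp only [_root_.Cfsg.Agent.SB.Low.Tab.G.bf.eq_1]
  exact _root_.True.intro
end

-- part: SB/Low/Ext_mg
section
set_option linter.all false
open scoped Cfsg.Agent.FastGrp

-- part: SB/Low/Ext
section
/-!
# S5765, `G₂(q)` and `³D₄(q)`: centralisers of type `A₂` (helper52)

* `ExtL.he_grp`, `ExtL.he_of_solv` : coprime action on the Fitting subgroup;
* `boxExt`.
-/

set_option autoImplicit false
set_option linter.unusedSectionVars false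

namespace Cfsg.Agent.SB.Low

open Subgroup Cfsg CoxeterSystem Cfsg.Agent.ChevalleyStructure.CoxeterGeom Cfsg.Agent.Tits.Roots Cfsg.Agent.Nodes.Reps
  Cfsg.Agent.Nodes.BNOf Cfsg.Agent.Nodes.Coroot Cfsg.Agent.DL.Base Cfsg.Agent.DL Cfsg.Agent.BpExc.Zc
  Cfsg.Agent.SB.Exc.Max
open scoped commutatorElement

namespace ExtL

theorem eq_one_of_pow {H : Type*} [Group H] [Finite H] {p : ℕ} [hp : Fact p.Prime] {Q : Subgroup H}
    (hQ : ¬ p ∣ Nat.card Q) {c : H} (hc : c ∈ Q) {j : ℕ} (h : c ^ p ^ j = 1) : c = 1 :=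
  orderOf_eq_one_iff.1 (Nat.eq_one_of_dvd_coprimes (Nat.Coprime.pow_left j ((Nat.Prime.coprime_iff_not_dvd hp.out).2 hQ))
    (orderOf_dvd_of_pow_eq_one h) (orderOf_dvd_natCard Q hc))

/-- coprime action of `E_{p²} ≤ L` on `F(H) ⊓ L`, `L` a normal subgroup of the solvable group `H` -/
theorem he_grp {H : Type*} [Group H] [Finite H] [Group.IsSolvable H] {p : ℕ} [hp : Fact p.Prime]
    (hF : ¬ p ∣ Nat.card (fittingSubgroup H)) {L : Subgroup H} (hL : L.Normal) {a e : H} (ha : a ∈ L) (hap : a ^ p = 1)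
    (hep : e ^ p = 1) (h1 : a ≠ 1) (hc : a * e = e * a) (hz : e ∉ zpowers a) :
    ∃ e' ∈ closure {a, e}, e' ≠ 1 ∧ ∃ f ∈ L, f * e' = e' * f ∧ ∀ j : ℕ, (a⁻¹ * (f * a * f⁻¹)) ^ p ^ j ≠ 1 := by
  by_contra h
  push Not at h
  have hN := S0044.fittingSubgroup_normal H
  have hcm : IsMulCommutative (closure ({a, e} : Set H)) := isMulCommutative_closure (by
    rintro _ (rfl | rfl) _ (rfl | rfl)
    exacts [rfl, hc, hc.symm, rfl])
  have hV : ∀ v ∈ closure ({a, e} : Set H), v ^ p = 1 := fun v hv => by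
    induction hv using closure_induction with
    | mem x hx => rcases hx with rfl | rfl <;> assumption
    | one => exact one_pow p
    | mul x y hx hy h1 h2 => rw [Commute.mul_pow (setLike_mul_comm hx hy), h1, h2, mul_one]
    | inv x hx h1 => rw [inv_pow, h1, inv_one]
  have ha' : a ∈ closure ({a, e} : Set H) := subset_closure (Or.inl rfl)
  have hnc : ¬ IsCyclic (closure ({a, e} : Set H)) := fun h2 => by
    have h3 : Nat.card (closure ({a, e} : Set H)) ∣ p := by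
      rw [← IsCyclic.exponent_eq_card, Monoid.exponent_dvd_iff_forall_pow_eq_one]
      exact fun v => Subtype.ext (hV v v.2)
    have h4 : (⟨a, ha'⟩ : closure ({a, e} : Set H)) ≠ 1 := fun e => h1 (congrArg Subtype.val e)
    rcases (Nat.dvd_prime hp.out).1 h3 with h5 | h5
    · exact h4 ((Nat.card_eq_one_iff_unique.1 h5).1.elim _ _)
    · obtain ⟨i, hi⟩ := mem_zpowers_of_prime_card h5 h4 (g' := ⟨e, subset_closure (Or.inr rfl)⟩)
      exact hz ⟨i, congrArg Subtype.val hi⟩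
  obtain ⟨n, hn⟩ := IsPGroup.iff_card.1 (show IsPGroup p (closure ({a, e} : Set H)) from fun v =>
    ⟨1, Subtype.ext (by rw [pow_one]; exact hV v v.2)⟩)
  have hQ : ¬ p ∣ Nat.card ↥(fittingSubgroup H ⊓ L) := fun h2 => hF (h2.trans (card_dvd_of_le inf_le_left))
  have h2 := S0058.result (closure {a, e}) (fittingSubgroup H ⊓ L) hnc (le_normalizer_of_normal.trans' le_top) (by
    rw [hn]; exact Nat.Coprime.pow_left n ((Nat.Prime.coprime_iff_not_dvd hp.out).2 hQ))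
  have hm : ∀ f ∈ fittingSubgroup H, a⁻¹ * (f * a * f⁻¹) ∈ fittingSubgroup H ⊓ L := fun f hf =>
    mem_inf.2 ⟨by rw [← mul_assoc, ← mul_assoc]; exact mul_mem (hN.conj_mem' f hf a) (inv_mem hf),
      mul_mem (inv_mem ha) (hL.conj_mem a ha f)⟩
  have h3 : fittingSubgroup H ⊓ L ≤ centralizer {a} := by
    rw [← h2]
    refine iSup_le fun e' => iSup_le fun he' f hf => ?_
    obtain ⟨j, hj⟩ := h e' he'.1 he'.2 f hf.1.2 (mem_centralizer_singleton_iff.1 hf.2)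
    have h4 := eq_one_of_pow hQ (hm f hf.1.1) hj
    rw [inv_mul_eq_one, eq_mul_inv_iff_mul_eq] at h4
    exact mem_centralizer_singleton_iff.2 h4.symm
  refine h1 (eq_one_of_pow hF (S0044.result fun f hf => ?_) (j := 1) (by rwa [pow_one]))
  have h4 : Commute (a⁻¹ * (f * a * f⁻¹)) a := mem_centralizer_singleton_iff.1 (h3 (hm f hf))
  have h5 : (a⁻¹ * (f * a * f⁻¹)) ^ p ^ 1 = 1 := by
    have h6 := h4.symm.mul_pow p
    rwa [mul_inv_cancel_left, conj_pow, hap, mul_one, mul_inv_cancel, one_mul, eq_comm, ← pow_one p] at h6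
  have h6 := eq_one_of_pow hQ (hm f hf) h5
  rw [inv_mul_eq_one, eq_mul_inv_iff_mul_eq] at h6
  exact h6.symm

/-- `HE` for a subgroup `M` normalised by `C ≥ M`, `C ^ F` solvable with `O_p = 1` -/
theorem he_of_solv {Y : Type} [Group Y] {p : ℕ} [Fact p.Prime] {F : MulAut Y} {C M : Subgroup Y} [Finite ↥(fix F ⊓ C)]
    (hs : Group.IsSolvable ↥(fix F ⊓ C)) (hF : ¬ p ∣ Nat.card (fittingSubgroup ↥(fix F ⊓ C))) (hM : M ≤ C)
    (hn : ∀ c ∈ C, ∀ m ∈ M, c * m * c⁻¹ ∈ M) : HE p F M := by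
  intro a ha e he hFa hFe hap hep h1 hc hz
  obtain ⟨e', h2, h3, f, h4, h5, h6⟩ := he_grp hF (L := M.subgroupOf (fix F ⊓ C))
    ⟨fun m hm c => hn c c.2.2 m hm⟩ (a := ⟨a, hFa, hM ha⟩) (e := ⟨e, hFe, hM he⟩) ha (Subtype.ext hap) (Subtype.ext hep)
    (fun h => h1 (congrArg Subtype.val h)) (Subtype.ext hc) (fun ⟨i, hi⟩ => hz ⟨i, congrArg Subtype.val hi⟩)
  refine ⟨e', ?_, fun h => h3 (Subtype.ext h), f, h4, f.2.1, congrArg Subtype.val h5, fun j h => h6 j (Subtype.ext h)⟩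
  have h7 := mem_map_of_mem (fix F ⊓ C).subtype h2
  rwa [MonoidHom.map_closure, Set.image_pair] at h7

variable {p : ℕ} [Fact p.Prime] {k : Type} [Field k] [CharP k p] {Y : Type} [Group Y] {N : Type} [Fintype N]
  [DecidableEq N] {ρ : Y →* GL N k} {F : MulAut Y} {G : Subgroup Y} [IsAlgClosed k] {D : Datum p ρ F G}

theorem ex_pos {a : D.I → ℤ} (ha : D.Rt a) (hg : D.g a = a) : 0 < D.ex a := by
  by_contra h
  obtain ⟨d, e, H⟩ := D.exists_split'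
  obtain ⟨c, -, hc⟩ := D.F_pow_x d ha
  have h1 : ∀ u : k, u ^ p ^ e = c * u := fun u => D.x_inj a ha (by
    rw [← H.x a ha, hc, Function.iterate_fixed hg, Finset.sum_eq_zero fun i _ => by
      rw [Function.iterate_fixed hg]; omega, pow_zero, pow_one])
  have h2 := h1 1
  rw [one_pow, mul_one] at h2
  refine Set.infinite_univ ((finite_pow_eq (k := k) H.e_pos).subset fun u _ => ?_)
  show u ^ _ = u
  rw [h1, ← h2, one_mul]

theorem dc_of_rd (H : RD D.cs D.h) : DC D.cs D.h D.X := fun a b ha hb h0 u hu v hv => by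
  by_cases h1 : a = b
  · subst h1
    exact x_comm ha hu hv
  have h2 : a ≠ -b := fun e => by
    rw [neg_eq_iff_eq_neg.1 e.symm, cpr_neg', cpr_self _ _ ha] at h0
    omega
  exact commutatorElement_eq_one_iff_mul_comm.1 (mem_bot.1 (RGD.Sup_le (K := ⊥)
    (fun c hc => (H.btw0 a b c ha hb h1 h0 hc).elim) (D.comm ha hb h1 h2 hu hv)))

theorem commZ_of_rd (H : RD D.cs D.h) : CommZ D.cs D.h D.X := fun a b ha hb h1 h2 u hu v hv => by
  refine RGD.Sup_mono (fun c hc => ?_) (D.comm ha hb h1 h2 hu hv)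
  have h3 : cpr D.cs D.h b a < 0 := not_le.1 fun h => H.btw0 a b c ha hb h1 h hc
  have h4 := cpr_mul_lt ha hb h1 h2
  rw [H.symm a b ha hb] at h4
  exact ⟨hc.1, 1, 1, one_pos, one_pos, by
    rw [one_smul, one_smul]; exact (H.btw1 a b c ha hb (by nlinarith)).1 hc⟩

theorem conj_mem_Sz {Z : Set Y} (hZ : Z ⊆ D.T) {y : Y} (hy : y ∈ G) (hc : y ∈ centralizer Z) {u : Y}
    (hu : u ∈ D.S (D.Sz Z)) : y * u * y⁻¹ ∈ D.S (D.Sz Z) := by
  obtain ⟨c, h1, m, ⟨w, hm⟩, h2, rfl⟩ := D.exists_cen_form hZ hy hc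
  have h3 := D.conj_mem_S hm D.Sz_root (fun a ha => D.act_mem_Sz hZ hm h2 ha) hu
  have h4 := mul_mem (mul_mem h1 h3) (inv_mem h1)
  convert h4 using 1
  group

theorem ex_eq {a b : D.I → ℤ} (ha : D.Rt a) (hb : D.Rt b) (hab : D.Rt (a + b)) (h1 : cpr D.cs D.h b a = -1)
    (h2 : cpr D.cs D.h a b = -1) (hg : D.g (a + b) = D.g a + D.g b) : D.ex a = D.ex (a + b) ∧ D.ex b = D.ex (a + b) := by
  have h3 := D.ψ_g hab
  rw [hg, map_add, D.ψ_g ha, D.ψ_g hb] at h3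
  have h4 := congrArg (fun x => cpr D.cs D.h x a) h3
  have h5 := congrArg (fun x => cpr D.cs D.h x b) h3
  simp only [cpr_add', cpr_smul', h1, h2, cpr_self _ _ ha, cpr_self _ _ hb] at h4 h5
  have h6 : Function.Injective fun n : ℕ => (p : ℤ) ^ n :=
    pow_right_injective₀ (by exact_mod_cast (Fact.out : p.Prime).pos) (by exact_mod_cast (Fact.out : p.Prime).ne_one)
  exact ⟨h6 (by simp only; omega), h6 (by simp only; omega)⟩

end ExtL

open ExtL in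
theorem boxExt : BoxExt := by
  intro p _ k _ _ _ Y _ N _ _ ρ F D Z a b H hZ hfix ha hb a0 b0 h1 hS hg hc hs
  by_contra hp
  have := D.amb.finite_fix
  have : Finite ↥(fix F ⊓ centralizer Z) := Finite.of_injective _ (inclusion_injective inf_le_left)
  have hE : HE p F (D.S (D.Sz Z)) := he_of_solv hs hp ((D.S_le_cen Z).trans (D.cen_le_centralizer hZ))
    fun c hc m hm => conj_mem_Sz hZ (mem_top c) hc hm
  have hF : ∀ c ∈ D.Sz Z, D.g c ∈ D.Sz Z := fun c hc => D.g_mem_Sz hZ (fun z hz => by rwa [hfix z hz]) hc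
  have h2 : cpr D.cs D.h a b = -1 := by rw [H.symm a b ha hb, h1]
  have ma : a ∈ D.Sz Z := by rw [hS]; simp [A2]
  have mθ : a + b ∈ D.Sz Z := by rw [hS]; simp [A2]
  have hg' : D.g (a + b) = D.g a + D.g b := by
    rcases hc with ⟨e1, e2⟩ | ⟨e1, e2, -⟩ <;> rw [hg, e1, e2]
    exact add_comm a b
  obtain ⟨e1, e2⟩ := ex_eq ha hb mθ.1 h1 h2 hg'
  have pos : ∀ c ∈ D.Sz Z, 0 ≤ c → c = a ∨ c = b ∨ c = a + b := fun c hc c0 => by
    have hr := hc.1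
    rw [hS] at hc
    rcases hc with h | h | h | h | h | h
    exacts [Or.inl h, Or.inr (Or.inl h), Or.inr (Or.inr h), absurd h (ne_neg_of_nonneg hr c0 a0),
      absurd h (ne_neg_of_nonneg hr c0 b0), absurd h (ne_neg_of_nonneg hr c0 (add_nonneg a0 b0))]
  have hex : ∀ c ∈ D.Sz Z, D.ex c = D.ex (a + b) := fun c hc => by
    rw [hS] at hc
    rcases hc with rfl | rfl | rfl | rfl | rfl | rfl
    exacts [e1, e2, rfl, (D.ex_neg ha).trans e1, (D.ex_neg hb).trans e2, D.ex_neg mθ.1]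
  have hqs : (D.sub hZ hF rfl).QS := fun c hc' h0 => by
    rw [← io_nonneg hZ hF rfl ((D.sub hZ hF rfl).g_root c hc'), D.sub_g hZ hF rfl hc']
    rcases pos _ (io_mem hZ hF rfl hc') ((io_nonneg hZ hF rfl hc').2 h0) with e | e | e <;> rw [e]
    · rcases hc with ⟨e1, -⟩ | ⟨e1, -⟩ <;> rwa [e1]
    · rcases hc with ⟨-, e1⟩ | ⟨-, e1, -⟩ <;> rwa [e1]
    · rw [hg]
      exact add_nonneg a0 b0
  obtain ⟨θ, hθ, eθ⟩ := exists_io hZ hF rfl mθ
  obtain ⟨s, hs', es⟩ := exists_io hZ hF rfl ma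
  have ec : EC (D.sub hZ hF rfl) (D.ex (a + b)) θ := shape_qs hqs (ex_pos mθ.1 hg)
    (fun c hc => hex _ (io_mem hZ hF rfl hc)) (commZ_sub hZ hF rfl (commZ_of_rd H)) (by rwa [sub_S_roots])
    (Q := fun _ => True) (fun _ _ _ => trivial) (fun c hc _ d hd => dc_sub hZ hF rfl (dc_of_rd H) c d hc hd) hθ trivial
    ((dom_iff hZ hF rfl).2 fun c hc => by
      rw [eθ]
      rcases pos c hc.2 hc.1.2 with e | e | e <;> rw [e]
      · rw [cpr_add', cpr_self _ _ ha]; omega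
      · rw [cpr_add', cpr_self _ _ hb]; omega
      · rw [cpr_self _ _ mθ.1]; omega)
  obtain ⟨h3, -, -, -, -, h4, -⟩ := ec.nb (s := s) ((io_mem_nb hZ hF rfl hθ).1 (by
    rw [eθ, es]
    exact ⟨ma, fun e => hb.ne_zero (left_eq_add.1 e), (cpr_pos_comm mθ.1 ha).1 (by
      rw [cpr_add', cpr_self _ _ ha]; omega)⟩))
  rcases hc with ⟨e3, -⟩ | ⟨-, -, e3⟩
  · have h5 := congrArg (D.io Z) h3
    rw [map_add, D.sub_g hZ hF rfl hs', eθ, es, e3, add_right_inj] at h5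
    rw [h5, cpr_self _ _ ha] at h1
    omega
  · exact e3 h4

end Cfsg.Agent.SB.Low
end

-- part: SB/Low/D42C
section
/-!
# S5765 : the centralisers of the elements of odd prime order of `³D₄(2)` (helper61)

`boxC42 : BoxC42`.
-/

set_option autoImplicit false
set_option linter.unusedSectionVars false

namespace Cfsg.Agent.SB.Low

open CoxeterSystem Cfsg Cfsg.Lie Cfsg.Lie.ChevalleyDatum
open Cfsg.Agent.ChevalleyStructure Cfsg.Agent.ChevalleyStructure.Elts Cfsg.Agent.ChevalleyStructure.CoxeterGeom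
  Cfsg.Agent.ChevalleyStructure.CoxeterGeomTypes Cfsg.Agent.ChevalleyStructure.NPerm
open Cfsg.Agent.Nodes Cfsg.Agent.Nodes.RGDChev Cfsg.Agent.H972.CS.Main Cfsg.Agent.H972.CS.LinkOf
  Cfsg.Agent.H373.TS.Kc Cfsg.Agent.H373.TS.Twist Cfsg.Agent.H373.TS.D4
open Cfsg.Agent.H27.Exc

namespace C42

theorem chkQ3 : chkQ 2 3 1512 = true := by decide +kernel
theorem chkQ7 : chkQ 2 7 1512 = true := by decide +kernel
theorem chkQ13 : chkQ 2 13 1512 = true := by decide +kernel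

variable {K : Type} [Field K] [Fintype K]

theorem cent_le (hK : Fintype.card K = 8) {s B : ℕ} (hs : s.Prime) (hs2 : s ≠ 2) (hchk : chkQ 2 s B = true)
    {x : ↥(twistedD4 K 2)} (hx : orderOf x = s) : Nat.card ↥(Subgroup.centralizer {x}) ≤ B := by
  classical
  have : Fact (Nat.Prime 2) := ⟨Nat.prime_two⟩
  have : CharP K 2 := by
    obtain ⟨p, hp⟩ := CharP.exists K
    obtain ⟨n, hpp, hn⟩ := FiniteField.card K p
    have h1 : p = 2 := by
      have h2 : p ∣ 8 := by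
        rw [← hK, hn]
        exact dvd_pow_self p n.2.ne'
      have h3 : p ∣ 2 := hpp.dvd_of_dvd_pow (show p ∣ 2 ^ 3 by norm_num; exact h2)
      exact (Nat.prime_dvd_prime_iff_eq hpp Nat.prime_two).1 h3
    rwa [h1] at hp
  have hfin : Finite coxeterD4.Group := finite_W RGDTwD4.hp coxeterD4.toCoxeterSystem
  obtain ⟨f, h1, h2, w, h3, h4⟩ := bound_twD4 (q := 2) (r := 2) (n := 1) (by norm_num) (by norm_num)
    (by rw [hK]; norm_num) hs hs2 (meets4 hs.pos) (x := x) (by rw [← hx, pow_orderOf_eq_one])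
    (fun h => hs.one_lt.ne' (by rw [← hx, h, orderOf_one]))
  obtain ⟨Cw, h6, h7⟩ := val_of_chkQ (by norm_num) hchk h1 h2 h3
  exact (h4 Cw h6).trans h7

/-- the order of `³D₄(2)` -/
theorem card_G (hK : Fintype.card K = 8) : Nat.card ↥(twistedD4 K 2) = 211341312 :=
  (S1067.result (q := 2) Nat.prime_two.isPrimePow (by rw [hK]; norm_num)).trans (by norm_num)

end C42

theorem boxC42 : BoxC42 := by
  intro F _ _ hF x hp h2
  have h1 : orderOf x ∣ 2 ^ 12 * 3 ^ 4 * 7 ^ 2 * 13 := by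
    have := orderOf_dvd_natCard x
    rwa [C42.card_G hF] at this
  have e : ∀ {r k : ℕ}, r.Prime → orderOf x ∣ r ^ k → orderOf x = r := fun hr h =>
    (Nat.prime_dvd_prime_iff_eq hp hr).1 (hp.dvd_of_dvd_pow h)
  rcases (Nat.Prime.dvd_mul hp).1 h1 with h1 | h1
  · rcases (Nat.Prime.dvd_mul hp).1 h1 with h1 | h1
    · rcases (Nat.Prime.dvd_mul hp).1 h1 with h1 | h1
      · exact absurd (e Nat.prime_two h1) h2
      · exact C42.cent_le hF (by norm_num) (by norm_num) C42.chkQ3 (e (by norm_num) h1)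
    · exact C42.cent_le hF (by norm_num) (by norm_num) C42.chkQ7 (e (by norm_num) h1)
  · exact C42.cent_le hF (by norm_num) (by norm_num) C42.chkQ13
      ((Nat.prime_dvd_prime_iff_eq hp (by norm_num)).1 h1)

end Cfsg.Agent.SB.Low
end

private theorem dce_53956b500579 : _root_.True := by
  try have : _root_.True := by simp only [_root_.Cfsg.Agent.SB.Low.A2.eq_1]
  exact _root_.True.intro
end
end
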