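import Cfsg.Agent.SB.Exc.Card
import Cfsg.Agent.DL.Ex.Fin_m3
import Cfsg.Agent.DS.Nt.Kac
import Cfsg.Agent.SB.Low.TabD1_m3
import Cfsg.Agent.TAB.F22.FxB_m3
import Cfsg.Agent.H316.U6Fam_mg_m3
import Cfsg.Agent.FastGrp
import Cfsg.Agent.Prune
set_option linter.all false

section
prune_inst 0x7ffcfcf8afb8bddfffff7e7ffedbdffc1990dfffefdffd437fe9e3ff0f9f03210fc5fba70df090fc9fd6e23c10387853f97eefffeb6bdc7ffffd5ff41ffbee1ff5f6b10871949c340fbc0ffe83f17fce7f3fffffffffffffffffffffffffffffffbfffffffff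

-- part: SB/Exc/CI/Red
section
prune_inst 0x303004002200000018000240003e4692000002002b88016100030406c4af03000187205420320201182a6c00388068110000490010000000008600411c008004ea50063200b004240016808800000000000000000000000000000000000004000000000
set_option linter.all false
open scoped Cfsg.Agent.FastGrp

/-!
# S5765, exceptional groups: centralizers of semisimple elements, reduction to the torus (helper52)

* `exists_kacform` : an element of prime order is conjugate to an element of the torus in Kac form;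
* `exists_red` : the centralizer in `Y ^ σ` of `y` is the centralizer of a given conjugate of `y` in the torus for a twisted `σ`;
* `card_DZ` : the order of the finite connected centralizer;
* `card_cen` : the index of the connected centralizer.
-/

set_option autoImplicit false
set_option linter.unusedSectionVars false

namespace Cfsg.Agent.SB.Exc.CI

open CoxeterSystem Cfsg Cfsg.Lie Cfsg.Lie.ChevalleyDatum
open Cfsg.Agent.ChevalleyStructure Cfsg.Agent.ChevalleyStructure.Elts Cfsg.Agent.ChevalleyStructure.CoxeterGeom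
  Cfsg.Agent.ChevalleyStructure.CoxeterGeomTypes
open Cfsg.Agent.Tits.Roots Cfsg.Agent.Tits.Core Cfsg.Agent.Nodes Cfsg.Agent.Nodes.Reps Cfsg.Agent.Nodes.BNOf
  Cfsg.Agent.Nodes.RGDChev Cfsg.Agent.Nodes.Bruhat
open Cfsg.Agent.KFacts.RgdField Cfsg.Agent.KFacts.RgdChevCoord
open Cfsg.Agent.BpExc Cfsg.Agent.BpExc.TorCent Cfsg.Agent.BpExc.TorChev Cfsg.Agent.BpExc.Tow
  Cfsg.Agent.BpExc.TowChev Cfsg.Agent.BpExc.Fr Cfsg.Agent.BpExc.LangFr
open Cfsg.Agent.H469.Exc Cfsg.Agent.H795.SetCent Cfsg.Agent.H129.TorusChar Cfsg.Agent.DS.Ex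
open Cfsg.Agent.H931.KC Cfsg.Agent.DS.Nt

variable {D : ChevalleyDatum} {l : ℕ} {M : CoxeterMatrix (Fin l)} {hp : IsType D l M} {p : ℕ} [Fact p.Prime]
  {e : ℕ} {σ : MulAut (YY D p)} {g : (Fin l → ℤ) ≃+ (Fin l → ℤ)}

theorem fq (he : 0 < e) (hσ : IsFrob p e σ) : Card.Fq p (D.group (KK p)).subtype σ e := by
  obtain ⟨n, hn, h⟩ := Sig.exists_pow_frob (locFin p) hσ
  exact ⟨he, n, hn, fun y => by rw [mul_comm]; exact h y⟩

variable (hp) in
/-- **The Kac form.** -/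
theorem exists_kacform {r : ℕ} (hr' : r.Prime) (hrp : r ≠ p) {y : YY D p} (hy : y ^ r = 1) (h1 : y ≠ 1) :
    ∃ (x : YY D p) (ζ : KK p) (c : Fin l → ℕ) (c0 : ℕ), IsPrimitiveRoot ζ r ∧ Kac D l r c c0 ∧
      x * y * x⁻¹ ∈ TT D (KK p) ∧ (∀ a, cX hp (x * y * x⁻¹) a = ζ ^ bb c a) ∧ ¬ ∀ a, (r : ℤ) ∣ bb c a := by
  obtain ⟨z, hz⟩ := exists_conj_T hp hr' hrp (n := 1) (by rw [pow_one]; exact hy)
  obtain ⟨ζ, hζ⟩ := exists_prim (p := p) hr' hrp
  have hpow : (z * y * z⁻¹) ^ r = 1 := by rw [conj_pow, hy, mul_one, mul_inv_cancel]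
  obtain ⟨w, c, c0, K, h2, -⟩ := exists_kac' hp hr'.pos hζ hz hpow
  obtain ⟨k, h3, h4⟩ := exists_move (hp := hp) hz w
  have e1 : k * z * y * (k * z)⁻¹ = k * (z * y * z⁻¹) * k⁻¹ := by group
  rw [← e1] at h3 h4
  have h5 : ∀ x, cX hp (k * z * y * (k * z)⁻¹) x = ζ ^ bb c x := fun x => by rw [h4, h2]; rfl
  refine ⟨k * z, ζ, c, c0, hζ, K, h3, h5, fun h => h1 ?_⟩
  have h6 : k * z * y * (k * z)⁻¹ = 1 := cX_inj hp h3 (one_mem _) fun i => by
    rw [h5, cX_one, hζ.zpow_eq_one_iff_dvd]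
    exact h _
  exact conj_eq_one_iff.1 h6

/-- **The reduction to the torus.** -/
theorem exists_red (he : 0 < e) (hσ : IsFrob p e σ)
    (Φ : Fr M.toCoxeterSystem hp.isCartan (TT D (KK p)) (XX D l (KK p)) σ g) {y x : YY D p} (hy : σ y = y)
    (hx : x * y * x⁻¹ ∈ TT D (KK p)) : ∃ (σ' : MulAut (YY D p)) (w : M.Group), IsFrob p e σ' ∧
      Fr M.toCoxeterSystem hp.isCartan (TT D (KK p)) (XX D l (KK p)) σ'
        (g.trans (repAut M.toCoxeterSystem hp.isCartan w)) ∧ σ' (x * y * x⁻¹) = x * y * x⁻¹ ∧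
      Nat.card ↥(DL.fix σ ⊓ Subgroup.centralizer {y}) =
        Nat.card ↥(DL.fix σ' ⊓ Subgroup.centralizer {x * y * x⁻¹}) := by
  obtain ⟨z, -, ⟨w, hw⟩, -, h1⟩ := Max.exists_conj_le_T (DL.Ex.chevFr hp (locFin p) he hσ Φ) (Z := {y})
    (fun a ha => by rw [ha, hy]; rfl) (x := x⁻¹) (Subgroup.mem_top _) (fun a ha => by rw [ha, inv_inv]; exact hx)
  have h2 : z⁻¹ * y * z = x * y * x⁻¹ := by rw [h1 y rfl, inv_inv]
  have h3 : RP hp p w (z⁻¹ * σ z) := (DS.Nt.rp_congr (TLe hp p) _ _).2 hw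
  have h4 : ∀ c, (MulAut.conj (z⁻¹ * σ z) * σ) (z⁻¹ * c * z) = z⁻¹ * σ c * z := fun c => by
    rw [MulAut.mul_apply, MulAut.conj_apply, map_mul, map_mul, map_inv]
    group
  refine ⟨MulAut.conj (z⁻¹ * σ z) * σ, w, hσ.conj_mul _, h3.fr.mul Φ, by rw [← h2, h4, hy], ?_⟩
  have h5 : (DL.fix σ ⊓ Subgroup.centralizer {y}).map (MulAut.conj z⁻¹).toMonoidHom =
      DL.fix (MulAut.conj (z⁻¹ * σ z) * σ) ⊓ Subgroup.centralizer {x * y * x⁻¹} := by
    ext c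
    obtain ⟨c, rfl⟩ := (MulAut.conj z⁻¹).surjective c
    refine (Subgroup.mem_map_iff_mem (MulAut.conj z⁻¹).injective).trans ?_
    rw [MulAut.conj_apply, inv_inv, Subgroup.mem_inf, Subgroup.mem_inf, DL.mem_fix, DL.mem_fix, h4, ← h2,
      Subgroup.mem_centralizer_singleton_iff, Subgroup.mem_centralizer_singleton_iff]
    refine and_congr ⟨fun h => by rw [h], fun h => mul_left_cancel (mul_right_cancel h)⟩ ⟨fun h => ?_, fun h => ?_⟩
    · calc z⁻¹ * c * z * (z⁻¹ * y * z) = z⁻¹ * (c * y) * z := by group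
        _ = z⁻¹ * (y * c) * z := by rw [h]
        _ = _ := by group
    · calc c * y = z * (z⁻¹ * c * z * (z⁻¹ * y * z)) * z⁻¹ := by group
        _ = z * (z⁻¹ * y * z * (z⁻¹ * c * z)) * z⁻¹ := by rw [h]
        _ = _ := by group
  rw [← h5, Subgroup.card_map_of_injective (MulAut.conj z⁻¹).injective]

theorem ncard_Ps {t : YY D p} (ht : t ∈ TT D (KK p)) : l + (Ps hp p {t}).ncard = dd p t := by
  classical
  rw [dd_tor hp ht, ← Set.ncard_coe_finset,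
    ← Set.ncard_image_of_injective _ (f := fun s : Fin D.nroots => vec D l s) fun r s h => Fin.ext (vec_inj hp r.2 s.2 h)]
  congr 2
  ext a
  rw [mem_Ps (Set.singleton_subset_iff.2 ht)]
  constructor
  · rintro ⟨h1, h2⟩
    obtain ⟨s, hs, rfl⟩ := (isRoot_iff hp M.toCoxeterSystem a).1 h1
    exact ⟨⟨s, hs⟩, by simpa using h2, rfl⟩
  · rintro ⟨s, hs, rfl⟩
    exact ⟨isRoot_vec hp M.toCoxeterSystem s.2, by simpa using hs⟩

/-- the order of the finite connected centralizer, for an abstract datum -/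
theorem card_cen_dat {k : Type} [Field k] [CharP k p] [IsAlgClosed k] {Y : Type} [Group Y] {N : Type} [Fintype N]
    [DecidableEq N] {ρ : Y →* GL N k} {F : MulAut Y} {G : Subgroup Y} (h : Card.Fq p ρ F e) (D₀ : DL.Datum p ρ F G)
    {Z : Set Y} (hZ : Z ⊆ D₀.T) (hF : ∀ a ∈ D₀.Sz Z, D₀.g a ∈ D₀.Sz Z) :
    Nat.card ↥(DL.GF F (D₀.cen Z)) ≤ (p ^ e) ^ (D₀.Sz Z).ncard * (p ^ e + 1) ^ Fintype.card D₀.R := by
  have h1 := h.card_G (D₀.sub hZ hF rfl)
  have h2 : {a | (D₀.sub hZ hF rfl).Rt a}.ncard = (D₀.Sz Z).ncard := by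
    rw [← D₀.io_roots]
    exact (Set.ncard_image_of_injective _ (D₀.io_injective _)).symm
  rw [h2] at h1
  exact h1

/-- **The order of the finite connected centralizer.** -/
theorem card_DZ (he : 0 < e) (hσ : IsFrob p e σ)
    (Φ : Fr M.toCoxeterSystem hp.isCartan (TT D (KK p)) (XX D l (KK p)) σ g) {t : YY D p} (ht : t ∈ TT D (KK p))
    (hσt : σ t = t) {n : ℕ} (hn : dd p t ≤ l + n) :
    Nat.card ↥(DL.fix σ ⊓ DZ hp p {t}) ≤ (p ^ e) ^ n * (p ^ e + 1) ^ l := by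
  let D₀ := DL.Ex.chevFr hp (locFin p) he hσ Φ
  have hZ : ({t} : Set (YY D p)) ⊆ D₀.T := Set.singleton_subset_iff.2 ht
  have hχ : ∀ a, D₀.χ a t = cX hp t a := fun a => by
    obtain ⟨c, rfl⟩ := (DL.Ex.mem_TT_iff hp t).1 ht
    exact (D₀.χ_τ a c).trans (DL.Ex.cX_tau hp c a).symm
  have hS : D₀.Sz {t} = Ps hp p {t} := by
    ext a
    refine Iff.trans ?_ (mem_Ps (hp := hp) (a := a) (Set.singleton_subset_iff.2 ht)).symm
    refine and_congr_right fun _ => forall_congr' fun z => forall_congr' fun hz => ?_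
    rw [hz, hχ]
  have hC : D₀.cen {t} = DZ hp p {t} := by
    have h0 : D₀.cen {t} = D₀.T ⊔ D₀.S (Ps hp p {t}) := congrArg (fun A => D₀.T ⊔ D₀.S A) hS
    exact h0.trans (sup_comm _ _)
  have h1 := card_cen_dat (fq he hσ) D₀ hZ fun a => D₀.g_mem_Sz hZ fun z hz => by rw [hz, hσt]; rfl
  have h2 : (D₀.Sz {t}).ncard = (Ps hp p {t}).ncard := congrArg Set.ncard hS
  have h3 : Fintype.card D₀.R = l := Fintype.card_fin l
  have h4 := ncard_Ps (hp := hp) ht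
  rw [h2, h3, hC] at h1
  rw [inf_comm]
  exact h1.trans (Nat.mul_le_mul_right _ (Nat.pow_le_pow_right (pow_pos (Fact.out : p.Prime).pos e) (by omega)))

/-- **The index of the connected centralizer.** -/
theorem card_cen {r : ℕ} (hr' : r.Prime) (hrp : r ≠ p) {t : YY D p} (ht : t ∈ TT D (KK p)) (htr : t ^ r = 1)
    (H : Subgroup (YY D p)) : Nat.card ↥(H ⊓ Subgroup.centralizer {t}) ≤ nmk D l * Nat.card ↥(H ⊓ DZ hp p {t}) := by
  have := finW hp
  have hZ : ({t} : Set (YY D p)) ⊆ TT D (KK p) := Set.singleton_subset_iff.2 ht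
  have h1 := card_PP_le hp (cast_ne_zero hr' hrp) ht htr
  rw [card_mk] at h1
  have hle : H ⊓ DZ hp p {t} ≤ H ⊓ Subgroup.centralizer {t} :=
    inf_le_inf_left _ fun c hc => Subgroup.mem_centralizer_singleton_iff.2 (DZ_comm hZ hc rfl)
  have hform : ∀ c : ↥(H ⊓ Subgroup.centralizer {t}), ∃ w : ↥(PP M.toCoxeterSystem hp.isCartan (ch hp) t),
      ∃ m ∈ Mz hp p {t}, ∃ k, RP hp p w k ∧ (∀ s ∈ ({t} : Set (YY D p)), k * s = s * k) ∧ (c : YY D p) = m * k := fun c => by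
    obtain ⟨m, hm, w, hw, k, h2, h3, h4⟩ := form hp (Set.finite_singleton t) hZ (c := (c : YY D p)) fun s hs => by
      rw [hs]
      exact Subgroup.mem_centralizer_singleton_iff.1 c.2.2
    exact ⟨⟨w, mem_PP_of_PPZ hw⟩, m, hm, k, h2, h3, h4⟩
  choose f hf using hform
  have h2 := Card.card_le_mul ((H ⊓ DZ hp p {t}).subgroupOf (H ⊓ Subgroup.centralizer {t})) f fun a b hab => by
    obtain ⟨m, hm, k, h3, h4, h5⟩ := hf a
    obtain ⟨m', hm', k', h3', -, h5'⟩ := hf b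
    refine ⟨(a⁻¹ * b).2.1, ?_⟩
    rw [← hab] at h3'
    have h6 := h3.inv.mul h3'
    rw [inv_mul_cancel] at h6
    have h7 := h3.inv.conj_Mz hZ (fun s hs => by
      rw [inv_mul_eq_iff_eq_mul, ← mul_assoc, h4 s hs, mul_inv_cancel_right]) (mul_mem (inv_mem hm) hm')
    have e : ((a⁻¹ * b : ↥(H ⊓ Subgroup.centralizer {t})) : YY D p) = k⁻¹ * (m⁻¹ * m') * k⁻¹⁻¹ * (k⁻¹ * k') := by
      rw [Subgroup.coe_mul, Subgroup.coe_inv, h5, h5']
      group
    show ((a⁻¹ * b : ↥(H ⊓ Subgroup.centralizer {t})) : YY D p) ∈ DZ hp p {t}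
    rw [e]
    exact mul_mem (Mz_le_DZ h7) (T_le_DZ h6.mem_T)
  rw [Nat.card_congr (Subgroup.subgroupOfEquivOfLe hle).toEquiv] at h2
  exact h2.trans (Nat.mul_le_mul_right _ h1)

/-- the connected case -/
theorem cen_eq {t : YY D p} (ht : t ∈ TT D (KK p)) (h : ∀ c : YY D p, c * t = t * c → c ∈ DZ hp p {t}) :
    Subgroup.centralizer {t} = DZ hp p {t} :=
  le_antisymm (fun c hc => h c (Subgroup.mem_centralizer_singleton_iff.1 hc))
    fun _ hc => Subgroup.mem_centralizer_singleton_iff.2 (DZ_comm (Set.singleton_subset_iff.2 ht) hc rfl)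

end Cfsg.Agent.SB.Exc.CI
end

-- part: SB/Low/Odd
section
prune_inst 0x100001000400000000000000400002002000000000000000018000040000040000000800000020001000000000000048100000000000000000000000000000000040000010000000000010000000000000000000000000000000000000000000000000000
set_option linter.all false
open scoped Cfsg.Agent.FastGrp

-- part: SB/Low/Cert
section
/-!
# S5765, `G₂(q)` and `³D₄(q)`: certificates (helper68)

`Chr` lemmas, `Sit.sub`, `Cert.of_chr`, `cert_two`, `rowN_of_cert`.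
-/

set_option autoImplicit false
set_option linter.unusedSectionVars false

namespace Cfsg.Agent.SB.Low

open Subgroup Cfsg Cfsg.Agent.H786.FC

variable {K : Type} [Group K] [Finite K] {E X N : Subgroup K} {p r : ℕ}

omit [Finite K] in
theorem Chr.refl (E : Subgroup K) : Chr E E := fun _ h => h

omit [Finite K] in
theorem Chr.trans (h : Chr E X) (h' : Chr X N) : Chr E N := fun α hα => h' α (h α hα)

theorem stab_inv {α : MulAut K} (hα : ∀ x ∈ E, α x ∈ E) : ∀ x ∈ E, α⁻¹ x ∈ E := by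
  intro x hx
  have h1 : Function.Surjective fun y : E => (⟨α y, hα y y.2⟩ : E) :=
    Finite.surjective_of_injective fun a b h => Subtype.ext (α.injective (congrArg Subtype.val h))
  obtain ⟨y, hy⟩ := h1 ⟨x, hx⟩
  have h2 : α y = x := congrArg Subtype.val hy
  rw [← h2, MulAut.inv_apply_self]
  exact y.2

theorem mem_Nz {g : K} : g ∈ Nz E ↔ ∀ x ∈ E, g * x * g⁻¹ ∈ E :=
  ⟨fun h x hx => (mem_normalizer_iff.1 h x).1 hx, fun h => mem_normalizer_fintype (S := (E : Set K)) h⟩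

omit [Finite K] in
theorem mem_Cz {g : K} : g ∈ Cz E ↔ ∀ x ∈ E, x * g = g * x := mem_centralizer_iff

theorem Cz_le_Nz : Cz E ≤ Nz E := centralizer_le_normalizer _

theorem Chr.nz (h : Chr E X) : Chr E (Nz X) := fun α hα g hg => mem_Nz.2 fun x hx => by
  have h1 := h α hα _ (mem_Nz.1 hg _ (h α⁻¹ (stab_inv hα) x hx))
  simpa only [_root_.MulAut.inv_apply, _root_.map_mul, _root_.MulEquiv.apply_symm_apply, _root_.map_inv] using h1

theorem Chr.cz (h : Chr E X) : Chr E (Cz X) := fun α hα g hg => mem_Cz.2 fun x hx => by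
  have h1 := congrArg α (mem_Cz.1 hg _ (h α⁻¹ (stab_inv hα) x hx))
  simpa only [_root_.MulAut.inv_apply, _root_.map_mul, _root_.MulEquiv.apply_symm_apply] using h1

omit [Finite K] in
/-- the subgroup generated by an invariant set -/
theorem chr_closure {s : Set K} (h : ∀ α : MulAut K, (∀ x ∈ E, α x ∈ E) → ∀ x ∈ s, α x ∈ s) : Chr E (_root_.Subgroup.closure s) := by
  intro α hα
  have : closure s ≤ (closure s).comap α.toMonoidHom := (closure_le _).2 fun x hx => _root_.Subgroup.subset_closure (h α hα x hx)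
  exact fun x hx => this hx

theorem Chr.conj (h : Chr E X) {g : K} (hg : g ∈ Nz E) : ∀ x ∈ X, g * x * g⁻¹ ∈ X :=
  h (MulAut.conj g) (mem_Nz.1 hg)

theorem Chr.le_nz (h : Chr E X) : Nz E ≤ Nz X := fun _ hg => mem_Nz.2 (h.conj hg)

theorem Chr.fit (h : Chr E X) : Chr E (fit X) := by
  rintro α hα _ ⟨y, hy, rfl⟩
  let e : X ≃* X :=
    { toFun := fun a => ⟨α a, h α hα a a.2⟩
      invFun := fun a => ⟨α⁻¹ a, h α⁻¹ (stab_inv hα) a a.2⟩
      left_inv := fun a => Subtype.ext (by simp)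
      right_inv := fun a => Subtype.ext (by simp)
      map_mul' := fun a b => Subtype.ext (by simp) }
  exact ⟨e y, (Lib.Cores.map_equiv_fittingSubgroup e).le ⟨y, hy, rfl⟩, rfl⟩

/-- the `s`-elements of an invariant nilpotent subgroup -/
theorem Chr.exists_core (h : Chr E X) (hnil : Group.IsNilpotent X) {s : ℕ} (hs : s.Prime) :
    ∃ Q : Subgroup K, Q ≤ X ∧ IsPGroup s Q ∧ (∀ v ∈ X, (∃ k : ℕ, v ^ s ^ k = 1) ↔ v ∈ Q) ∧ Chr E Q := by
  obtain ⟨Q, h1, h2, h3, -⟩ := SB.exists_core hnil s hs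
  refine ⟨Q, h1, h2, h3, fun α hα x hx => ?_⟩
  obtain ⟨k, hk⟩ := (h3 x (h1 hx)).2 hx
  exact (h3 _ (h α hα x (h1 hx))).1 ⟨k, by rw [← map_pow, hk, map_one]⟩

theorem EA.le_Cz (h : EA r E) : E ≤ Cz E := fun x hx => mem_Cz.2 fun y hy => h.comm y hy x hx

theorem EA.isPGroup (h : EA r E) : IsPGroup r E := fun x => ⟨1, Subtype.ext (by simpa only [_root_.pow_one, _root_.SubmonoidClass.coe_pow, _root_.OneMemClass.coe_one] using h.pow x x.2)⟩

theorem EA.exists_ne (h : EA r E) : ∃ x ∈ E, x ≠ 1 ∧ orderOf x = r := by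
  obtain ⟨⟨x, hx⟩, h1⟩ := ne_bot_iff_exists_ne_one.1 h.ne_bot
  have h2 : x ≠ 1 := fun e => h1 (Subtype.ext e)
  have := Fact.mk h.prime
  exact ⟨x, hx, h2, orderOf_eq_prime (h.pow x hx) h2⟩

theorem Sit.nz_eq (h : Sit p r E) (hX : Chr E X) (h0 : X ≠ ⊥) (hle : X ≤ Nz E) : Nz X = Nz E :=
  le_antisymm (h.max X h0 hle hX) hX.le_nz

/-- change of the elementary abelian subgroup -/
theorem Sit.sub (h : Sit p r E) {s : ℕ} (hX : Chr E X) (hle : X ≤ Nz E) (he : EA s X) (hs : s ≠ p) : Sit p s X := by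
  have e := h.nz_eq hX he.ne_bot hle
  refine ⟨he, hs, e ▸ h.solv, fun Y h0 h1 h2 => ?_, fun Y h1 h2 h3 => ?_⟩
  · rw [e] at h1 ⊢
    exact h.max Y h0 h1 (hX.trans h2)
  · rw [e] at h1
    exact h.npar Y h1 h2 (hX.trans h3)

omit [Finite K] in
theorem Cert.of_chr {O n : ℕ} (hX : Chr E X) (e : Nz X = Nz E) (h : Cert p O n X) : Cert p O n E := by
  obtain ⟨N, h1, h2, h3⟩ := h
  rw [e] at h1 h3
  exact ⟨N, h1, hX.trans h2, h3⟩

theorem Sit.solv_of_le (h : Sit p r E) (hle : X ≤ Nz E) : Group.IsSolvable X :=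
  have := h.solv
  Group.isSolvable_of_isSolvable_injective (f := inclusion hle) (inclusion_injective _)

theorem Sit.not_dvd_fit (h : Sit p r E) (hp : p.Prime) (hX : Chr E X) (hle : X ≤ Nz E) : ¬ p ∣ Nat.card (SB.fit X) := by
  intro h1
  have _ : Fact p.Prime := ⟨hp⟩
  obtain ⟨Q, h2, h3, h4, h5⟩ := hX.fit.exists_core (fit_nilpotent X) hp
  have h6 := h.npar Q (h2.trans ((fit_le _).trans hle)) h3 h5
  obtain ⟨v, hv⟩ := exists_prime_orderOf_dvd_card' p h1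
  have h7 := (h4 v v.2).1 ⟨1, by rw [pow_one, ← hv, ← Subgroup.orderOf_coe, pow_orderOf_eq_one]⟩
  rw [h6, mem_bot] at h7
  rw [← Subgroup.orderOf_coe, h7, orderOf_one] at hv
  exact hp.one_lt.ne hv

/-- `C_R(F(R)) ≤ F(R)` -/
theorem fit_cent {R : Subgroup K} (hR : Group.IsSolvable R) : ∀ g ∈ R, (∀ v ∈ SB.fit R, g * v = v * g) → g ∈ SB.fit R := by
  intro g hg h
  have := fit_inf_cent (T := ⊤) hR g hg trivial
  rw [inf_top_eq] at this
  exact this h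

theorem le_cls_top {x : K} {m c : ℕ} (hc : cc x ≤ c) (h : m * c ≤ Nat.card K) : m ≤ cls ⊤ x := by
  have h1 := cls_mul_card ⊤ x
  rw [top_inf_eq, card_top] at h1
  have h2 : 0 < cc x := Nat.card_pos
  refine Nat.le_of_mul_le_mul_left (le_trans ?_ h1.ge) h2
  rw [mul_comm]
  exact (Nat.mul_le_mul_left _ hc).trans h

/-- the numerical conditions of `cert_two` -/
def Num (t O n ρ κ ι k₁ k₂ m₀ m₁ m₂ : ℕ) : Prop :=
  0 < m₀ ∧ 0 < m₁ ∧ 0 < m₂ ∧ (k₁ : ℚ) * ρ / m₁ + k₂ * ρ / m₂ < 1 ∧ ∃ μ e φ : ℚ, (k₁ : ℚ) / m₁ ≤ μ ∧ (k₂ : ℚ) / m₂ ≤ μ ∧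
    κ * (3 / 2 * κ * μ) + ι * ((ρ : ℚ) / m₀) ^ 2 < 1 ∧ (ρ : ℚ) / m₀ ≤ e ∧ 3 / 2 * κ * μ ≤ e ^ 2 ∧ 0 < φ ∧
    e + φ / n ≤ φ ^ 2 ∧ ((O : ℚ) - 1) * φ * t + 6 * O * ρ < t

/-- **A certificate from counts.**  The elements of prime order of `N` are sorted by their order. -/
theorem cert_two {O n ρ κ ι k₁ k₂ m₀ m₁ m₂ : ℕ} (P : ℕ → Prop) (h1 : N ≤ Nz E) (h2 : Chr E N)
    (h3 : ∀ g ∈ Nz E, (∀ v ∈ N, g * v = v * g) → g ∈ N) (h4 : ¬ p ∣ Nat.card N) (hρ : Nat.card (Nz E) ≤ ρ)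
    (hκ : kap N (Nz E) p ≤ κ) (hι : N.relIndex (Nz E) ≤ ι)
    (hk₁ : {v | v ∈ N ∧ (orderOf v).Prime ∧ P (orderOf v)}.ncard ≤ k₁)
    (hk₂ : {v | v ∈ N ∧ (orderOf v).Prime ∧ ¬ P (orderOf v)}.ncard ≤ k₂)
    (hm₀ : ∀ d ∈ Nz E, (orderOf d).Prime → orderOf d ≠ p → m₀ ≤ cls ⊤ d)
    (hm₁ : ∀ v ∈ N, (orderOf v).Prime → P (orderOf v) → m₁ ≤ cls ⊤ v)
    (hm₂ : ∀ v ∈ N, (orderOf v).Prime → ¬ P (orderOf v) → m₂ ≤ cls ⊤ v)
    (hn : Num (Nat.card K) O n ρ κ ι k₁ k₂ m₀ m₁ m₂) : Cert p O n E := by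
  classical
  obtain ⟨a0, a1, a2, a3, μ, e, φ, a4, a5, a6, a7, a8, a9, a10, a11⟩ := hn
  have hρ' : ∀ c, meet ⊤ (Nz E) c ≤ ρ := fun c => (meet_le_card _ _ c).trans hρ
  refine ⟨N, h1, h2, h3, h4, ?_, μ, ρ / m₀, e, φ, κ, ι, le_trans (by (clear * - a1; positivity)) a4, by (clear * - a0; positivity), fun v hv hp => ?_,
    fun d hd hp hp' => fp_le_div (hρ' d) (hm₀ d hd hp hp') a0, hκ, hι, a6, a7, a8, a9, a10, lt_of_le_of_lt ?_ a11⟩
  · obtain ⟨x, -, hx⟩ := exists_good_of_sum (T := ⊤) (S := Nz E) _ (primeElts_cover N)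
      (fun v => if P (orderOf v) then (ρ : ℚ) / m₁ else (ρ : ℚ) / m₂) (fun c hc => meet_le_of_fp (by
        obtain ⟨b1, b2⟩ := mem_primeElts.1 hc
        split_ifs with b4
        exacts [fp_le_div (hρ' c) (hm₁ c b1 b2 b4) a1, fp_le_div (hρ' c) (hm₂ c b1 b2 b4) a2])) (by
        rw [Finset.sum_ite, Finset.sum_const, Finset.sum_const, nsmul_eq_mul, nsmul_eq_mul]
        have key : ∀ (Q : ℕ → Prop) [DecidablePred Q] (k : ℕ),
            {v | v ∈ N ∧ (orderOf v).Prime ∧ Q (orderOf v)}.ncard ≤ k →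
            ((((primeElts N).filter fun v => Q (orderOf v)).card : ℕ) : ℚ) ≤ k := by
          intro Q _ k hk
          have b2 : ((primeElts N).filter fun v => Q (orderOf v)).card ≤
              {v | v ∈ N ∧ (orderOf v).Prime ∧ Q (orderOf v)}.ncard := by
            rw [← Set.ncard_coe_finset]
            exact Set.ncard_le_ncard (fun v hv => by
              obtain ⟨c1, c2⟩ := Finset.mem_filter.1 (Finset.mem_coe.1 hv)
              exact ⟨(mem_primeElts.1 c1).1, (mem_primeElts.1 c1).2, c2⟩) (Set.toFinite _)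
          exact_mod_cast b2.trans hk
        have b1 := key P k₁ hk₁
        have b2 := key (fun s => ¬ P s) k₂ hk₂
        rw [mul_div_assoc, mul_div_assoc] at a3
        refine lt_of_le_of_lt ?_ a3
        gcongr)
    exact ⟨x, hx⟩
  · have key : ∀ (Q : ℕ → Prop) (k : ℕ), {v | v ∈ N ∧ (orderOf v).Prime ∧ Q (orderOf v)}.ncard ≤ k → Q (orderOf v) →
        meet ⊤ N v ≤ k := fun Q k hk hQ =>
      (meet_le_of_subset ⊤ N v {v | v ∈ N ∧ (orderOf v).Prime ∧ Q (orderOf v)} fun x _ hx =>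
        ⟨hx, by rwa [orderOf_conj'], by rwa [orderOf_conj']⟩).trans hk
    by_cases hP : P (orderOf v)
    · exact (fp_le_div (key P k₁ hk₁ hP) (hm₁ v hv hp hP) a1).trans a4
    · exact (fp_le_div (key (fun s => ¬ P s) k₂ hk₂ hP) (hm₂ v hv hp hP) a2).trans a5
  · have : (Nat.card (Nz E) : ℚ) ≤ ρ := by exact_mod_cast hρ
    gcongr

/-! ### the translation -/

section tr

variable {A : Type*} [Group A] [Finite A] {φ : K →* A} (hφ : Function.Injective φ)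

include hφ

theorem fp_map (S : Subgroup A) (d : K) : fp φ.range S (φ d) = fp ⊤ (S.comap φ) d := by
  have e : (⊤ : Subgroup K) ≃ φ.range := (topEquiv.trans (MonoidHom.ofInjective hφ)).toEquiv
  have h1 : hits φ.range S (φ d) = hits ⊤ (S.comap φ) d := by
    refine (Nat.card_congr (Equiv.subtypeEquiv (topEquiv.trans (MonoidHom.ofInjective hφ)).toEquiv fun x => ?_)).symm
    show φ _ ∈ S ↔ (φ x)⁻¹ * φ d * φ x ∈ S
    rw [map_mul, map_mul, map_inv]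
  rw [fp, fp, h1, Nat.card_congr e]

theorem kap_map (N R : Subgroup K) (s : ℕ) : kap (N.map φ) (R.map φ) s ≤ kap N R s := by
  classical
  let π : A → K ⧸ N := fun a => (Function.invFun φ a : K)
  have hπ : ∀ g, π (φ g) = (g : K ⧸ N) := fun g => congrArg _ (Function.leftInverse_invFun hφ g)
  refine kap_le_of_map π {c | ∃ g ∈ R, orderOf g = s ∧ (g : K ⧸ N) = c} (Set.toFinite _) ?_ ?_
  · rintro _ ⟨g, hg, rfl⟩ ho
    exact ⟨g, hg, by rwa [orderOf_injective φ hφ] at ho, (hπ g).symm⟩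
  · rintro _ ⟨g, -, rfl⟩ _ ⟨g', -, rfl⟩ h
    rw [hπ, hπ] at h
    exact ⟨_, QuotientGroup.eq.1 h, by rw [map_mul, map_inv]⟩

end tr

/-- **The translation.** -/
theorem rowN_of_cert [IsSimpleGroup K] (hK : ¬ IsMulCommutative K) {O n : ℕ} (hO : Nat.card (Out K) ≤ O)
    (hn0 : 0 < n) (hn : ∀ d : MulAut K, d ≠ 1 → n ≤ cls (InnG K) d)
    (h : ∀ r (E : Subgroup K), Sit p r E → Cert p O n E) : RowN p K := by
  intro S hS hm hN
  have hT := as_inn hK
  have hi := conj_injective hK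
  obtain ⟨X, x1, x2, x3, -, x5, ⟨r, hr, x6⟩, -⟩ := hm.exists_min hT hS
  let E : Subgroup K := X.comap MulAut.conj
  have hEX : E.map MulAut.conj = X := map_comap_eq_self (x1.trans inf_le_right)
  have hSE : ∀ α ∈ S, ∀ x ∈ E, α x ∈ E := fun α hα x hx => by
    have := x3 α hα _ hx
    rwa [R1.conj_conj] at this
  have inv : ∀ {Y : Subgroup K}, Chr E Y → ∀ s ∈ S, ∀ y ∈ Y.map MulAut.conj, s * y * s⁻¹ ∈ Y.map MulAut.conj := by
    rintro Y hY s hs _ ⟨y, hy, rfl⟩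
    exact ⟨s y, hY s (hSE s hs) y hy, (R1.conj_conj s y).symm⟩
  have nz : ∀ {Y : Subgroup K}, Chr E Y → Y ≠ ⊥ → Y.map MulAut.conj ≤ S → Nz Y ≤ R1.innS S := by
    intro Y hY h0 hle g hg
    refine hm.mem_of_normalizes hT (X := Y.map MulAut.conj) (fun e => h0 ((map_eq_bot_iff_of_injective Y hi).1 e))
      (fun e => hT.not_le hS (e.trans hle)) (inv hY) ⟨g, rfl⟩ ?_
    rintro _ ⟨y, hy, rfl⟩
    exact ⟨_, mem_Nz.1 hg y hy, by rw [map_mul, map_mul, map_inv]⟩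
  have hE0 : E ≠ ⊥ := fun e => x2 (by rw [← hEX, e, Subgroup.map_bot])
  have hR : Nz E = R1.innS S := by
    refine le_antisymm (nz (Chr.refl E) hE0 (hEX ▸ x1.trans inf_le_left)) fun g hg => mem_Nz.2 fun x hx => ?_
    exact hSE _ hg x hx
  have hRm : (Nz E).map MulAut.conj = S ⊓ InnG K := by rw [hR, R1.innS, map_comap_eq, inf_comm]
  have hEA : EA r E := ⟨hr, hE0, fun x hx => hi (by rw [map_pow, map_one]; exact x6 _ hx),
    fun x hx y hy => hi (by rw [map_mul, map_mul]; exact x5 _ hx _ hy)⟩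
  have np : ∀ Y : Subgroup K, Y ≤ Nz E → IsPGroup p Y → Chr E Y → Y = ⊥ := fun Y h1 h2 h3 =>
    (map_eq_bot_iff_of_injective Y hi).1 (hN _ (hRm ▸ map_mono h1) (h2.map _) (inv h3))
  have hsit : Sit p r E := ⟨hEA, fun e => hE0 (np E (hEA.le_Cz.trans Cz_le_Nz) (e ▸ hEA.isPGroup) (Chr.refl E)),
    hR ▸ R1.innS_solvable hK hS, fun Y h0 h1 h2 => (nz h2 h0 ((map_mono h1).trans (hRm.le.trans inf_le_left))).trans hR.ge, np⟩
  obtain ⟨N, n1, n2, n3, n4, ⟨x, n5⟩, μ, b, e, φ, κ, ι, a1, a2, a3, a4, a5, a6, a7, a8, a9, a10, a11, a12⟩ := h r E hsit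
  have hO0 : 0 < O := lt_of_lt_of_le Nat.card_pos hO
  obtain ⟨o, rfl⟩ : ∃ o, O = o + 1 := ⟨O - 1, by omega⟩
  refine Or.inr (master (N := N.map MulAut.conj) hT.normal (hRm ▸ map_mono n1) (inv n2) ?_ (p := p) ?_
    (x := MulAut.conj x) ⟨x, rfl⟩ ?_ a1 a2 ?_ ?_ (κ := κ) (ι := ι) (o := o) ?_ ?_ ((relIndex_inn_le S).trans hO) hn0 hn a7 a8
    a9 a10 a11 ?_)
  · rintro _ hg ⟨g, rfl⟩ hc
    exact ⟨g, n3 g (hR ▸ hg) fun v hv => hi (by rw [map_mul, map_mul]; exact hc _ ⟨v, hv, rfl⟩), rfl⟩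
  · rwa [card_map_of_injective hi]
  · rintro _ ⟨v, hv, rfl⟩ hx
    rw [n5 v hv (by rw [hR, R1.mem_innS, map_mul, map_mul, map_inv]; exact hx), map_one]
  · rintro _ ⟨v, hv, rfl⟩ hp
    have := fp_map hi (N.map MulAut.conj) v
    rw [comap_map_eq_self_of_injective hi] at this
    rw [orderOf_injective _ hi] at hp
    exact this.le.trans (a3 v hv hp)
  · rintro _ hd ⟨d, rfl⟩ hp hp'
    rw [orderOf_injective _ hi] at hp hp'
    refine (fp_map hi S d).le.trans ?_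
    have := a4 d (hR ▸ hd) hp hp'
    rwa [hR] at this
  · rw [← hRm]
    exact (kap_map hi N _ p).trans a5
  · rwa [← hRm, relIndex_map_map_of_injective _ _ hi]
  · rw [R1.card_inn hK, ← hRm, card_map_of_injective hi]
    push_cast at a12
    rwa [add_sub_cancel_right] at a12

end Cfsg.Agent.SB.Low
end

-- part: SB/Low/Gen
section
/-!
# S5765, `G₂(q)` and `³D₄(q)`: toral elementary abelian subgroups (helper68)

`Md n D ι θ` : `ι` identifies `K` with the fixed points of `F`, `D` is an adjoint datum of `F`, `θ` the action on the roots.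
-/

set_option autoImplicit false
set_option linter.unusedSectionVars false

namespace Cfsg.Agent.SB.Low

open Subgroup Cfsg CoxeterSystem Cfsg.Agent.H786.FC
open Cfsg.Agent.ChevalleyStructure.CoxeterGeom Cfsg.Agent.Tits.Roots Cfsg.Agent.Nodes.Reps Cfsg.Agent.Nodes.BNOf
  Cfsg.Agent.Nodes.Coroot Cfsg.Agent.DL Cfsg.Agent.SB.Exc
open scoped commutatorElement

theorem mem_of_sr {I : Type} [Fintype I] [DecidableEq I] {Λ : AddSubgroup (I → ℤ)} (h : ∀ i, sr i ∈ Λ) (x : I → ℤ) :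
    x ∈ Λ := by
  have : x = ∑ i, x i • sr i := by
    funext j
    simp only [sr, Pi.single_apply, _root_.zsmul_eq_mul, _root_.Finset.sum_apply, _root_.Pi.mul_apply, _root_.Pi.intCast_apply, _root_.Int.cast_eq, _root_.mul_ite, _root_.mul_one, _root_.MulZeroClass.mul_zero, _root_.Finset.sum_ite_eq, _root_.Finset.mem_univ, ↓ _root_.reduceIte]
  rw [this]
  exact sum_mem fun i _ => zsmul_mem (h i) _

theorem hom_ext_sr {I : Type} [Fintype I] [DecidableEq I] {f g : (I → ℤ) →+ (I → ℤ)} (h : ∀ i, f (sr i) = g (sr i))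
    (x : I → ℤ) : f x = g x :=
  mem_of_sr (Λ := f.eqLocus g) h x

theorem tw_tw {I W : Type} [Fintype I] [DecidableEq I] [Group W] {M : CoxeterMatrix I} (cs : CoxeterSystem M W)
    {A : I → I → ℤ} (h : IsCartan M A) (w w' : W) (g : (I → ℤ) →+ (I → ℤ)) :
    tw cs h w (tw cs h w' g) = tw cs h (w * w') g :=
  AddMonoidHom.ext fun x => (rep_mul_apply cs h w w' (g x)).symm

theorem mul_pow_mem {Y : Type} [Group Y] {S : Subgroup Y} {s t : Y} (hs : s ∈ S) (ht : ∀ u ∈ S, t * u * t⁻¹ ∈ S) :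
    ∀ m : ℕ, (s * t) ^ m * (t ^ m)⁻¹ ∈ S
  | 0 => by simp
  | m + 1 => by
    have h1 := mul_mem hs (ht _ (mul_pow_mem hs ht m))
    rw [pow_succ', pow_succ']
    convert h1 using 1
    group

variable {p : ℕ} [Fact p.Prime] {k : Type} [Field k] [CharP k p] [IsAlgClosed k] {Y : Type} [Group Y] {N : Type}
  [Fintype N] [DecidableEq N] {ρ : Y →* GL N k} {F : MulAut Y} {K : Type} [Group K] [Finite K]

/-- the model -/
structure Md (n : ℕ) (D : Datum p ρ F ⊤) (ι : K →* Y) (θ : (D.I → ℤ) →+ (D.I → ℤ)) : Prop where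
  fq : Card.Fq p ρ F n
  inj : Function.Injective ι
  range : ∀ y, F y = y ↔ ∃ x, ι x = y
  ex : ∀ b, D.Rt b → D.ex b = n
  wt : Function.Bijective D.wt
  g : ∀ a, D.g a = θ a

/-- the image of a subgroup -/
abbrev im (ι : K →* Y) (E : Subgroup K) : Set Y := ι '' E

variable {n : ℕ} {D : Datum p ρ F ⊤} {ι : K →* Y} {θ : (D.I → ℤ) →+ (D.I → ℤ)} {E : Subgroup K} {r : ℕ}

theorem comm_of_orth (hD : RD D.cs D.h) {a b : D.I → ℤ} (ha : D.Rt a) (hb : D.Rt b) (h : cpr D.cs D.h a b = 0) :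
    ∀ u ∈ D.X a ⊔ D.X (-a), ∀ v ∈ D.X b ⊔ D.X (-b), u * v = v * u := by
  have key : ∀ a b, D.Rt a → D.Rt b → cpr D.cs D.h a b = 0 → D.X a ≤ centralizer (D.X b : Set Y) := by
    intro a b ha hb h u hu v hv
    have h1 : b ≠ a := by
      rintro rfl
      rw [cpr_self _ _ ha] at h
      omega
    have h2 : b ≠ -a := by
      rintro rfl
      rw [cpr_neg_right _ _ _ ha, cpr_self _ _ ha] at h
      omega
    have h3 := D.comm hb ha h1 h2 hv hu
    have h4 : {c | Btwn D.cs D.h b a c} = ∅ := Set.eq_empty_of_forall_notMem fun c => hD.btw0 b a c hb ha h1 h.ge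
    rw [h4, Datum.S, Nodes.OppDec.Sup_empty, mem_bot] at h3
    exact commutatorElement_eq_one_iff_mul_comm.1 h3
  have k2 : ∀ a, D.Rt a → cpr D.cs D.h a b = 0 → D.X b ⊔ D.X (-b) ≤ centralizer (D.X a : Set Y) := fun a ha h =>
    sup_le (le_centralizer_iff.1 (key a b ha hb h))
      (le_centralizer_iff.1 (key a (-b) ha hb.neg (by rw [cpr_neg_right _ _ _ hb, h, neg_zero])))
  have k3 : D.X a ⊔ D.X (-a) ≤ centralizer ((D.X b ⊔ D.X (-b) : Subgroup Y) : Set Y) :=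
    sup_le (le_centralizer_iff.1 (k2 a ha h)) (le_centralizer_iff.1 (k2 (-a) ha.neg (by rw [cpr_neg _ _ _ hb, h, neg_zero])))
  exact fun u hu v hv => (k3 hu v hv).symm

namespace Md

variable (hM : Md n D ι θ)

include hM

theorem conj {y : Y} (hy : y ∈ (⊤ : Subgroup Y)) (hy' : y⁻¹ * F y ∈ D.NN) :
    Md n (D.conj hy hy') ι (tw D.cs D.h (D.pr (y⁻¹ * F y)) θ) :=
  ⟨hM.fq, hM.inj, hM.range, hM.ex, hM.wt, fun a => congrArg (D.act (D.pr (y⁻¹ * F y))) (hM.g a)⟩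

theorem fix (x : K) : F (ι x) = ι x := (hM.range _).2 ⟨x, rfl⟩

theorem cardR : Fintype.card D.R = Fintype.card D.I := by
  have := (AddEquiv.ofBijective D.wt hM.wt).toIntLinearEquiv.finrank_eq
  simpa only [_root_.Module.finrank_fintype_fun_eq_card] using this.symm

theorem two_le : 2 ≤ p ^ n := (Fact.out : p.Prime).two_le.trans (Nat.le_self_pow hM.fq.1.ne' p)

theorem eq_one {t : Y} (ht : t ∈ D.T) (h : ∀ a, D.χ a t = 1) : t = 1 := by
  obtain ⟨c, rfl⟩ := (D.mem_T t).1 ht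
  have : c = 1 := by
    funext j
    obtain ⟨a, ha⟩ := hM.wt.2 (Pi.single j 1)
    have h1 := h a
    rw [D.χ_τ, ha, DL.chr_single] at h1
    exact Units.ext h1
  rw [this, map_one]

theorem le_cz {A : Set (D.I → ℤ)} (hZ : im ι E ⊆ D.T) (hA : A ⊆ D.Sz (im ι E)) {g : K} (hg : ι g ∈ D.S A) : g ∈ Cz E := by
  have h1 : D.S A ≤ centralizer (im ι E) := RGD.Sup_le fun a ha => D.X_le_centralizer hZ (hA ha)
  exact mem_Cz.2 fun x hx => hM.inj (by rw [map_mul, map_mul]; exact h1 hg _ ⟨x, hx, rfl⟩)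

theorem mem_cz {g : K} : g ∈ Cz E ↔ ι g ∈ centralizer (im ι E) :=
  ⟨fun h => by
    rintro _ ⟨x, hx, rfl⟩
    rw [← map_mul, ← map_mul, mem_Cz.1 h x hx], fun h =>
    mem_Cz.2 fun x hx => hM.inj (by rw [map_mul, map_mul]; exact h _ ⟨x, hx, rfl⟩)⟩

theorem solv {H : Subgroup K} (hH : Group.IsSolvable H) {B : Subgroup Y} (h : ∀ g, ι g ∈ B → g ∈ H) :
    Group.IsSolvable ↥(DL.fix F ⊓ B) := by
  have h1 : Group.IsSolvable ↥(H.map ι) := Group.isSolvable_of_surjective (f := ι.subgroupMap H) (ι.subgroupMap_surjective H)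
  have h2 : DL.fix F ⊓ B ≤ H.map ι := by
    rintro y ⟨h3, h4⟩
    obtain ⟨g, rfl⟩ := (hM.range y).1 h3
    exact ⟨g, h g h4, rfl⟩
  exact Group.isSolvable_of_isSolvable_injective (f := inclusion h2) (inclusion_injective _)

/-- a fixed element of order `p` in a fixed root group -/
theorem exists_unip {a : D.I → ℤ} (ha : D.Rt a) (h : θ a = a) : ∃ g : K, g ≠ 1 ∧ g ^ p = 1 ∧ ι g ∈ D.X a := by
  obtain ⟨c, hc, h1⟩ := D.F_x a ha
  rw [hM.g, h, hM.ex a ha] at h1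
  have h2 := hM.two_le
  obtain ⟨u, hu⟩ := IsAlgClosed.exists_pow_nat_eq c⁻¹ (n := p ^ n - 1) (by omega)
  have hu0 : u ≠ 0 := by
    rintro rfl
    rw [zero_pow (by omega)] at hu
    exact inv_ne_zero hc hu.symm
  have h3 : c * u ^ p ^ n = u := by
    rw [show p ^ n = p ^ n - 1 + 1 by omega, pow_succ, hu, mul_inv_cancel_left₀ hc]
  obtain ⟨g, hg⟩ := (hM.range (D.x a u)).1 (by rw [h1, h3])
  have h4 : ∀ m : ℕ, D.x a u ^ m = D.x a (m * u) := by
    intro m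
    induction m with
    | zero => rw [pow_zero, Nat.cast_zero, zero_mul, D.x_zero ha]
    | succ m ih => rw [pow_succ, ih, ← D.x_add a ha, Nat.cast_succ, add_mul, one_mul]
  refine ⟨g, fun e => hu0 ((D.x_eq_one_iff ha).1 (by rw [← hg, e, map_one])), hM.inj ?_, hg ▸ D.x_mem ha u⟩
  rw [map_pow, hg, h4, CharP.cast_eq_zero, zero_mul, D.x_zero ha, map_one]

section toral

variable (hZ : im ι E ⊆ D.T)

include hZ

theorem theta (x : D.I → ℤ) : θ x - ((p ^ n : ℕ) : ℤ) • x ∈ D.Lam (im ι E) := by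
  refine (mem_of_sr (Λ := (D.Lam (im ι E)).comap (θ - ((p ^ n : ℕ) : ℤ) • AddMonoidHom.id _)) (fun i => ?_) x :)
  rintro _ ⟨z, hz, rfl⟩
  have h1 := D.χ_F (isRoot_sr D.cs D.h i) (hZ ⟨z, hz, rfl⟩)
  rw [hM.fix, hM.g, hM.ex _ (isRoot_sr D.cs D.h i)] at h1
  show D.χ (θ (sr i) - ((p ^ n : ℕ) : ℤ) • sr i) (ι z) = 1
  rw [sub_eq_add_neg, D.χ_add, D.χ_neg, D.χ_zsmul, h1, zpow_natCast, mul_inv_cancel₀ (pow_ne_zero _ (D.χ_ne_zero _ _))]

theorem stab {x : D.I → ℤ} (hx : x ∈ D.Lam (im ι E)) : θ x ∈ D.Lam (im ι E) := by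
  simpa only [_root_.Nat.cast_pow, _root_.zsmul_eq_mul, _root_.Int.cast_pow, _root_.Int.cast_natCast, _root_.sub_add_cancel] using add_mem (hM.theta hZ x) (zsmul_mem hx ((p ^ n : ℕ) : ℤ))

theorem g_Sz : ∀ a ∈ D.Sz (im ι E), D.g a ∈ D.Sz (im ι E) := fun a ha =>
  ⟨D.g_root a ha.1, by rw [hM.g]; exact hM.stab hZ ha.2⟩

theorem smul_mem (hE : EA r E) (x : D.I → ℤ) : (r : ℤ) • x ∈ D.Lam (im ι E) := by
  rintro _ ⟨z, hz, rfl⟩
  have h1 : ∀ m : ℕ, D.χ x (ι z ^ m) = D.χ x (ι z) ^ m := by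
    intro m
    induction m with
    | zero => rw [pow_zero, pow_zero, D.χ_one]
    | succ m ih => rw [pow_succ, pow_succ, D.χ_mul _ (pow_mem (hZ ⟨z, hz, rfl⟩) m) (hZ ⟨z, hz, rfl⟩), ih]
  rw [D.χ_zsmul, zpow_natCast, ← h1, ← map_pow, hE.pow z hz, map_one, D.χ_one]

theorem sat (hE : EA r E) {d : ℕ} (hd : d.Prime) (h : r ≠ d) : Sat d (D.Lam (im ι E)) := by
  intro x hx
  obtain ⟨a, b, hab⟩ := Nat.isCoprime_iff_coprime.2 ((Nat.coprime_primes hE.prime hd).2 h)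
  have := add_mem (zsmul_mem (hM.smul_mem hZ hE x) a) (zsmul_mem hx b)
  rwa [smul_smul, smul_smul, ← add_smul, hab, one_smul] at this

theorem proper (hE : EA r E) : ∃ x, x ∉ D.Lam (im ι E) := by
  by_contra h
  push Not at h
  obtain ⟨x, hx, h1, -⟩ := hE.exists_ne
  exact h1 (hM.inj (by rw [map_one]; exact hM.eq_one (hZ ⟨x, hx, rfl⟩) fun a => h a _ ⟨x, hx, rfl⟩))

/-- the centraliser is connected -/
theorem mem_cen (hP : PPr D.cs D.h) (h2 : Sat 2 (D.Lam (im ι E))) {g : K} (hg : g ∈ Cz E) : ι g ∈ D.cen (im ι E) := by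
  obtain ⟨c, hc, m, ⟨w, hm⟩, h1, h3⟩ := D.exists_cen_form hZ (mem_top _) (hM.mem_cz.1 hg)
  have h4 := hP w _ h2 fun x z hz => by
    rw [sub_eq_add_neg, D.χ_add, D.χ_neg, D.χ_act_of_comm hZ hm h1 x hz, mul_inv_cancel₀ (D.χ_ne_zero _ _)]
  have h5 : ∀ v ∈ _root_.Subgroup.closure (Rfl D.cs D.h (D.Lam (im ι E))), ∃ m' ∈ D.cen (im ι E), D.Rp v m' := by
    intro v hv
    induction hv using closure_induction with
    | mem v hv =>
      obtain ⟨a, ha, h6⟩ := hv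
      obtain ⟨m', h7, h8⟩ := D.exists_rp_rf ha.1
      refine ⟨m', (sup_le_sup_left (sup_le ?_ ?_) _ : _ ≤ D.cen (im ι E)) h7, D.eq_rf ha.1 h6 ▸ h8⟩
      exacts [RGD.le_Sup (S := D.Sz (im ι E)) ha, RGD.le_Sup (S := D.Sz (im ι E)) (D.Sz_neg ha)]
    | one => exact ⟨1, one_mem _, rp_of_mem (one_mem _)⟩
    | mul _ _ _ _ h h' =>
      obtain ⟨a, a1, a2⟩ := h
      obtain ⟨b, b1, b2⟩ := h'
      exact ⟨_, mul_mem a1 b1, a2.mul b2⟩
    | inv _ _ h =>
      obtain ⟨a, a1, a2⟩ := h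
      exact ⟨_, inv_mem a1, a2.inv⟩
  obtain ⟨m', h6, h7⟩ := h5 w h4
  rw [h3]
  refine mul_mem (D.S_le_cen _ hc) ?_
  simpa using mul_mem h6 (D.T_le_cen _ (Rp.unique h7 hm))

theorem card_cz (hP : PPr D.cs D.h) (h2 : Sat 2 (D.Lam (im ι E))) :
    Nat.card (Cz E) ≤ (p ^ n) ^ (Ps D.cs D.h (D.Lam (im ι E))).ncard * (p ^ n + 1) ^ Fintype.card D.I := by
  have h1 := CI.card_cen_dat hM.fq D hZ (hM.g_Sz hZ)
  rw [hM.cardR] at h1
  have := D.amb.finite_GF (D.cen (im ι E))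
  refine le_trans ?_ h1
  exact Nat.card_le_card_of_injective (fun g => (⟨ι g, hM.mem_cen hZ hP h2 g.2, hM.fix _⟩ : GF F (D.cen (im ι E))))
    fun a b h => Subtype.ext (hM.inj (congrArg Subtype.val h))

/-- elements of order `p` of the centraliser -/
theorem mem_S (hP : PPr D.cs D.h) (h2 : Sat 2 (D.Lam (im ι E))) {g : K} (hg : g ∈ Cz E) (h : g ^ p = 1) :
    ι g ∈ D.S (D.Sz (im ι E)) := by
  obtain ⟨s, hs, t, ht, e⟩ := (D.mem_TS D.Sz_root).1 (hM.mem_cen hZ hP h2 hg)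
  have h3 := mul_pow_mem hs (fun u hu => D.conj_mem_S_of_T D.Sz_root ht hu) p
  rw [← e, ← map_pow, h, map_one, one_mul, inv_mem_iff] at h3
  have h4 : (orderOf t).Coprime p := by
    rw [Nat.coprime_comm, (Fact.out : p.Prime).coprime_iff_not_dvd]
    rintro ⟨c, hc⟩
    have h5 := (D.amb.isOfFinOrder t).orderOf_pos
    have h6 := St.eq_one_of_pow D (pow_mem ht c) (by rw [← pow_mul, mul_comm, ← hc, pow_orderOf_eq_one])
    have h7 := Nat.le_of_dvd (Nat.pos_of_mul_pos_left (hc ▸ h5)) (orderOf_dvd_of_pow_eq_one h6)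
    have h8 := (Fact.out : p.Prime).two_le
    have h9 : 0 < c := Nat.pos_of_mul_pos_left (hc ▸ h5)
    nlinarith
  obtain ⟨m, hm⟩ := exists_pow_eq_self_of_coprime h4.symm
  rw [e]
  exact mul_mem hs (hm ▸ pow_mem h3 m)

/-! ### no root is trivial on `E` -/

theorem mem_T (hP : PPr D.cs D.h) (h2 : Sat 2 (D.Lam (im ι E))) (h0 : D.Sz (im ι E) = ∅) {g : K} (hg : g ∈ Cz E) :
    ι g ∈ D.T := by
  have := hM.mem_cen hZ hP h2 hg
  rwa [Datum.cen, h0, Datum.S, Nodes.OppDec.Sup_empty, sup_bot_eq] at this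

theorem relIndex_le (h0 : D.Sz (im ι E) = ∅) :
    (Cz E).relIndex (Nz E) ≤ {v : D.W | ∀ x, θ (D.act v x) = D.act v (θ x)}.ncard := by
  have h1 : ∀ g ∈ Nz E, ι g ∈ D.NN := by
    intro g hg
    obtain ⟨c, hc, m, hm, -, e⟩ := D.exists_conj_form (s := fun x : E => ι (g⁻¹ * x * g)) (t := fun x : E => ι x)
      (fun x => hZ ⟨_, by simpa using mem_Nz.1 (inv_mem hg) x x.2, rfl⟩) (fun x => hZ ⟨_, x.2, rfl⟩) (mem_top (ι g))
      (fun x => by rw [← map_mul, ← map_mul]; congr 1; group)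
    have h3 : Set.range (fun x : E => ι x) = im ι E := by
      ext z
      exact ⟨fun ⟨x, hx⟩ => ⟨x, x.2, hx⟩, fun ⟨x, hx, e⟩ => ⟨⟨x, hx⟩, e⟩⟩
    rw [h3, h0, Datum.S, Nodes.OppDec.Sup_empty, mem_bot] at hc
    rwa [e, hc, one_mul]
  have h2 : ∀ g ∈ Nz E, D.pr (ι g) ∈ {v : D.W | ∀ x, θ (D.act v x) = D.act v (θ x)} := by
    intro g hg x
    have h3 := D.Fw_eq_of_fix (D.rp_pr (h1 g hg)) (hM.fix g)
    refine hom_ext_sr (f := θ.comp (rep D.cs D.h (D.pr (ι g))).toAddMonoidHom)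
      (g := (rep D.cs D.h (D.pr (ι g))).toAddMonoidHom.comp θ) (fun i => ?_) x
    have h4 := D.g_act (D.pr (ι g)) (isRoot_sr D.cs D.h i)
    rwa [h3, hM.g, hM.g] at h4
  refine Nat.card_le_card_of_injective (β := {v : D.W | ∀ x, θ (D.act v x) = D.act v (θ x)})
    (fun c : Nz E ⧸ (Cz E).subgroupOf (Nz E) => ⟨D.pr (ι c.out), h2 _ c.out.2⟩) fun c c' h => ?_
  have h3 : D.pr (ι c.out) = D.pr (ι c'.out) := congrArg Subtype.val h
  have h4 := Rp.unique (D.rp_pr (h1 _ c.out.2)) (h3 ▸ D.rp_pr (h1 _ c'.out.2))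
  rw [← c.out_eq', ← c'.out_eq', QuotientGroup.eq, mem_subgroupOf]
  refine hM.mem_cz.2 fun z hz => ?_
  rw [coe_mul, coe_inv, map_mul, map_inv]
  exact D.T_comm (hZ hz) h4

end toral

theorem card_le_T {H : Subgroup K} (h : ∀ g ∈ H, ι g ∈ D.T) : Nat.card H ≤ Nat.card ↥(D.T ⊓ GF F ⊤) :=
  have := D.amb.finite_GF ⊤
  have : Finite ↥(D.T ⊓ GF F ⊤) := Finite.of_injective _ (inclusion_injective inf_le_right)
  Nat.card_le_card_of_injective (fun g => (⟨ι g, h g g.2, trivial, hM.fix _⟩ : ↥(D.T ⊓ GF F ⊤)))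
    fun _ _ h => Subtype.ext (hM.inj (congrArg Subtype.val h))

theorem not_dvd {H : Subgroup K} (h : ∀ g ∈ H, ι g ∈ D.T) : ¬ p ∣ Nat.card H := by
  intro h1
  obtain ⟨v, hv⟩ := exists_prime_orderOf_dvd_card' p h1
  have h2 := St.eq_one_of_pow D (h v v.2) (by rw [← map_pow, ← hv, ← Subgroup.orderOf_coe, pow_orderOf_eq_one, map_one])
  have h3 : v = 1 := Subtype.ext (hM.inj (by rw [h2, coe_one, map_one]))
  rw [h3, orderOf_one] at hv
  exact (Fact.out : p.Prime).one_lt.ne hv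

theorem card_three {H : Subgroup K} (h : ∀ g ∈ H, ι g ∈ D.T) :
    {v | v ∈ H ∧ v ^ 3 = 1}.ncard ≤ 3 ^ Fintype.card D.I := by
  have h1 : ∀ v : {v | v ∈ H ∧ v ^ 3 = 1}, ∀ j, D.crd (ι v) j ∈ rootsOfUnity 3 k := by
    rintro ⟨v, hv, h3⟩ j
    have : D.crd (ι v) ^ 3 = 1 := D.τ_inj (by rw [map_pow, D.τ_crd (h v hv), ← map_pow, h3, map_one, map_one])
    exact congrFun this j
  refine le_trans (Nat.card_le_card_of_injective (β := D.R → rootsOfUnity 3 k) (fun v j => ⟨_, h1 v j⟩) fun v w e => ?_) ?_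
  · refine Subtype.ext (hM.inj ?_)
    rw [← D.τ_crd (h v v.2.1), ← D.τ_crd (h w w.2.1)]
    congr 1
    funext j
    exact congrArg Subtype.val (congrFun e j)
  · rw [Nat.card_fun, Nat.card_eq_fintype_card (α := D.R), hM.cardR]
    exact Nat.pow_le_pow_left (card_rootsOfUnity k 3) _

theorem card_T (hT : RT D.cs D.h θ) : Nat.card ↥(D.T ⊓ GF F ⊤) ≤ ((p ^ n) ^ 2 + p ^ n + 1) ^ 2 := by
  rw [D.card_TF]
  have h0 := hom_ext_sr (f := D.ψ.comp θ) (g := ((p ^ n : ℕ) : ℤ) • AddMonoidHom.id (D.I → ℤ)) fun i => by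
    have h2 := D.ψ_g (isRoot_sr D.cs D.h i)
    rw [hM.g, hM.ex _ (isRoot_sr D.cs D.h i)] at h2
    exact h2.trans (by push_cast; rfl)
  have h1 := hT.tor (p ^ n) D.ψ.toIntLinearMap fun x => h0 x
  let e : (D.I → ℤ) ≃ₗ[ℤ] (D.R → ℤ) := (AddEquiv.ofBijective D.wt hM.wt).toIntLinearEquiv
  have h3 : (e : (D.I → ℤ) →ₗ[ℤ] (D.R → ℤ)) ∘ₗ (D.ψ.toIntLinearMap - 1) ∘ₗ (e.symm : (D.R → ℤ) →ₗ[ℤ] (D.I → ℤ)) =
      Matrix.toLin' (D.Mx - 1).transpose := by
    refine LinearMap.ext fun y => ?_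
    obtain ⟨x, rfl⟩ := e.surjective y
    rw [LinearMap.comp_apply, LinearMap.comp_apply, LinearEquiv.coe_coe, LinearEquiv.coe_coe, e.symm_apply_apply,
      Matrix.toLin'_apply, Matrix.mulVec_transpose, Matrix.vecMul_sub, Matrix.vecMul_one]
    show D.wt (D.ψ x - x) = Matrix.vecMul (D.wt x) D.Mx - D.wt x
    rw [map_sub, D.wt_ψ]
  rwa [← LinearMap.det_conj _ e, h3, LinearMap.det_toLin', Matrix.det_transpose] at h1

/-- an adapted frame -/
theorem frame (ht : ∃ g : Y, ∀ x ∈ E, g * ι x * g⁻¹ ∈ D.T) :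
    ∃ (y : Y) (hy : y ∈ (⊤ : Subgroup Y)) (hy' : y⁻¹ * F y ∈ D.NN) (z : Y) (hz : z ∈ (⊤ : Subgroup Y))
      (hz' : z⁻¹ * F z ∈ (D.conj hy hy').NN), im ι E ⊆ ((D.conj hy hy').conj hz hz').T ∧
      ∀ a ∈ ((D.conj hy hy').conj hz hz').Sz (im ι E), 0 ≤ a → 0 ≤ ((D.conj hy hy').conj hz hz').g a := by
  obtain ⟨g, hg⟩ := ht
  obtain ⟨y, hy, hy', h1, -⟩ := Max.exists_conj_le_T D (Z := im ι E) (x := g⁻¹)
    (by rintro _ ⟨x, hx, rfl⟩; exact ⟨x, hx, (hM.fix x).symm⟩) trivial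
    (by rintro _ ⟨x, hx, rfl⟩; rw [inv_inv]; exact hg x hx)
  obtain ⟨z, hz, hz', h2, -, h3⟩ := Max.exists_reframe (D.conj hy hy') h1 ((hM.conj hy hy').g_Sz h1)
  have h4 : ∀ t ∈ im ι E, z * t * z⁻¹ = t := fun t ht => by
    rw [← (D.conj hy hy').cen_le_centralizer h1 h2 t ht, mul_inv_cancel_right]
  refine ⟨y, hy, hy', z, hz, hz', fun t ht => ?_, fun a ha => h3 a ⟨ha.1, fun t ht => ?_⟩⟩
  · rw [← h4 t ht]
    exact mem_map_of_mem _ (h1 ht)
  · rw [← (D.conj hy hy').conj_χ hz hz' a (h1 ht), h4 t ht]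
    exact ha.2 t ht

end Md

end Cfsg.Agent.SB.Low
end

-- part: SB/Low/Odd
section
/-!
# S5765, `G₂(q)` and `³D₄(q)`: elementary abelian subgroups of odd order (helper68)
-/

set_option autoImplicit false
set_option linter.unusedSectionVars false

namespace Cfsg.Agent.SB.Low

open Subgroup Cfsg CoxeterSystem Cfsg.Agent.H786.FC
open Cfsg.Agent.ChevalleyStructure.CoxeterGeom Cfsg.Agent.Tits.Roots Cfsg.Agent.Nodes.Reps Cfsg.Agent.Nodes.BNOf
  Cfsg.Agent.Nodes.Coroot Cfsg.Agent.DL Cfsg.Agent.SB.Exc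

/-- the centraliser of `E` is a maximal torus -/
structure TorC (p ν c : ℕ) {K : Type} [Group K] (E : Subgroup K) : Prop where
  card : Nat.card (Cz E) ≤ ν
  nd : ¬ p ∣ Nat.card (Cz E)
  idx : (Cz E).relIndex (Nz E) ≤ c

variable {p : ℕ} [Fact p.Prime] {k : Type} [Field k] [CharP k p] [IsAlgClosed k] {Y : Type} [Group Y] {N : Type}
  [Fintype N] [DecidableEq N] {ρ : Y →* GL N k} {F : MulAut Y} {K : Type} [Group K] [Finite K]
  {n : ℕ} {D : Datum p ρ F ⊤} {ι : K →* Y} {θ : (D.I → ℤ) →+ (D.I → ℤ)} {E : Subgroup K} {r : ℕ}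

namespace Md

variable (hM : Md n D ι θ)

include hM

theorem root {a : D.I → ℤ} (ha : D.Rt a) : D.Rt (θ a) := by
  rw [← hM.g]
  exact D.g_root a ha

theorem ns_one (hNS : BoxNS) {a : D.I → ℤ} (ha : D.Rt a) (h : θ a = a) (hq : 4 ≤ p ^ n) {H : Subgroup K}
    (hH : Group.IsSolvable H) (hle : ∀ g, ι g ∈ D.S {a, -a} → g ∈ H) : False := by
  refine hNS p k Y N ρ F ⊤ D n 1 a hM.ex ha one_pos (by rwa [pow_one]) (Or.inl ((hM.g a).trans h))
    (fun i hi i' hi' hne => by omega) (hM.solv hH fun g hg => hle g (RGD.Sup_mono ?_ hg))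
  rintro c ⟨i, hi, hc⟩
  obtain rfl : i = 0 := by omega
  exact hc

theorem ns_three (hNS : BoxNS) (hD : RD D.cs D.h) (hT : RT D.cs D.h θ) {a : D.I → ℤ} (ha : D.Rt a)
    (h : cpr D.cs D.h (θ a) a = 0) {H : Subgroup K} (hH : Group.IsSolvable H)
    (hle : ∀ g, ι g ∈ D.S {a, -a, θ a, -θ a, θ (θ a), -θ (θ a)} → g ∈ H) : False := by
  obtain ⟨h1, h2, h3⟩ := hT.t1 a ha h
  have hg : D.g = θ := funext hM.g
  have ha1 : D.Rt (θ a) := hM.root ha
  have ha2 : D.Rt (θ (θ a)) := hM.root ha1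
  have key : ∀ i < 3, ∀ i' < 3, i ≠ i' → cpr D.cs D.h (D.g^[i] a) (D.g^[i'] a) = 0 := by
    intro i hi i' hi' hne
    rw [hg]
    interval_cases i <;> interval_cases i' <;> [(exact absurd rfl hne); (exact (hD.symm _ _ ha ha1).trans h); (exact (hD.symm _ _ ha ha2).trans h1); (exact h); (exact absurd rfl hne);
                                                (exact (hD.symm _ _ ha1 ha2).trans h2); (exact h1); (exact h2); (exact absurd rfl hne)]
  refine hNS p k Y N ρ F ⊤ D n 3 a hM.ex ha three_pos (le_trans (by norm_num) (Nat.pow_le_pow_left hM.two_le 3))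
    (by rw [hg]; exact h3) (fun i hi i' hi' hne => ⟨key i hi i' hi' hne,
      comm_of_orth hD (D.iterate_g_root i ha) (D.iterate_g_root i' ha) (key i hi i' hi' hne)⟩)
    (hM.solv hH fun g hg' => hle g (RGD.Sup_mono ?_ hg'))
  rintro c ⟨i, hi, hc⟩
  rw [hg] at hc
  interval_cases i <;> rcases hc with rfl | rfl <;> simp

theorem torC {ν c : ℕ} (hZ : im ι E ⊆ D.T) (hP : PPr D.cs D.h) (h2 : Sat 2 (D.Lam (im ι E))) (h0 : D.Sz (im ι E) = ∅)
    (hν : Nat.card ↥(D.T ⊓ GF F ⊤) ≤ ν) (hc : {v : D.W | ∀ x, θ (D.act v x) = D.act v (θ x)}.ncard ≤ c) : TorC p ν c E :=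
  ⟨(hM.card_le_T fun _ => hM.mem_T hZ hP h2 h0).trans hν, hM.not_dvd fun _ => hM.mem_T hZ hP h2 h0,
    (hM.relIndex_le hZ h0).trans hc⟩

/-! ### `G₂` -/

theorem oddG_aux (hNS : BoxNS) (hG : RG D.cs D.h) {w : D.W} (hθ : ∀ x, θ x = rep D.cs D.h w x) (hq : 3 ≤ p ^ n)
    (hE : EA r E) (h2 : r ≠ 2) (hs : Group.IsSolvable (Cz E)) (hZ : im ι E ⊆ D.T)
    (hpos : ∀ a ∈ D.Sz (im ι E), 0 ≤ a → 0 ≤ D.g a) :
    TorC p ((p ^ n + 1) ^ 2) 12 E ∧ {v | v ∈ Cz E ∧ v ^ 3 = 1}.ncard ≤ 9 := by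
  have hs2 : Sat 2 (D.Lam (im ι E)) := hM.sat hZ hE Nat.prime_two h2
  rcases (D.Sz (im ι E)).eq_empty_or_nonempty with h0 | h0
  · refine ⟨hM.torC hZ hG.pp hs2 h0 ?_ ((Set.ncard_le_card _).trans hG.cardW), ?_⟩
    · have := (hM.fq.card_T D).2
      rwa [hM.cardR, hG.cardI] at this
    · have := hM.card_three fun _ => hM.mem_T hZ hG.pp hs2 h0
      rwa [hG.cardI] at this
  exfalso
  obtain ⟨a, ha, h1⟩ := hG.fix w (D.Lam (im ι E)) h0 fun a ha h => ⟨hθ a ▸ hM.stab hZ ha.2, by rw [← hθ, ← hM.g]; exact hpos a ha h⟩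
  rcases hq.eq_or_lt with h3 | h3
  · obtain ⟨b, -, h4, h5⟩ := hG.orth w a ha.1 h1
    have h6 := hM.theta hZ b
    rw [← h3, hθ] at h6
    have h7 : b ∈ D.Lam (im ι E) := by
      rcases h4 with h4 | h4
      · refine hs2 _ ?_
        convert neg_mem h6 using 1
        rw [h4]
        push_cast
        module
      · refine hs2 _ (hs2 _ ?_)
        convert neg_mem h6 using 1
        rw [h4]
        push_cast
        module
    obtain ⟨x, hx⟩ := hM.proper hZ hE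
    obtain ⟨i, j, e⟩ := h5 x
    exact hx (hs2 x (e ▸ add_mem (zsmul_mem ha.2 i) (zsmul_mem h7 j)))
  · refine hM.ns_one hNS ha.1 ((hθ a).trans h1) h3 hs fun g hg => hM.le_cz hZ ?_ hg
    rintro c (rfl | rfl)
    exacts [ha, D.Sz_neg ha]

theorem oddG (hNS : BoxNS) (hG : RG D.cs D.h) (hθ : ∀ x, θ x = x) (hq : 3 ≤ p ^ n) (hE : EA r E) (h2 : r ≠ 2)
    (hs : Group.IsSolvable (Cz E)) (ht : ∃ g : Y, ∀ x ∈ E, g * ι x * g⁻¹ ∈ D.T) :
    TorC p ((p ^ n + 1) ^ 2) 12 E ∧ {v | v ∈ Cz E ∧ v ^ 3 = 1}.ncard ≤ 9 := by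
  obtain ⟨y, hy, hy', z, hz, hz', h3, h4⟩ := hM.frame ht
  refine ((hM.conj hy hy').conj hz hz').oddG_aux hNS hG
    (w := (D.conj hy hy').pr (z⁻¹ * F z) * D.pr (y⁻¹ * F y)) (fun x => ?_) hq hE h2 hs h3 h4
  rw [tw_tw]
  exact congrArg _ (hθ x)

theorem ccG (hG : RG D.cs D.h) (hE : EA r E) (h2 : r ≠ 2) (ht : ∃ g : Y, ∀ x ∈ E, g * ι x * g⁻¹ ∈ D.T) :
    Nat.card (Cz E) ≤ (p ^ n) ^ 6 * (p ^ n + 1) ^ 2 ∧ (r ≠ 3 → Nat.card (Cz E) ≤ (p ^ n) ^ 2 * (p ^ n + 1) ^ 2) := by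
  obtain ⟨y, hy, hy', z, hz, hz', h3, -⟩ := hM.frame ht
  have hM' := (hM.conj hy hy').conj hz hz'
  have hs2 := hM'.sat h3 hE Nat.prime_two h2
  have h4 := hM'.card_cz h3 hG.pp hs2
  have h5 : 0 < p ^ n := lt_of_lt_of_le two_pos hM.two_le
  rw [show Fintype.card ((D.conj hy hy').conj hz hz').I = 2 from hG.cardI] at h4
  exact ⟨h4.trans (Nat.mul_le_mul_right _ (Nat.pow_le_pow_right h5 (hG.six _ hs2 (hM'.proper h3 hE)))), fun h =>
    h4.trans (Nat.mul_le_mul_right _ (Nat.pow_le_pow_right h5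
      (hG.two _ hs2 (hM'.sat h3 hE Nat.prime_three h) (hM'.proper h3 hE))))⟩

/-! ### `³D₄` -/

theorem card_fit_eq (E : Subgroup K) :
    Nat.card (fittingSubgroup ↥(DL.fix F ⊓ centralizer (im ι E))) = Nat.card (SB.fit (Cz E)) := by
  have h1 : (Cz E).map ι = DL.fix F ⊓ centralizer (im ι E) := by
    ext y
    constructor
    · rintro ⟨g, hg, rfl⟩
      exact ⟨hM.fix g, hM.mem_cz.1 hg⟩
    · rintro ⟨h1, h2⟩
      obtain ⟨g, rfl⟩ := (hM.range y).1 h1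
      exact ⟨g, hM.mem_cz.2 h2, rfl⟩
  rw [card_fit, ← h1, ← Lib.Cores.map_equiv_fittingSubgroup ((Cz E).equivMapOfInjective ι hM.inj),
    card_map_of_injective (MulEquiv.injective _)]

theorem perp (hNS : BoxNS) (hD : RD D.cs D.h) (hT : RT D.cs D.h θ) (hS : Sit p r E) (h2 : r ≠ 2) (hZ : im ι E ⊆ D.T)
    {a : D.I → ℤ} (ha : D.Rt a) (h1 : θ a = a) (h3 : D.Sz (im ι E) = {a, -a}) : False := by
  have hs2 : Sat 2 (D.Lam (im ι E)) := hM.sat hZ hS.toEA Nat.prime_two h2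
  let X : Subgroup K := _root_.Subgroup.closure {x | x ∈ Cz E ∧ x ^ p = 1}
  have hX : Chr E X := chr_closure fun α hα x hx => ⟨(Chr.refl E).cz α hα x hx.1, by rw [← map_pow, hx.2, map_one]⟩
  have hXC : X ≤ Cz E := (closure_le _).2 fun x hx => hx.1
  obtain ⟨u, u1, u2, u3⟩ := hM.exists_unip ha h1
  have hX0 : X ≠ ⊥ := fun e => u1 (mem_bot.1 (e ▸ (subset_closure ⟨hM.le_cz hZ (A := {a}) (by rw [h3]; simp)
    (RGD.le_Sup (S := {a}) rfl u3), u2⟩ : u ∈ X)))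
  obtain ⟨c, hc, h4⟩ := hD.perp a ha
  obtain ⟨h5, h6, h7⟩ := hT.t2 a c ha hc h1 h4
  have hc1 : D.Rt (θ c) := hM.root hc
  have hc2 : D.Rt (θ (θ c)) := hM.root hc1
  refine hM.ns_three hNS hD hT hc h5 hS.solv fun g hg =>
    hS.max X hX0 (hXC.trans Cz_le_Nz) hX (Cz_le_Nz (?_ : g ∈ Cz X))
  have h8 : D.S {c, -c, θ c, -θ c, θ (θ c), -θ (θ c)} ≤ centralizer ((D.X a ⊔ D.X (-a) : Subgroup Y) : Set Y) := by
    have key : ∀ d, D.Rt d → cpr D.cs D.h d a = 0 →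
        D.X d ⊔ D.X (-d) ≤ centralizer ((D.X a ⊔ D.X (-a) : Subgroup Y) : Set Y) :=
      fun d hd h u hu v hv => (comm_of_orth hD hd ha h u hu v hv).symm
    refine RGD.Sup_le ?_
    rintro d (rfl | rfl | rfl | rfl | rfl | rfl)
    exacts [le_sup_left.trans (key _ hc h4), le_sup_right.trans (key _ hc h4), le_sup_left.trans (key _ hc1 h6),
      le_sup_right.trans (key _ hc1 h6), le_sup_left.trans (key _ hc2 h7), le_sup_right.trans (key _ hc2 h7)]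
  have h9 : D.S (D.Sz (im ι E)) ≤ D.X a ⊔ D.X (-a) := by
    rw [h3]
    refine RGD.Sup_le ?_
    rintro d (rfl | rfl)
    exacts [le_sup_left, le_sup_right]
  have h10 : X ≤ centralizer {g} := (closure_le _).2 fun x hx => mem_centralizer_singleton_iff.2
    (hM.inj (by rw [map_mul, map_mul]; exact h8 hg _ (h9 (hM.mem_S hZ hD.pp hs2 hx.1 hx.2))))
  exact mem_Cz.2 fun x hx => mem_centralizer_singleton_iff.1 (h10 hx)

theorem oddD_aux (hNS : BoxNS) (hX : BoxExt) (hD : RD D.cs D.h) (hT : RT D.cs D.h θ) (hS : Sit p r E) (h2 : r ≠ 2)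
    (hZ : im ι E ⊆ D.T) (hpos : ∀ a ∈ D.Sz (im ι E), 0 ≤ a → 0 ≤ D.g a) :
    TorC p (((p ^ n) ^ 2 + p ^ n + 1) ^ 2) 24 E ∨ (p ^ n = 2 ∧ r = 3 ∧ Nat.card E = 3 ∧ 2 ∣ Nat.card (Cz E)) := by
  have hE := hS.toEA
  have hs2 : Sat 2 (D.Lam (im ι E)) := hM.sat hZ hE Nat.prime_two h2
  have hs : Group.IsSolvable (Cz E) := hS.solv_of_le Cz_le_Nz
  rcases (D.Sz (im ι E)).eq_empty_or_nonempty with h0 | h0
  · exact Or.inl (hM.torC hZ hD.pp hs2 h0 (hM.card_T hT) hT.cw)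
  right
  rcases hT.cls (D.Lam (im ι E)) h0 (fun _ => hM.stab hZ) (fun a ha h => hM.g a ▸ hpos a ha h) with
    ⟨a, ha, h1⟩ | ⟨a, ha, h1, h3⟩ | ⟨a, b, ha, hb, a0, b0, hab, h3, h4⟩
  · refine (hM.ns_three hNS hD hT ha.1 h1 hs fun g hg => hM.le_cz hZ ?_ hg).elim
    have ha1 : θ a ∈ D.Sz (im ι E) := hM.g a ▸ hM.g_Sz hZ a ha
    have ha2 : θ (θ a) ∈ D.Sz (im ι E) := hM.g (θ a) ▸ hM.g_Sz hZ _ ha1
    rintro c (rfl | rfl | rfl | rfl | rfl | rfl)
    exacts [ha, D.Sz_neg ha, ha1, D.Sz_neg ha1, ha2, D.Sz_neg ha2]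
  · exact (hM.perp hNS hD hT hS h2 hZ ha h1 h3).elim
  have h3' : D.Sz (im ι E) = A2 a b := h3
  have h5 : θ (a + b) = a + b := by
    rcases h4 with ⟨h4, h5⟩ | ⟨h4, h5⟩
    · rw [map_add, h4, h5]
    · rw [map_add, h4, h5, add_comm]
  have hab' : a + b ∈ D.Sz (im ι E) := by rw [h3']; simp only [A2, _root_.neg_add_rev, _root_.Set.mem_insert_iff, _root_.add_eq_left, _root_.add_eq_right, _root_.Set.mem_singleton_iff, _root_.true_or, _root_.or_true]
  have ext : (D.g a = a ∧ D.g b = b) ∨ (D.g a = b ∧ D.g b = a ∧ p ≠ 2) → False := fun h =>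
    hS.not_dvd_fit Fact.out (Chr.refl E).cz Cz_le_Nz (hM.card_fit_eq E ▸ hX p k Y N ρ F D _ a b hD hZ
      (by rintro _ ⟨x, -, rfl⟩; exact hM.fix x) ha hb a0 b0 hab h3' ((hM.g _).trans h5) h
      (hM.solv hs fun g hg => hM.mem_cz.2 hg))
  rw [hM.g, hM.g] at ext
  rcases h4 with h4 | ⟨h4, h6⟩
  · exact (ext (Or.inl h4)).elim
  obtain rfl : p = 2 := by
    by_contra h
    exact ext (Or.inr ⟨h4, h6, h⟩)
  have hq : 2 ^ n = 2 := by
    by_contra h
    have h7 : 4 ≤ 2 ^ n := by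
      have h8 := hM.fq.1
      have h9 : n ≠ 1 := by rintro rfl; exact h rfl
      exact Nat.pow_le_pow_right (n := 2) (i := 2) two_pos (by omega)
    refine hM.ns_one hNS hab'.1 h5 h7 hs fun g hg => hM.le_cz hZ ?_ hg
    rintro c (rfl | rfl)
    exacts [hab', D.Sz_neg hab']
  obtain ⟨h7, x₀, h8⟩ := hT.tw a b ha hb hab h4 h6 (D.Lam (im ι E)) (show a ∈ D.Sz (im ι E) by rw [h3']; simp only [A2, _root_.neg_add_rev, _root_.Set.mem_insert_iff, _root_.left_eq_add, _root_.Set.mem_singleton_iff, _root_.true_or]).2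
    (show b ∈ D.Sz (im ι E) by rw [h3']; simp only [A2, _root_.neg_add_rev, _root_.Set.mem_insert_iff, _root_.right_eq_add, _root_.Set.mem_singleton_iff, _root_.true_or, _root_.or_true]).2 (fun x => by have := hM.theta hZ x; rwa [hq] at this)
  obtain rfl : r = 3 := by
    by_contra h
    obtain ⟨x, hx⟩ := hM.proper hZ hE
    exact hx (hM.sat hZ hE Nat.prime_three h x (h7 x))
  refine ⟨hq, rfl, le_antisymm ?_ ?_, ?_⟩
  · have h9 : ∀ x : E, Units.mk0 (D.χ x₀ (ι x)) (D.χ_ne_zero _ _) ∈ rootsOfUnity 3 k := fun x => by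
      have := h7 x₀ _ ⟨x, x.2, rfl⟩
      rw [D.χ_zsmul] at this
      exact Units.ext (by simpa only [_root_.Units.val_pow_eq_pow_val, _root_.Units.val_mk0, _root_.Units.val_one, _root_.zpow_ofNat] using this)
    refine le_trans (Nat.card_le_card_of_injective (fun x : E => (⟨_, h9 x⟩ : rootsOfUnity 3 k)) fun x y e => ?_)
      (card_rootsOfUnity k 3)
    have e1 : D.χ x₀ (ι x) = D.χ x₀ (ι y) := congrArg (fun z : rootsOfUnity 3 k => ((z : kˣ) : k)) e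
    have hx := hZ ⟨x, x.2, rfl⟩
    have hy := hZ ⟨y, y.2, rfl⟩
    have e2 : ι ((x : K)⁻¹ * y) = 1 := hM.eq_one (hZ ⟨_, mul_mem (inv_mem x.2) y.2, rfl⟩) fun c => by
      obtain ⟨i, hi⟩ := h8 c
      have e3 := hi _ ⟨_, mul_mem (inv_mem x.2) y.2, rfl⟩
      rw [sub_eq_add_neg, D.χ_add, D.χ_neg, D.χ_zsmul] at e3
      have e4 : D.χ x₀ (ι ((x : K)⁻¹ * y)) = 1 := by
        rw [map_mul, map_inv, D.χ_mul _ (inv_mem hx) hy, D.χ_inv _ hx, e1, inv_mul_cancel₀ (D.χ_ne_zero _ _)]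
      rwa [e4, one_zpow, inv_one, mul_one] at e3
    exact Subtype.ext (inv_mul_eq_one.1 (hM.inj (e2.trans (map_one ι).symm)))
  · obtain ⟨x, hx, -, h9⟩ := hE.exists_ne
    exact Nat.le_of_dvd Nat.card_pos (h9 ▸ E.orderOf_dvd_natCard hx)
  · obtain ⟨u, u1, u2, u3⟩ := hM.exists_unip hab'.1 h5
    rw [← orderOf_eq_prime u2 u1]
    exact (Cz E).orderOf_dvd_natCard (hM.le_cz hZ (A := {a + b}) (by rintro _ rfl; exact hab')
      (RGD.le_Sup (S := {a + b}) rfl u3))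

theorem oddD (hNS : BoxNS) (hX : BoxExt) (hD : RD D.cs D.h) (hT : ∀ w, RT D.cs D.h (tw D.cs D.h w θ)) (hS : Sit p r E)
    (h2 : r ≠ 2) (ht : ∃ g : Y, ∀ x ∈ E, g * ι x * g⁻¹ ∈ D.T) :
    TorC p (((p ^ n) ^ 2 + p ^ n + 1) ^ 2) 24 E ∨ (p ^ n = 2 ∧ r = 3 ∧ Nat.card E = 3 ∧ 2 ∣ Nat.card (Cz E)) := by
  obtain ⟨y, hy, hy', z, hz, hz', h3, h4⟩ := hM.frame ht
  exact ((hM.conj hy hy').conj hz hz').oddD_aux hNS hX hD (by rw [tw_tw]; exact hT _) hS h2 h3 h4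

theorem ccD (hD : RD D.cs D.h) (hT : ∀ w, RT D.cs D.h (tw D.cs D.h w θ)) (hE : EA r E) (h2 : r ≠ 2)
    (ht : ∃ g : Y, ∀ x ∈ E, g * ι x * g⁻¹ ∈ D.T) : Nat.card (Cz E) ≤ (p ^ n) ^ 6 * (p ^ n + 1) ^ 4 := by
  obtain ⟨y, hy, hy', z, hz, hz', h3, -⟩ := hM.frame ht
  have hM' := (hM.conj hy hy').conj hz hz'
  have hs2 := hM'.sat h3 hE Nat.prime_two h2
  have h4 := hM'.card_cz h3 hD.pp hs2
  have h5 : 0 < p ^ n := lt_of_lt_of_le two_pos hM.two_le
  have h6 := fun x => hM'.stab h3 (x := x)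
  rw [show Fintype.card ((D.conj hy hy').conj hz hz').I = 4 from hD.cardI] at h4
  rw [tw_tw] at h6
  exact h4.trans (Nat.mul_le_mul_right _ (Nat.pow_le_pow_right h5 ((hT _).six _ hs2 (hM'.proper h3 hE) h6)))

end Md

end Cfsg.Agent.SB.Low
end

private theorem dce_2257e05f3b6e : _root_.True := by
  try have : _root_.True := by simp only [_root_.Cfsg.Agent.SB.Low.A2.eq_1]
  try have : _root_.True := by simp only [_root_.Cfsg.Agent.SB.R1.innS.eq_1]
  exact _root_.True.intro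
end

-- part: SB/Low/Model
section
set_option linter.all false
open scoped Cfsg.Agent.FastGrp

/-!
# S5765, `G₂(q)` and `³D₄(q)`: the models (helper68)
-/

set_option autoImplicit false
set_option linter.unusedSectionVars false

namespace Cfsg.Agent.SB.Low

open Subgroup Cfsg Cfsg.Lie CoxeterSystem Cfsg.Agent.H786.FC Cfsg.Lie.ChevalleyDatum
open Cfsg.Agent.ChevalleyStructure.CoxeterGeom Cfsg.Agent.Tits.Roots Cfsg.Agent.Nodes.Reps Cfsg.Agent.Nodes.BNOf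
  Cfsg.Agent.Nodes.Coroot Cfsg.Agent.DL Cfsg.Agent.SB.Exc Cfsg.Agent.Nodes.RGDChev Cfsg.Agent.H469.Exc
  Cfsg.Agent.H316.U6 Cfsg.Agent.KFacts.RgdChevCoord

section

variable {D : ChevalleyDatum} {l : ℕ} {M : CoxeterMatrix (Fin l)} {hp : IsType D l M} {p q : ℕ} [Fact p.Prime]
  {K : Type} [Group K] [Finite K] (m : MData hp p q K)

/-- the standard datum -/
noncomputable abbrev dat : Datum p (D.group (KK p)).subtype m.σ ⊤ := DL.Ex.chevFr hp (locFin p) m.he m.frob m.fr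

theorem md (h : m.dd = 1) : Md m.e (dat m) m.ι m.g.toAddMonoidHom :=
  ⟨CI.fq m.he m.frob, m.inj, fun y => ⟨fun hy => by have := m.pow_dd y hy; rwa [h, pow_one] at this,
    by rintro ⟨x, rfl⟩; exact m.fix x⟩, fun _ _ => rfl, Function.bijective_id, fun _ => rfl⟩

theorem toral (hD : D = chevG2 ∨ D = chevD4) {r : ℕ} {E : Subgroup K} (hE : EA r E) (h2 : r ≠ 2) (hr : r ≠ p) :
    ∃ g, ∀ x ∈ E, g * m.ι x * g⁻¹ ∈ (dat m).T := by
  have h : H818.Gen.Tor.TorCase D r := by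
    by_cases h3 : r = 3
    · exact Or.inr ⟨h3, hD⟩
    · refine Or.inl ⟨hE.prime.five_le_of_ne_two_of_ne_three h2 h3, fun e => ?_⟩
      rcases hD with h | h <;> exact absurd (congrArg ChevalleyDatum.nroots (h.symm.trans e)) (by decide +kernel)
  obtain ⟨hW, hT⟩ := H818.Gen.Tor.tors_ok hp hE.prime h
  have : Finite ↥(E.map m.ι) := Finite.of_surjective _ (m.ι.subgroupMap_surjective E)
  obtain ⟨g, hg⟩ := H795.TorSub.exists_toral_abelian hp p (locFin p) hE.prime hr hW hT (hE.isPGroup.map m.ι) (by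
    rintro _ ⟨a, ha, rfl⟩ _ ⟨b, hb, rfl⟩
    rw [← map_mul, ← map_mul, hE.comm a ha b hb])
  exact ⟨g, fun x hx => hg _ ⟨x, hx, rfl⟩⟩

end

section

variable {K : Type} [Group K] [Finite K]

theorem ea_zpowers {x : K} (h : (orderOf x).Prime) : EA (orderOf x) (zpowers x) := by
  refine ⟨h, fun e => ?_, ?_, ?_⟩
  · rw [zpowers_eq_bot] at e
    rw [e, orderOf_one] at h
    exact Nat.not_prime_one h
  · rintro _ ⟨j, rfl⟩
    rw [← zpow_natCast, ← zpow_mul, mul_comm, zpow_mul, zpow_natCast, pow_orderOf_eq_one, one_zpow]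
  · rintro _ ⟨i, rfl⟩ _ ⟨j, rfl⟩
    exact (Commute.zpow_zpow_self x i j).eq

omit [Finite K] in
theorem cz_zpowers (x : K) : Cz (zpowers x) = centralizer {x} := by
  rw [zpowers_eq_closure]
  exact centralizer_closure _

/-- the facts on `G₂(q)` for odd primes -/
structure OddG (p q : ℕ) (K : Type) [Group K] : Prop where
  tor : ∀ r (E : Subgroup K), EA r E → r ≠ 2 → r ≠ p → Group.IsSolvable (Cz E) →
    TorC p ((q + 1) ^ 2) 12 E ∧ {v | v ∈ Cz E ∧ v ^ 3 = 1}.ncard ≤ 9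
  c6 : ∀ x : K, (orderOf x).Prime → orderOf x ≠ 2 → orderOf x ≠ p → cc x ≤ q ^ 6 * (q + 1) ^ 2
  c2 : ∀ x : K, (orderOf x).Prime → orderOf x ≠ 2 → orderOf x ≠ p → orderOf x ≠ 3 → cc x ≤ q ^ 2 * (q + 1) ^ 2

/-- the facts on `³D₄(q)` for odd primes -/
structure OddD (p q : ℕ) (K : Type) [Group K] : Prop where
  tor : ∀ r (E : Subgroup K), Sit p r E → r ≠ 2 →
    TorC p ((q ^ 2 + q + 1) ^ 2) 24 E ∨ (q = 2 ∧ r = 3 ∧ Nat.card E = 3 ∧ 2 ∣ Nat.card (Cz E))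
  c6 : ∀ x : K, (orderOf x).Prime → orderOf x ≠ 2 → orderOf x ≠ p → cc x ≤ q ^ 6 * (q + 1) ^ 4

end

theorem oddG (hNS : BoxNS) (hT : BoxTabG) (p : ℕ) [Fact p.Prime] (F : Type) [Field F] [Fintype F] [CharP F p]
    [Finite ↥(chevG2.group F)] (hq : 3 ≤ Fintype.card F) : OddG p (Fintype.card F) ↥(chevG2.group F) := by
  obtain ⟨m, hg, h⟩ := mdata_untw (r := p) hpG2 (fun e => absurd (congrArg ChevalleyDatum.nroots e) (by decide +kernel))
    (fun e => absurd (congrArg ChevalleyDatum.nroots e) (by decide +kernel)) F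
  have hd : m.dd = 1 := by
    rcases h with h | ⟨-, e⟩ | ⟨-, e⟩
    · exact h.1
    all_goals exact absurd (congrArg ChevalleyDatum.nroots e) (by decide +kernel)
  have hM := md m hd
  have he := m.hq
  refine ⟨fun r E hE h2 hr hs => ?_, fun x h1 h2 h3 => ?_, fun x h1 h2 h3 h4 => ?_⟩
  · rw [← he]
    exact hM.oddG hNS hT (fun x => by rw [hg]; rfl) (hq.trans he.ge) hE h2 hs (toral m (Or.inl rfl) hE h2 hr)
  · rw [← he, cc, ← cz_zpowers]
    exact (hM.ccG hT (ea_zpowers h1) h2 (toral m (Or.inl rfl) (ea_zpowers h1) h2 h3)).1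
  · rw [← he, cc, ← cz_zpowers]
    exact (hM.ccG hT (ea_zpowers h1) h2 (toral m (Or.inl rfl) (ea_zpowers h1) h2 h3)).2 h4

theorem oddD (hNS : BoxNS) (hX : BoxExt) (hT : BoxTabD) (p : ℕ) [Fact p.Prime] (F : Type) [Field F] [Fintype F] [CharP F p]
    {q : ℕ} (hq : IsPrimePow q) (hF : Fintype.card F = q ^ 3) [Finite ↥(twistedD4 F q)] : OddD p q ↥(twistedD4 F q) := by
  obtain ⟨m, hd, hg⟩ := mdata_twD4' (r := p) hq hF
  have hM := md m hd
  have he := m.hq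
  have h0 : ∀ w, RT (dat m).cs (dat m).h (tw (dat m).cs (dat m).h w m.g.toAddMonoidHom) := by
    rw [hg]
    exact hT.2
  refine ⟨fun r E hS h2 => ?_, fun x h1 h2 h3 => ?_⟩
  · have := hM.oddD hNS hX hT.1 h0 hS h2 (toral m (Or.inr rfl) hS.toEA h2 hS.ne)
    rwa [he] at this
  · have := hM.ccD hT.1 h0 (ea_zpowers h1) h2 (toral m (Or.inr rfl) (ea_zpowers h1) h2 h3)
    rwa [he, cz_zpowers] at this

end Cfsg.Agent.SB.Low

private theorem dce_7ff351cab76d : _root_.True := by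
  try have : _root_.True := by simp only [_root_.Cfsg.Agent.SB.Low.cc.eq_1]
  exact _root_.True.intro
end

-- part: SB/Low/TabD
section
prune_inst 0x30306500742200000018001002000020300000020000080000c00502014dc0022040880042000402100008001800002000000000400000000a000000000400209002400492080104060001800003180c00000000000000000000000000000000000000000
set_option linter.all false
open scoped Cfsg.Agent.FastGrp

/-!
# S5765 : root tables for `D₄` with the triality (helper61)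

`boxTabD : BoxTabD`.
-/

set_option autoImplicit false
set_option linter.unusedSectionVars false

namespace Cfsg.Agent.SB.Low

open Subgroup Cfsg Cfsg.Lie CoxeterSystem
open Cfsg.Agent.ChevalleyStructure.CoxeterGeom Cfsg.Agent.ChevalleyStructure.CoxeterGeomTypes Cfsg.Agent.Tits.Roots
  Cfsg.Agent.Nodes.Reps Cfsg.Agent.Nodes.Coroot Cfsg.Agent.Nodes.RGDChev Cfsg.Lie.ChevalleyDatum
  Cfsg.Agent.Nodes.RGDTwD4

namespace Tab.D

theorem tv_vt (x : Fin 4 → ℤ) : tv (vt x) = x := by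
  funext i; fin_cases i <;> rfl

theorem vt_tv (x : T4) : vt (tv x) = x := rfl

theorem vt_inj : Function.Injective vt := fun x y e => by rw [← tv_vt x, e, tv_vt]

theorem vt_add (x y : Fin 4 → ℤ) : vt (x + y) = vt x + vt y := rfl
theorem vt_sub (x y : Fin 4 → ℤ) : vt (x - y) = vt x - vt y := rfl
theorem vt_neg (x : Fin 4 → ℤ) : vt (-x) = -vt x := rfl
theorem vt_smul (c : ℤ) (x : Fin 4 → ℤ) : vt (c • x) = c • vt x := rfl

theorem pos_iff (x : Fin 4 → ℤ) : pos (vt x) = true ↔ 0 ≤ x := by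
  rw [pos, Bool.and_eq_true, Bool.and_eq_true, Bool.and_eq_true, decide_eq_true_iff, decide_eq_true_iff,
    decide_eq_true_iff, decide_eq_true_iff, Pi.le_def]
  refine ⟨fun h i => ?_, fun h => ⟨⟨⟨h 0, h 1⟩, h 2⟩, h 3⟩⟩
  fin_cases i
  exacts [h.1.1.1, h.1.1.2, h.1.2, h.2]

theorem cramer (a b c d x : Fin 4 → ℤ) : dt (cr (vt a) (vt b) (vt c)) (vt d) • x =
    dt (cr (vt x) (vt b) (vt c)) (vt d) • a + dt (cr (vt a) (vt x) (vt c)) (vt d) • b +
      dt (cr (vt a) (vt b) (vt x)) (vt d) • c + dt (cr (vt a) (vt b) (vt c)) (vt x) • d := by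
  apply vt_inj
  simp only [vt_add, vt_smul]
  generalize vt a = a
  generalize vt b = b
  generalize vt c = c
  generalize vt d = d
  generalize vt x = x
  refine Prod.ext ?_ (Prod.ext ?_ (Prod.ext ?_ ?_)) <;>
    simp only [dt, cr, Prod.fst_add, Prod.snd_add, Prod.smul_fst, Prod.smul_snd, smul_eq_mul] <;> ring

/-- the matrix of an additive map -/
def mt (f : (Fin 4 → ℤ) →+ (Fin 4 → ℤ)) : M4 := (vt (f (sr 0)), vt (f (sr 1)), vt (f (sr 2)), vt (f (sr 3)))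

theorem ap_mt (f : (Fin 4 → ℤ) →+ (Fin 4 → ℤ)) (x : Fin 4 → ℤ) : vt (f x) = ap (mt f) (vt x) := by
  conv_lhs => rw [Nodes.SimplyLaced.eq_sum_sr x, Fin.sum_univ_four, map_add, map_add, map_add, map_zsmul, map_zsmul,
    map_zsmul, map_zsmul]
  rfl

theorem det_four (A : Matrix (Fin 4) (Fin 4) ℤ) :
    A.det = e4 (vt fun i => A i 0, vt fun i => A i 1, vt fun i => A i 2, vt fun i => A i 3) := by
  rw [Matrix.det_succ_row_zero]
  simp [Fin.sum_univ_succ, Matrix.det_fin_three, Fin.succAbove, e4, dt, cr, vt]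
  ring

theorem det_eq (f : (Fin 4 → ℤ) →ₗ[ℤ] (Fin 4 → ℤ)) : LinearMap.det f = e4 (mt f.toAddMonoidHom) := by
  rw [← LinearMap.det_toMatrix', det_four]
  rfl

theorem ne4 : ∀ i j : Fin 4, coxeterD4 i j ≠ 4 := fun i j => by
  fin_cases i <;> fin_cases j <;> decide

theorem ne6 : ∀ i j : Fin 4, coxeterD4 i j ≠ 6 := fun i j => by
  fin_cases i <;> fin_cases j <;> decide

variable {W : Type} [Group W] [Finite W] (cs : CoxeterSystem coxeterD4 W)

theorem root_iff (x : Fin 4 → ℤ) : IsRoot cs hp.isCartan x ↔ vt x ∈ RL := by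
  rw [isRoot_iff hp cs]
  constructor
  · rintro ⟨s, hs, rfl⟩
    exact vec_mem s hs
  · intro h
    obtain ⟨s, hs, h1⟩ := List.any_eq_true.1 (List.all_eq_true.1 mem_vec _ h)
    exact ⟨s, List.mem_range.1 hs, vt_inj (beq_iff_eq.1 h1)⟩

theorem cpr_eq (x : Fin 4 → ℤ) {c : Fin 4 → ℤ} (hc : IsRoot cs hp.isCartan c) :
    cpr cs hp.isCartan x c = ip (vt x) (vt c) := by
  rw [Nodes.SimplyLaced.cpr_eq_sum cs hp.isCartan ne4 ne6 _ hc]
  simp only [pairing, cartan_eq, Fin.sum_univ_four, vt, ip, dt]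
  simp
  ring

/-- the matrix -/
noncomputable def mat (w : W) : M4 := mt (rep cs hp.isCartan w).toAddMonoidHom

theorem ap_mat (w : W) (x : Fin 4 → ℤ) : vt (rep cs hp.isCartan w x) = ap (mat cs w) (vt x) :=
  ap_mt (rep cs hp.isCartan w).toAddMonoidHom x

theorem mat_inj : Function.Injective (mat cs) := fun v w e => rep_injective cs hp.isCartan
  (LinearMap.ext fun x => vt_inj (by rw [ap_mat, ap_mat, e]))

theorem mat_one : mat cs 1 = id4 := by
  rw [mat, map_one]; rfl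

theorem mat_mul {c : Fin 4 → ℤ} (hc : IsRoot cs hp.isCartan c) {s : W}
    (hs : ∀ b, rep cs hp.isCartan s b = b - cpr cs hp.isCartan b c • c) (v : W) :
    mat cs (s * v) = rm (vt c) (mat cs v) := by
  simp only [mat, mt, LinearMap.toAddMonoidHom_coe, rep_mul_apply, hs, cpr_eq cs _ hc]
  rfl

theorem mat_mem (w : W) : mat cs w ∈ WL := by
  induction w using cs.simple_induction_left with
  | one => rw [mat_one]; exact List.mem_cons_self
  | mul_simple_left w i ih =>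
    rw [mat_mul cs (isRoot_sr cs _ i) (simple_rf cs _ i)]
    refine List.contains_iff_mem.1 (List.all_eq_true.1 (List.all_eq_true.1 chk_W _ ih) _ ?_)
    revert i
    decide +kernel

theorem rd : RD cs hp.isCartan where
  cardI := rfl
  pp := pp_of cs _ (fun v => WL.idxOf (mat cs v)) fun v => by
    obtain ⟨p, hp', e⟩ := List.mem_map.1 (mat_mem cs v)
    have h := List.all_eq_true.1 chk_pp p hp'
    simp only [Bool.or_eq_true, Bool.and_eq_true, beq_iff_eq, List.contains_iff_mem, decide_eq_true_eq] at h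
    rcases h with h | ⟨⟨h1, h2⟩, h3⟩
    · exact Or.inl (mat_inj cs (by rw [← e, h, mat_one]))
    · have hc := (root_iff cs (tv p.2.1)).2 h1
      refine Or.inr ⟨tv p.2.1, tv p.2.2, hc, vt_inj ?_, fun s hs => ?_⟩
      · rw [vt_sub, ap_mat, ← e]
        exact h2
      · rw [mat_mul cs hc hs, ← e]
        exact h3
  symm := fun _ _ ha hb => Nodes.SimplyLaced.cpr_symm cs _ ne4 ne6 ha hb
  btw0 := btw0 cs _ ne4 ne6
  btw1 := btw1 cs _ ne4 ne6
  perp := fun a ha => by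
    obtain ⟨c, hc, h⟩ := List.any_eq_true.1 (List.all_eq_true.1 chk_perp _ ((root_iff cs a).1 ha))
    exact ⟨tv c, (root_iff cs _).2 hc, (cpr_eq cs _ ha).trans (beq_iff_eq.1 h)⟩

section

variable {θ : (Fin 4 → ℤ) →+ (Fin 4 → ℤ)} {m : M4} (hm : m ∈ WL) (hθ : ∀ x, vt (θ x) = ap (tm m) (vt x))
  (hr : ∀ a, IsRoot cs hp.isCartan a → IsRoot cs hp.isCartan (θ a))

include hm hθ hr

theorem six (Λ : AddSubgroup (Fin 4 → ℤ)) (hΛ : Sat 2 Λ) (hx : ∃ x, x ∉ Λ) (hs : ∀ x ∈ Λ, θ x ∈ Λ) :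
    (Ps cs hp.isCartan Λ).ncard ≤ 6 := by
  obtain ⟨x, hx⟩ := hx
  by_contra hc
  push Not at hc
  have nd : ∀ a ∈ Λ, ∀ b ∈ Λ, ∀ c ∈ Λ, ∀ d ∈ Λ, ¬ un (dt (cr (vt a) (vt b) (vt c)) (vt d)) = true :=
    fun a ha b hb c hc d hd h => hx (mem_of_un hΛ h (cramer a b c d x ▸ add_mem (add_mem (add_mem (Λ.zsmul_mem ha _)
      (Λ.zsmul_mem hb _)) (Λ.zsmul_mem hc _)) (Λ.zsmul_mem hd _)))
  obtain ⟨a, ha, -⟩ := exists_out (S := Ps cs hp.isCartan Λ) vt_inj [] (by simp only [List.length_nil]; omega)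
  obtain ⟨b, hb, hb'⟩ := exists_out (S := Ps cs hp.isCartan Λ) vt_inj [vt a, -vt a]
    (by simp only [List.length_cons, List.length_nil]; omega)
  have h1 := List.all_eq_true.1 (List.all_eq_true.1 chk_six _ ((root_iff cs a).1 ha.1)) _ ((root_iff cs b).1 hb.1)
  rw [Bool.or_eq_true, List.contains_iff_mem, Bool.and_eq_true, decide_eq_true_iff, List.all_eq_true] at h1
  obtain ⟨h1, h2⟩ := h1.resolve_left hb'
  obtain ⟨c, hc1, hc'⟩ := exists_out (S := Ps cs hp.isCartan Λ) vt_inj _ (h1.trans_lt hc)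
  have h3 := h2 _ ((root_iff cs c).1 hc1.1)
  rw [Bool.or_eq_true, Bool.or_eq_true, List.contains_iff_mem, decide_eq_true_iff] at h3
  rcases h3 with (h3 | h3) | h3
  · exact hc' (List.mem_filter.2 ⟨(root_iff cs c).1 hc1.1, h3⟩)
  · obtain ⟨r, -, h4⟩ := List.any_eq_true.1 (List.all_eq_true.1 (List.all_eq_true.1 chk_nl m hm) _ h3)
    rw [Bool.and_eq_true, beq_iff_eq, beq_iff_eq, ← vt_tv r, ← hθ] at h4
    have h5 := cramer a b c (θ (tv r)) (tv r)
    rw [h4.1, zero_smul, add_zero] at h5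
    have h6 : tv r ∈ Λ := mem_of_sq h4.2 (h5 ▸ add_mem (add_mem (Λ.zsmul_mem ha.2 _) (Λ.zsmul_mem hb.2 _))
      (Λ.zsmul_mem hc1.2 _))
    refine nd a ha.2 b hb.2 c hc1.2 _ (hs _ h6) ?_
    rcases Int.eq_one_or_neg_one_of_mul_eq_one h4.2 with e | e <;> rw [e] <;> rfl
  · obtain ⟨d, hd, hd'⟩ := exists_out (S := Ps cs hp.isCartan Λ) vt_inj _ (h3.trans_lt hc)
    refine hd' (List.mem_filter.2 ⟨(root_iff cs d).1 hd.1, ?_⟩)
    rw [Bool.not_eq_true', ← Bool.not_eq_true]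
    exact nd a ha.2 b hb.2 c hc1.2 d hd.2

theorem no_orth {Λ : AddSubgroup (Fin 4 → ℤ)} (hs : ∀ x ∈ Λ, θ x ∈ Λ)
    (hpos : ∀ a ∈ Ps cs hp.isCartan Λ, 0 ≤ a → 0 ≤ θ a)
    (h0 : ∀ a ∈ Ps cs hp.isCartan Λ, cpr cs hp.isCartan (θ a) a ≠ 0) :
    ∀ a ∈ Ps cs hp.isCartan Λ, ∀ b ∈ Ps cs hp.isCartan Λ, ip (vt a) (vt b) ≠ 0 := by
  have step : ∀ G : List T4, (∀ a ∈ Ps cs hp.isCartan Λ, vt a ∈ G) → ∀ a ∈ Ps cs hp.isCartan Λ, vt a ∈ pr (tm m) G := by
    intro G hG a ha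
    refine List.mem_filter.2 ⟨hG a ha, ?_⟩
    rw [← hθ, ← vt_sub, Bool.and_eq_true, Bool.or_eq_true, Bool.not_eq_true', ← Bool.not_eq_true,
      List.contains_iff_mem, List.contains_iff_mem, List.contains_iff_mem, ← root_iff cs, ← imp_iff_not_or]
    exact ⟨hG _ ⟨hr a ha.1, hs a ha.2⟩, fun h => hG _ ⟨h, sub_mem ha.2 (hs a ha.2)⟩⟩
  have h1 : ∀ a ∈ Ps cs hp.isCartan Λ, vt a ∈ RL.filter (good (tm m)) := by
    intro a ha
    refine List.mem_filter.2 ⟨(root_iff cs a).1 ha.1, ?_⟩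
    rw [good, ← hθ, ← vt_neg, ← vt_neg, ← cpr_eq cs _ ha.1]
    simp only [Bool.and_eq_true, Bool.or_eq_true, Bool.not_eq_true', ← Bool.not_eq_true, pos_iff, ← imp_iff_not_or,
      bne_iff_ne]
    exact ⟨⟨h0 a ha, hpos a ha⟩, fun h => map_neg θ a ▸ hpos _ ⟨ha.1.neg, neg_mem ha.2⟩ h⟩
  have h2 := step _ (step _ (step _ (step _ (step _ h1))))
  intro a ha b hb h3
  have h4 := List.all_eq_true.1 (List.all_eq_true.1 (List.all_eq_true.1 chk_cls m hm) _ (h2 a ha)) _ (h2 b hb)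
  rw [← hθ, ← vt_sub, ← vt_add] at h4
  simp only [Bool.and_eq_true, Bool.or_eq_true, Bool.not_eq_true', ← Bool.not_eq_true, bne_iff_ne,
    List.contains_iff_mem, ← root_iff cs] at h4
  rcases h4 with (h4 | h4) | h4
  · exact h4 h3
  · exact h4.2 (h2 _ ⟨h4.1, sub_mem hb.2 (hs a ha.2)⟩)
  · exact h4.2 (h2 _ ⟨h4.1, add_mem hb.2 (hs a ha.2)⟩)

omit hm hθ hr in
theorem mem_a2 {a b x : Fin 4 → ℤ} : vt x ∈ a2 (vt a) (vt b) ↔ x ∈ A2 a b := by
  simp only [a2, A2, ← vt_add, ← vt_neg, List.mem_cons, List.not_mem_nil, or_false, vt_inj.eq_iff, Set.mem_insert_iff,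
    Set.mem_singleton_iff]

theorem cls' (Λ : AddSubgroup (Fin 4 → ℤ)) (hne : (Ps cs hp.isCartan Λ).Nonempty) (hs : ∀ x ∈ Λ, θ x ∈ Λ)
    (hpos : ∀ a ∈ Ps cs hp.isCartan Λ, 0 ≤ a → 0 ≤ θ a) :
    (∃ a ∈ Ps cs hp.isCartan Λ, cpr cs hp.isCartan (θ a) a = 0) ∨
      (∃ a, IsRoot cs hp.isCartan a ∧ θ a = a ∧ Ps cs hp.isCartan Λ = {a, -a}) ∨
      ∃ a b, IsRoot cs hp.isCartan a ∧ IsRoot cs hp.isCartan b ∧ 0 ≤ a ∧ 0 ≤ b ∧ cpr cs hp.isCartan b a = -1 ∧
        Ps cs hp.isCartan Λ = A2 a b ∧ ((θ a = a ∧ θ b = b) ∨ (θ a = b ∧ θ b = a)) := by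
  refine or_iff_not_imp_left.2 fun h0 => ?_
  push Not at h0
  have hno := no_orth cs hm hθ hr hs hpos h0
  obtain ⟨a, ha⟩ := hne
  wlog a0 : 0 ≤ a generalizing a
  · exact this (-a) ⟨ha.1.neg, neg_mem ha.2⟩ (ha.1.not_nonneg_iff_neg.1 a0)
  by_cases h1 : ∀ c ∈ Ps cs hp.isCartan Λ, c = a ∨ c = -a
  · refine Or.inl ⟨a, ha.1, (h1 _ ⟨hr a ha.1, hs a ha.2⟩).resolve_right fun e => ?_, Set.Subset.antisymm h1 ?_⟩
    · exact ha.1.not_pos_neg a0 (neg_nonneg.1 (e ▸ hpos a ha a0))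
    · rintro _ (rfl | rfl)
      exacts [ha, ⟨ha.1.neg, neg_mem ha.2⟩]
  push Not at h1
  obtain ⟨c, hc, c1, c2⟩ := h1
  have h2 := List.all_eq_true.1 (List.all_eq_true.1 chk_a2 _ ((root_iff cs a).1 ha.1)) _ ((root_iff cs c).1 hc.1)
  rw [Bool.or_eq_true, Bool.or_eq_true, List.contains_iff_mem, beq_iff_eq, List.any_eq_true] at h2
  rcases h2 with (h2 | h2) | ⟨x, hx, h2⟩
  · simp only [← vt_neg, List.mem_cons, List.not_mem_nil, or_false, vt_inj.eq_iff] at h2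
    exact (h2.elim c1 c2).elim
  · exact (hno c hc a ha h2).elim
  obtain ⟨y, hy, h2⟩ := List.any_eq_true.1 h2
  have hL : ∀ z ∈ [vt a, vt c, rf (vt a) (vt c), -vt a, -vt c, -rf (vt a) (vt c)], tv z ∈ Λ := by
    have h3 : c - ip (vt c) (vt a) • a ∈ Λ := sub_mem hc.2 (Λ.zsmul_mem ha.2 _)
    have h4 : rf (vt a) (vt c) = vt (c - ip (vt c) (vt a) • a) := rfl
    simp only [h4, ← vt_neg, List.mem_cons, List.not_mem_nil, or_false]
    rintro _ (rfl | rfl | rfl | rfl | rfl | rfl) <;> rw [tv_vt]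
    exacts [ha.2, hc.2, h3, neg_mem ha.2, neg_mem hc.2, neg_mem h3]
  have hxΛ := hL x hx
  have hyΛ := hL y hy
  rw [← vt_tv x, ← vt_tv y] at h2
  generalize tv x = x at hxΛ h2
  generalize tv y = y at hyΛ h2
  simp only [Bool.and_eq_true, Bool.or_eq_true, Bool.not_eq_true', ← Bool.not_eq_true, pos_iff, beq_iff_eq,
    List.all_eq_true, List.contains_iff_mem] at h2
  obtain ⟨⟨⟨⟨⟨x0, y0⟩, h3⟩, h4⟩, h5⟩, h6⟩ := h2
  have hR : ∀ z ∈ A2 x y, z ∈ Ps cs hp.isCartan Λ := fun z hz => ⟨(root_iff cs z).2 (h4 _ (mem_a2.2 hz)), by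
    rcases hz with rfl | rfl | rfl | rfl | rfl | rfl
    exacts [hxΛ, hyΛ, add_mem hxΛ hyΛ, neg_mem hxΛ, neg_mem hyΛ, neg_mem (add_mem hxΛ hyΛ)]⟩
  have px := hR x (by simp [A2])
  have py := hR y (by simp [A2])
  have pxy := hR (x + y) (by simp [A2])
  have hR' : ∀ z ∈ Ps cs hp.isCartan Λ, z ∈ A2 x y := fun z hz => by
    rcases h6 _ ((root_iff cs z).1 hz.1) with ((h | h) | h) | h
    exacts [mem_a2.1 h, (hno x px z hz h).elim, (hno y py z hz h).elim, (hno _ pxy z hz h).elim]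
  have hθ' : ∀ z ∈ Ps cs hp.isCartan Λ, vt (θ z) ∈ a2 (vt x) (vt y) := fun z hz =>
    mem_a2.2 (hR' _ ⟨hr z hz.1, hs z hz.2⟩)
  refine Or.inr ⟨x, y, px.1, py.1, x0, y0, (cpr_eq cs _ px.1).trans h3, Set.Subset.antisymm hR' hR, ?_⟩
  have h7 := h5 _ (hθ' x px) _ (hθ' y py)
  simp only [pos_iff, vt_inj.eq_iff] at h7
  rcases h7 with (((h | h) | h) | h) | h
  · exact absurd (hpos x px x0) h
  · exact absurd (hpos y py y0) h
  · exact absurd (by rw [← vt_add, ← map_add]; exact hθ' _ pxy) h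
  · exact Or.inl h
  · exact Or.inr h

theorem rt : RT cs hp.isCartan θ where
  t1 := fun a ha h => by
    have h1 := List.all_eq_true.1 (List.all_eq_true.1 chk_t1 m hm) _ ((root_iff cs a).1 ha)
    simp only [← hθ, ← vt_neg, ← cpr_eq cs _ ha, ← cpr_eq cs _ (hr a ha), Bool.or_eq_true, Bool.and_eq_true, bne_iff_ne,
      beq_iff_eq, vt_inj.eq_iff] at h1
    exact and_assoc.1 (h1.resolve_left fun h2 => h2 h)
  t2 := fun a c ha hc h h' => by
    have h1 := List.all_eq_true.1 (List.all_eq_true.1 chk_t2 m hm) _ ((root_iff cs a).1 ha)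
    rw [← hθ, h, bne_self_eq_false, Bool.false_or] at h1
    have h2 := List.all_eq_true.1 h1 _ ((root_iff cs c).1 hc)
    simp only [← hθ, ← cpr_eq cs _ ha, ← cpr_eq cs _ hc, Bool.or_eq_true, Bool.and_eq_true, bne_iff_ne,
      beq_iff_eq] at h2
    exact and_assoc.1 (h2.resolve_left fun h3 => h3 h')
  cw := by
    refine ncard_le (mat_inj cs) _ (of_decide_eq_true (List.all_eq_true.1 chk_cw m hm)) fun v hv =>
      List.mem_filter.2 ⟨mat_mem cs v, ?_⟩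
    have h1 : ∀ x, ap (tm m) (ap (mat cs v) (vt x)) = ap (mat cs v) (ap (tm m) (vt x)) := fun x => by
      rw [← ap_mat, ← hθ, ← hθ, ← ap_mat, hv x]
    have h2 : ∀ k : M4, ap k (vt (sr 0)) = k.1 ∧ ap k (vt (sr 1)) = k.2.1 ∧ ap k (vt (sr 2)) = k.2.2.1 ∧
        ap k (vt (sr 3)) = k.2.2.2 := fun k => by simp [ap, vt, sr]
    have a0 := h1 (sr 0)
    have a1 := h1 (sr 1)
    have a2 := h1 (sr 2)
    have a3 := h1 (sr 3)
    rw [(h2 _).1, (h2 _).1] at a0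
    rw [(h2 _).2.1, (h2 _).2.1] at a1
    rw [(h2 _).2.2.1, (h2 _).2.2.1] at a2
    rw [(h2 _).2.2.2, (h2 _).2.2.2] at a3
    simp only [cm, a0, a1, a2, a3, beq_self_eq_true, Bool.and_self]
  tor := fun q ψ hψ => by
    have h1 := List.all_eq_true.1 chk_tor m hm
    simp only [Bool.and_eq_true, decide_eq_true_eq, beq_iff_eq] at h1
    obtain ⟨⟨⟨b1, b2⟩, b3⟩, b4⟩ := h1
    have h2 : mt θ = tm m := by
      simp only [mt, hθ]
      simp [ap, vt, sr]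
    have h3 : (ψ - 1) * θ.toIntLinearMap = (q : ℤ) • 1 - θ.toIntLinearMap := LinearMap.ext fun x => by
      simp [hψ x]
    have h4 := congrArg LinearMap.det h3
    rw [map_mul, det_eq θ.toIntLinearMap, det_eq ((q : ℤ) • 1 - θ.toIntLinearMap)] at h4
    have h5 : e4 (mt ((q : ℤ) • 1 - θ.toIntLinearMap : (Fin 4 → ℤ) →ₗ[ℤ] (Fin 4 → ℤ)).toAddMonoidHom) =
        q ^ 4 - e1 (mt θ) * q ^ 3 + e2 (mt θ) * q ^ 2 - e3 (mt θ) * q + e4 (mt θ) := by
      simp [mt, e1, e2, e3, e4, dt, cr, vt, sr]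
      ring
    have h6 : mt θ.toIntLinearMap.toAddMonoidHom = mt θ := rfl
    rw [h5, h6, h2] at h4
    have h7 := congrArg Int.natAbs h4
    rw [Int.natAbs_mul, b4, mul_one] at h7
    rw [h7]
    zify at b1 b2 b3 b4 ⊢
    have q0 : (0 : ℤ) ≤ q := Int.natCast_nonneg q
    have q2 : (0 : ℤ) ≤ q ^ 2 := by positivity
    have q3 : (0 : ℤ) ≤ q ^ 3 := by positivity
    have q4 : (0 : ℤ) ≤ q ^ 4 := by positivity
    obtain ⟨c1, c2⟩ := abs_le.1 b1
    obtain ⟨c3, c4⟩ := abs_le.1 b2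
    obtain ⟨c5, c6⟩ := abs_le.1 b3
    obtain ⟨c7, c8⟩ := abs_le.1 b4.le
    rw [abs_le]
    constructor <;> nlinarith
  six := six cs hm hθ hr
  cls := cls' cs hm hθ hr
  tw := fun a b ha hb h1 h2 h3 Λ aΛ bΛ hΛ => by
    have h4 := List.all_eq_true.1 (List.all_eq_true.1 chk_tw m hm) _ ((root_iff cs a).1 ha)
    rw [← hθ, ← hθ, h2, h3, ← cpr_eq cs _ ha, h1, bne_self_eq_false, bne_self_eq_false, Bool.false_or, Bool.false_or,
      List.any_eq_true] at h4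
    obtain ⟨x, -, h4⟩ := h4
    rw [← vt_tv x] at h4
    generalize tv x = x at h4
    simp only [← hθ, ← vt_sub, ← vt_add, ← vt_smul, Bool.and_eq_true, beq_iff_eq, List.any_eq_true,
      vt_inj.eq_iff] at h4
    obtain ⟨h5, i, -, j, -, h6⟩ := h4
    have h7 : (3 : ℤ) • x ∈ Λ := by
      have h8 := sub_mem (h6 ▸ add_mem (Λ.zsmul_mem aΛ i) (Λ.zsmul_mem bΛ j)) (hΛ (θ x + x))
      rw [map_add] at h8
      convert h8 using 1
      module
    have h8 : ∀ y, ∃ k : ℤ, y - k • x ∈ Λ := fun y => by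
      have h9 := cramer a b x (θ x) y
      generalize dt (cr (vt a) (vt b) (vt x)) (vt (θ x)) = D at h5 h9
      generalize dt (cr (vt y) (vt b) (vt x)) (vt (θ x)) = α at h9
      generalize dt (cr (vt a) (vt y) (vt x)) (vt (θ x)) = β at h9
      generalize dt (cr (vt a) (vt b) (vt y)) (vt (θ x)) = γ at h9
      generalize dt (cr (vt a) (vt b) (vt x)) (vt y) = δ at h9
      refine ⟨D * (γ + 2 * δ), mem_of_sq h5 ?_⟩
      have h10 := add_mem (add_mem (Λ.zsmul_mem aΛ α) (Λ.zsmul_mem bΛ β)) (Λ.zsmul_mem (hΛ x) δ)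
      convert h10 using 1
      rw [smul_sub, h9, smul_smul, ← mul_assoc, h5]
      module
    refine ⟨fun y => ?_, x, h8⟩
    obtain ⟨k, hk⟩ := h8 y
    have h9 := add_mem (Λ.zsmul_mem hk 3) (Λ.zsmul_mem h7 k)
    convert h9 using 1
    module

end

theorem g_eq (x : Fin 4 → ℤ) : vt (H720.TwFr.permE H720.TwFr.rho4 x) = ap (tm id4) (vt x) := by
  have h : ∀ i : Fin 4, H720.TwFr.permE H720.TwFr.rho4 x i = x (![3, 1, 0, 2] i) := fun i => rfl
  simp [vt, h, ap, tm, id4, r18, r14, r13, r12]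

theorem rt_tw (w : W) : RT cs hp.isCartan (tw cs hp.isCartan w (H720.TwFr.permE H720.TwFr.rho4).toAddMonoidHom) := by
  refine rt cs (mat_mem cs w) (fun x => ?_) fun a ha => IsRoot.act ((root_iff cs _).2 ?_) w
  · show vt (rep cs hp.isCartan w (H720.TwFr.permE H720.TwFr.rho4 x)) = _
    rw [ap_mat, g_eq]
    simp only [ap, tm, id4, r18, r14, r13, r12]
    refine Prod.ext ?_ (Prod.ext ?_ (Prod.ext ?_ ?_)) <;> simp only <;> ring
  · show vt (H720.TwFr.permE H720.TwFr.rho4 a) ∈ RL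
    rw [g_eq]
    exact List.contains_iff_mem.1 (List.all_eq_true.1 chk_g _ ((root_iff cs a).1 ha))

end Tab.D

theorem boxTabD : BoxTabD :=
  have := finite_W hp coxeterD4.toCoxeterSystem
  ⟨Tab.D.rd _, Tab.D.rt_tw _⟩

end Cfsg.Agent.SB.Low

private theorem dce_47ebc30acac4 : _root_.True := by
  try have : _root_.True := by simp only [_root_.Cfsg.Agent.SB.Low.Tab.D.mt.eq_1]
  try have : _root_.True := by simp only [_root_.Cfsg.Agent.SB.Low.A2.eq_1]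
  try have : _root_.True := by simp only [_root_.Cfsg.Agent.SB.Low.Tab.D.good.eq_1]
  try have : _root_.True := by simp only [_root_.Cfsg.Agent.SB.Low.Tab.D.r13.eq_1]
  try have : _root_.True := by simp only [_root_.Cfsg.Agent.SB.Low.Tab.D.mat.eq_1]
  try have : _root_.True := by simp only [_root_.Cfsg.Agent.SB.Low.Tab.D.tm.eq_1]
  try have : _root_.True := by simp only [_root_.Cfsg.Agent.SB.Low.Tab.D.cm.eq_1]
  try have : _root_.True := by simp only [_root_.Cfsg.Agent.SB.Low.Tab.D.id4.eq_1]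
  try have : _root_.True := by simp only [_root_.Cfsg.Agent.SB.Low.Tab.D.vt.eq_1]
  try have : _root_.True := by simp only [_root_.Cfsg.Agent.SB.Low.Tab.D.e1.eq_1]
  try have : _root_.True := by simp only [_root_.Cfsg.Agent.SB.Low.Tab.D.ap.eq_1]
  try have : _root_.True := by simp only [_root_.Cfsg.Agent.SB.Low.Tab.D.ip.eq_1]
  try have : _root_.True := by simp only [_root_.Cfsg.Agent.SB.Low.Tab.D.r14.eq_1]
  try have : _root_.True := by simp only [_root_.Cfsg.Agent.SB.Low.Tab.D.dt.eq_1]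
  try have : _root_.True := by simp only [_root_.Cfsg.Agent.SB.Low.Tab.D.e4.eq_1]
  try have : _root_.True := by simp only [_root_.Cfsg.Agent.SB.Low.Tab.D.r12.eq_1]
  try have : _root_.True := by simp only [_root_.Cfsg.Agent.SB.Low.Tab.D.pos.eq_1]
  try have : _root_.True := by simp only [_root_.Cfsg.Agent.SB.Low.Tab.D.e3.eq_1]
  try have : _root_.True := by simp only [_root_.Cfsg.Agent.SB.Low.Tab.D.r18.eq_1]
  try have : _root_.True := by simp only [_root_.Cfsg.Agent.SB.Low.Tab.D.a2.eq_1]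
  try have : _root_.True := by simp only [_root_.Cfsg.Agent.SB.Low.Tab.D.e2.eq_1]
  try have : _root_.True := by simp only [_root_.Cfsg.Agent.SB.Low.Tab.D.cr.eq_1]
  try have : _root_.True := by simp only [_root_.Cfsg.Agent.SB.Low.Ps.congr_simp]
  exact _root_.True.intro
end
end
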