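import Cfsg.Agent.H165.RV.HexLin
import Cfsg.Agent.SB.Low.TabD1_m3
import Cfsg.Agent.H625.IF.Unip
import Cfsg.Agent.Cit.HexG2
import Cfsg.Agent.Cit.HexD4
import Cfsg.Agent.ChevalleyStructure.FixedCard
import Cfsg.Agent.SB.Cl.Cent_m3
import Cfsg.Agent.TAB.F22.FxB_m3
import Cfsg.Agent.SB.TwF.Tor
import Cfsg.Agent.H67.RG.TwFCent
import Cfsg.Agent.H628.BalTwF4
import Cfsg.Agent.S2128
import Cfsg.Agent.FastGrp
import Cfsg.Agent.Prune
set_option linter.all false

section
prune_inst 0x7f00000000000000000000000000000000000000000000000000000000000000000000000000000000000000000000000000000000000000000000000000000000000000000000000000000000000000003fffffffffffffffffffffffffffbeffbdffffffff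

-- part: SB/Low/Two
section
set_option linter.all false
open scoped Cfsg.Agent.FastGrp

-- part: SB/Low/TwoLin
section
/-!
# S5765, low rank: a four-subgroup of `PGL₂` is its own centraliser (helper30)
-/

set_option autoImplicit false
set_option maxHeartbeats 200000

namespace Cfsg.Agent.SB.Low.TwoL

open Cfsg.Agent.Lib.SL2Mat Cfsg.Agent.H165.RV.Hex

variable {K : Type*} [Field K]

theorem scalar_of_comm (h2 : (2 : K) ≠ 0) {A B N : Matrix (Fin 2) (Fin 2) K} (tA : A.trace = 0) (tB : B.trace = 0)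
    (tAB : (A * B).trace = 0) (dA : A.det ≠ 0) (dB : B.det ≠ 0) (hA : N * A = A * N) (hB : N * B = B * N) :
    N 0 1 = 0 ∧ N 1 0 = 0 ∧ N 0 0 = N 1 1 := by
  rw [Matrix.trace_fin_two] at tA tB tAB
  rw [Matrix.mul_apply, Matrix.mul_apply, Fin.sum_univ_two, Fin.sum_univ_two] at tAB
  rw [Matrix.det_fin_two] at dA dB
  have hents : ∀ P : Matrix (Fin 2) (Fin 2) K, N * P = P * N → P 0 0 + P 1 1 = 0 →
      N 0 1 * P 1 0 = P 0 1 * N 1 0 ∧ (N 0 0 - N 1 1) * P 0 1 = 2 * P 0 0 * N 0 1 ∧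
        (N 0 0 - N 1 1) * P 1 0 = 2 * P 0 0 * N 1 0 := by
    intro P hP tP
    have e00 := congrFun (congrFun hP 0) 0
    have e01 := congrFun (congrFun hP 0) 1
    have e10 := congrFun (congrFun hP 1) 0
    rw [Matrix.mul_apply, Matrix.mul_apply, Fin.sum_univ_two, Fin.sum_univ_two] at e00 e01 e10
    refine ⟨?_, ?_, ?_⟩
    · linear_combination e00
    · linear_combination e01 - N 0 1 * tP
    · linear_combination -e10 - N 1 0 * tP
  obtain ⟨a1, a2, a3⟩ := hents A hA tA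
  obtain ⟨b1, b2, b3⟩ := hents B hB tB
  have hA' : A 1 1 = -A 0 0 := by linear_combination tA
  have hB' : B 1 1 = -B 0 0 := by linear_combination tB
  rw [hA'] at dA tAB
  rw [hB'] at dB tAB
  obtain ⟨u, hu⟩ : ∃ u, u = N 0 0 - N 1 1 := ⟨_, rfl⟩
  rw [← hu] at a2 a3 b2 b3
  obtain ⟨s, hs⟩ : ∃ s, s = u * A 0 0 + N 0 1 * A 1 0 + N 1 0 * A 0 1 := ⟨_, rfl⟩
  have s1 : 2 * s * B 0 0 = 0 := by
    rw [hs]
    linear_combination u * tAB - A 1 0 * b2 - A 0 1 * b3
  have s2 : s * B 0 1 = 0 := by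
    rw [hs]
    linear_combination N 0 1 * tAB + A 0 0 * b2 - A 0 1 * b1
  have s0 : s = 0 := by
    have h : 2 * s * (B 0 0 * -B 0 0 - B 0 1 * B 1 0) = 0 := by
      linear_combination -B 0 0 * s1 - 2 * B 1 0 * s2
    exact (mul_eq_zero.1 ((mul_eq_zero.1 h).resolve_right dB)).resolve_left h2
  rw [s0] at hs
  refine ⟨?_, ?_, ?_⟩
  · have h : 2 * N 0 1 * (A 0 0 * -A 0 0 - A 0 1 * A 1 0) = 0 := by
      linear_combination A 0 1 * hs + A 0 0 * a2 - A 0 1 * a1
    exact (mul_eq_zero.1 ((mul_eq_zero.1 h).resolve_right dA)).resolve_left h2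
  · have h : 2 * N 1 0 * (A 0 0 * -A 0 0 - A 0 1 * A 1 0) = 0 := by
      linear_combination A 1 0 * hs + A 0 0 * a3 + A 1 0 * a1
    exact (mul_eq_zero.1 ((mul_eq_zero.1 h).resolve_right dA)).resolve_left h2
  · have h : 2 * u * (A 0 0 * -A 0 0 - A 0 1 * A 1 0) = 0 := by
      linear_combination 2 * A 0 0 * hs - A 1 0 * a2 - A 0 1 * a3
    have h3 : u = 0 := (mul_eq_zero.1 ((mul_eq_zero.1 h).resolve_right dA)).resolve_left h2
    rw [h3] at hu
    linear_combination -hu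

/-- commuting in `PGL₂` -/
theorem comm_or_anti {M A : GL (Fin 2) K} (h : conjGL M * conjGL A = conjGL A * conjGL M) :
    M.1 * A.1 = A.1 * M.1 ∨ M.1 * A.1 = -(A.1 * M.1) := by
  have h1 : conjGL (M * A * (A * M)⁻¹) = 1 := by
    rw [map_mul, map_inv, map_mul, map_mul, h, mul_inv_cancel]
  obtain ⟨e1, e2, e3⟩ := conjGL_eq_one_iff.1 h1
  obtain ⟨P, hP⟩ : ∃ P, P = M * A * (A * M)⁻¹ := ⟨_, rfl⟩
  rw [← hP] at e1 e2 e3
  have h3 : P * (A * M) = M * A := by rw [hP]; group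
  have h4 : P.1 * (A.1 * M.1) = M.1 * A.1 := congrArg Units.val h3
  have h5 : P.1 = P.1 0 0 • (1 : Matrix (Fin 2) (Fin 2) K) := by
    ext i j
    (revert i j; simp only [e1, e2, e3, _root_.Fin.forall_fin_succ, Fin.isValue, _root_.Matrix.smul_apply, _root_.smul_eq_mul, _root_.Fin.succ_zero_eq_one, _root_.IsEmpty.forall_iff, _root_.and_true, _root_.Matrix.one_apply_eq, _root_.mul_one, Nat.reduceAdd, _root_.ne_eq, _root_.zero_ne_one, _root_.not_false_eq_true, _root_.Matrix.one_apply_ne, _root_.MulZeroClass.mul_zero, _root_.and_self, _root_.Fin.succ_ne_zero])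
  rw [h5, smul_mul_assoc, Matrix.one_mul] at h4
  have h6 := congrArg Matrix.det h4
  rw [Matrix.det_smul, Matrix.det_mul, Matrix.det_mul, Fintype.card_fin] at h6
  have h7 : (P.1 0 0 - 1) * (P.1 0 0 + 1) * (A.1.det * M.1.det) = 0 := by linear_combination h6
  rcases mul_eq_zero.1 ((mul_eq_zero.1 h7).resolve_right (mul_ne_zero (det_ne A) (det_ne M))) with h8 | h8
  · left
    rw [← h4, sub_eq_zero.1 h8, one_smul]
  · right
    rw [← h4, eq_neg_of_add_eq_zero_left h8, neg_smul, one_smul]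

/-- **a four-subgroup of `PGL₂` is its own centraliser** -/
theorem cent_four (h2 : (2 : K) ≠ 0) {A B M : GL (Fin 2) K} (hA : conjGL A ≠ 1 ∧ conjGL A * conjGL A = 1)
    (hB : conjGL B ≠ 1 ∧ conjGL B * conjGL B = 1) (hAB : conjGL (A * B) ≠ 1 ∧ conjGL (A * B) * conjGL (A * B) = 1)
    (h1 : conjGL M * conjGL A = conjGL A * conjGL M) (h3 : conjGL M * conjGL B = conjGL B * conjGL M) :
    conjGL M = 1 ∨ conjGL (M * A) = 1 ∨ conjGL (M * B) = 1 ∨ conjGL (M * (A * B)) = 1 := by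
  have tA := trace_zero hA.1 hA.2
  have tB := trace_zero hB.1 hB.2
  have tAB := trace_zero hAB.1 hAB.2
  rw [Units.val_mul] at tAB
  have an := anti_of_trace tA tB tAB
  have key : ∀ N : GL (Fin 2) K, N.1 * A.1 = A.1 * N.1 → N.1 * B.1 = B.1 * N.1 → conjGL N = 1 := fun N k1 k2 =>
    conjGL_eq_one_iff.2 (scalar_of_comm h2 tA tB tAB (det_ne A) (det_ne B) k1 k2)
  have an' : B.1 * A.1 = -(A.1 * B.1) := by rw [an, neg_neg]
  rcases comm_or_anti h1 with e1 | e1 <;> rcases comm_or_anti h3 with e2 | e2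
  · exact Or.inl (key M e1 e2)
  · refine Or.inr (Or.inl (key _ ?_ ?_))
    · rw [Units.val_mul, ← Matrix.mul_assoc, ← e1]
    · rw [Units.val_mul, Matrix.mul_assoc, an, Matrix.mul_neg, ← Matrix.mul_assoc, e2, Matrix.neg_mul, neg_neg,
        Matrix.mul_assoc]
  · refine Or.inr (Or.inr (Or.inl (key _ ?_ ?_)))
    · rw [Units.val_mul, Matrix.mul_assoc, an', Matrix.mul_neg, ← Matrix.mul_assoc, e1, Matrix.neg_mul, neg_neg,
        Matrix.mul_assoc]
    · rw [Units.val_mul, ← Matrix.mul_assoc, ← e2]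
  · refine Or.inr (Or.inr (Or.inr (key _ ?_ ?_)))
    · rw [Units.val_mul, Units.val_mul]
      calc M.1 * (A.1 * B.1) * A.1 = M.1 * A.1 * (B.1 * A.1) := by simp only [Matrix.mul_assoc]
        _ = A.1 * (M.1 * (A.1 * B.1)) := by
          rw [an', e1, Matrix.neg_mul, Matrix.mul_neg, neg_neg, Matrix.mul_assoc]
    · rw [Units.val_mul, Units.val_mul]
      calc M.1 * (A.1 * B.1) * B.1 = -(M.1 * B.1 * (A.1 * B.1)) := by
            nth_rewrite 1 [an]
            simp only [Matrix.mul_assoc, Matrix.mul_neg, Matrix.neg_mul]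
        _ = B.1 * (M.1 * (A.1 * B.1)) := by rw [e2, Matrix.neg_mul, neg_neg, Matrix.mul_assoc]

end Cfsg.Agent.SB.Low.TwoL
end

-- part: SB/Low/Two
section
/-!
# S5765, low rank: the elementary abelian `2`-subgroups of `G₂(q)` and `³D₄(q)`, `q` odd (helper30)
-/

set_option autoImplicit false
set_option maxHeartbeats 200000
set_option linter.unusedSectionVars false

namespace Cfsg.Agent.SB.Low.TwoL

open Subgroup Cfsg.Agent.Cit.HexBase Cfsg.Agent.Lib.SL2Mat Cfsg.Agent.Cit.HexBase.HexGrp Cfsg.Agent.H625.IFx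

section gen

variable {T : Type*} [Group T] {K : Type*} [Field K]

theorem act_mul (r : SL2 K →* T) {g h : T} {M N : GL (Fin 2) K} (hM : ∀ w, g * r w * g⁻¹ = r (conjGL M w))
    (hN : ∀ w, h * r w * h⁻¹ = r (conjGL N w)) (w : SL2 K) : (g * h) * r w * (g * h)⁻¹ = r (conjGL (M * N) w) := by
  rw [map_mul, MulAut.mul_apply, ← hM, ← hN]
  group

theorem act_comm (r : SL2 K →* T) (hr : Function.Injective r) {g h : T} {M N : GL (Fin 2) K}
    (hM : ∀ w, g * r w * g⁻¹ = r (conjGL M w)) (hN : ∀ w, h * r w * h⁻¹ = r (conjGL N w)) (e : g * h = h * g) :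
    conjGL M * conjGL N = conjGL N * conjGL M := by
  ext1 w
  apply hr
  rw [← map_mul, ← map_mul, ← act_mul r hM hN, ← act_mul r hN hM, e]

theorem sq_fix {s k d : T} (h : s * k * s⁻¹ = k * d) (hd : d * d = 1) (hdk : k * d = d * k) :
    s * (k * k) = (k * k) * s := by
  have h1 : s * (k * k) * s⁻¹ = k * k := by
    calc s * (k * k) * s⁻¹ = (s * k * s⁻¹) * (s * k * s⁻¹) := by group
      _ = k * (d * k) * d := by rw [h]; group
      _ = k * k * (d * d) := by rw [← hdk]; group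
      _ = k * k := by rw [hd, mul_one]
  exact mul_inv_eq_iff_eq_mul.1 h1

theorem card_le_of_aut [Finite T] (φ : MulAut T) {X Y : Subgroup T} (h : ∀ x ∈ X, φ x ∈ Y) : Nat.card X ≤ Nat.card Y :=
  Nat.card_le_card_of_injective (fun x : X => (⟨φ x, h x x.2⟩ : Y))
    (fun _ _ e => Subtype.ext (φ.injective (congrArg Subtype.val e)))

theorem pow_card_of_pow [Finite K] (p : ℕ) [CharP K p] {u : T} (h : u ^ p = 1) : u ^ Nat.card K = 1 := by
  have := Fintype.ofFinite K
  obtain ⟨k, hk⟩ := (CharP.cast_eq_zero_iff K p _).1 (FiniteField.cast_card_eq_zero K)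
  rw [Nat.card_eq_fintype_card, hk, pow_mul, h, one_pow]

theorem card_sl2_nat [Finite K] : Nat.card (SL2 K) = Nat.card K * (Nat.card K ^ 2 - 1) := by
  have := Fintype.ofFinite K
  rw [Nat.card_eq_fintype_card (α := K)]
  exact ClassicalGeometry.PSL2Basic.card_SL2 _

theorem exists_not_mem [Finite T] {H : Subgroup T} (S : Finset T) (h : S.card < Nat.card H) : ∃ x ∈ H, x ∉ S := by
  classical
  have := Fintype.ofFinite T
  have hS : (Finset.univ.filter (· ∈ H)).card = Nat.card H := by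
    rw [Nat.card_eq_fintype_card, Fintype.card_subtype]
  obtain ⟨x, hx, hxT⟩ := Finset.exists_mem_notMem_of_card_lt_card (s := S) (t := Finset.univ.filter (· ∈ H)) (by omega)
  exact ⟨x, (Finset.mem_filter.mp hx).2, hxT⟩

end gen

variable {E : Type*} [Field E] [Finite E] {σ : E ≃+* E} {T : Type} [Group T] [Finite T] (c : HexGrp σ T)

/-- an element centralising `z, a, b` lies in `⟨z, a, b⟩` -/
theorem mem_of_comm (h2 : (2 : E) ≠ 0) {H : Subgroup T} (hH : ∀ x ∈ H, x * x = 1)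
    (hc : ∀ x ∈ H, ∀ y ∈ H, x * y = y * x) (hz : c.z ∈ H) {a b g : T} (ha : a ∈ H) (hb : b ∈ H)
    (a1 : a ≠ 1) (az : a ≠ c.z) (b1 : b ≠ 1) (bz : b ≠ c.z) (ab1 : a * b ≠ 1) (abz : a * b ≠ c.z)
    (hg : ∀ x ∈ H, x * g = g * x) : g ∈ H := by
  obtain ⟨A, A', -, -, -, -, hA, hA', -⟩ := exists_act2 c h2 (hc a ha _ hz)
  obtain ⟨B, B', -, -, -, -, hB, hB', -⟩ := exists_act2 c h2 (hc b hb _ hz)
  obtain ⟨M, M', -, -, -, -, hM, -, -⟩ := exists_act2 c h2 (hg _ hz).symm
  have iA := act_inv c h2 (hH a ha) a1 az hA hA'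
  have iB := act_inv c h2 (hH b hb) b1 bz hB hB'
  have iAB := act_inv c h2 (hH _ (mul_mem ha hb)) ab1 abz (act_mul _ hA hB) (act_mul _ hA' hB')
  have key : ∀ e ∈ H, ∀ D : GL (Fin 2) E, (∀ w, (g * e) * c.pb w * (g * e)⁻¹ = c.pb (conjGL D w)) → conjGL D = 1 →
      g ∈ H := by
    intro e he D hD hD1
    obtain ⟨y, hy⟩ := c.centralizer_K1 h2 (g := g * e) (fun x => (fix_of_comm c h2 hD x).2 (by rw [hD1]; rfl))
    have hcom : ∀ x ∈ H, x * c.p4 y = c.p4 y * x := by
      intro x hx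
      rw [hy, ← mul_assoc, hg x hx, mul_assoc, hc x hx e he, mul_assoc]
    have hge : g * e ∈ H := by
      by_cases y1 : y = 1
      · rw [← hy, y1, map_one]
        exact one_mem _
      by_cases y2 : y = H165.RV.Hex.ng
      · rw [← hy, y2]
        exact c.z_eq_p4 ▸ hz
      exfalso
      have h3 := H165.RV.Hex.eq_of_fix ((two_ne h2 :)) iA.2.1 iA.2.2 iB.2.1 iB.2.2 y1 y2
        ((fix_of_comm' c hA' y).1 (hcom a ha)) ((fix_of_comm' c hB' y).1 (hcom b hb))
      apply iAB.2.1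
      rw [map_mul, h3, iB.2.2]
    exact (mul_mem_cancel_right he).1 hge
  rcases cent_four h2 iA.1 iB.1 iAB.1 (act_comm _ (c.pb_inj h2) hM hA (hg a ha).symm)
    (act_comm _ (c.pb_inj h2) hM hB (hg b hb).symm) with h | h | h | h
  · exact key 1 (one_mem _) M (by rw [mul_one]; exact hM) h
  · exact key a ha _ (act_mul _ hM hA) h
  · exact key b hb _ (act_mul _ hM hB) h
  · exact key (a * b) (mul_mem ha hb) _ (act_mul _ hM (act_mul _ hA hB)) h

/-- a four-group centralises no element of order `p` -/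
theorem unip_eq_one (h2 : (2 : E) ≠ 0) {p : ℕ} [CharP E p] (hp : Odd p) {s x : T} (hs : s * c.z = c.z * s)
    (hss : s * s = 1) (h1 : s ≠ 1) (hz : s ≠ c.z) (hx : x ^ p = 1) (hxz : x * c.z = c.z * x) (hxs : s * x = x * s) :
    x = 1 := by
  obtain ⟨k, hk⟩ := hp
  have e1 : x = x ^ (k + 1) * x ^ (k + 1) := by
    calc x = x ^ p * x := by rw [hx, one_mul]
      _ = x ^ (k + 1) * x ^ (k + 1) := by
        rw [hk, ← pow_succ, ← pow_add]
        congr 1
        ring
  have hm : x ^ (k + 1) ∈ centralizer ({c.z} : Set T) := pow_mem (mem_centralizer_singleton_iff.2 hxz) _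
  have hr : x ∈ (prodH c).range := by
    have h3 := mul_self_mem_of_index_two (relIndex_range c h2) ⟨_, hm⟩
    rw [mem_subgroupOf] at h3
    rw [e1]
    exact h3
  obtain ⟨u, w, rfl⟩ := (mem_range c).1 hr
  obtain ⟨A, A', -, -, -, -, hA, hA', -⟩ := exists_act2 c h2 hs
  have hcm : Commute (c.pb u) (c.p4 w) := c.comm_pb_p4 u w
  have hdz : ∀ d : T, d = 1 ∨ d = c.z → d * d = 1 ∧ c.pb u * d = d * c.pb u ∧ c.p4 w * d = d * c.p4 w := by
    rintro d (rfl | rfl)
    · simp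
    · exact ⟨c.z_sq, pb_comm_z c u, p4_comm_z c w⟩
  -- the action of `s`
  have e2 : c.pb (conjGL A u) * c.p4 (conjGL A' w) = c.pb u * c.p4 w := by
    rw [← hA, ← hA']
    calc _ = s * (c.pb u * c.p4 w) * s⁻¹ := by group
      _ = _ := by rw [hxs, mul_inv_cancel_right]
  have e3 : c.pb (u⁻¹ * conjGL A u) = c.p4 (w * (conjGL A' w)⁻¹) := by
    rw [map_mul, map_mul, map_inv, map_inv]
    calc (c.pb u)⁻¹ * c.pb (conjGL A u) = (c.pb u)⁻¹ * (c.pb (conjGL A u) * c.p4 (conjGL A' w)) *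
          (c.p4 (conjGL A' w))⁻¹ := by group
      _ = _ := by rw [e2]; group
  obtain ⟨d, hd⟩ : ∃ d, d = c.pb (u⁻¹ * conjGL A u) := ⟨_, rfl⟩
  obtain ⟨d1, d2, d3⟩ := hdz d (hd ▸ c.eq_of_pb_eq_p4 e3)
  have f1 : s * (c.pb u * c.pb u) = (c.pb u * c.pb u) * s := by
    refine sq_fix ?_ d1 d2
    rw [hA, hd, ← map_mul, mul_inv_cancel_left]
  have f4 : s * (c.p4 w * c.p4 w) = (c.p4 w * c.p4 w) * s := by
    refine sq_fix ?_ d1 d3
    rw [hA', d3]
    rw [e3, map_mul, map_inv] at hd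
    calc c.p4 (conjGL A' w) = (d * d) * c.p4 (conjGL A' w) := by rw [d1, one_mul]
      _ = d * c.p4 w := by
        rw [mul_assoc]
        congr 1
        rw [hd]
        group
  -- the orders
  rw [hcm.mul_pow, ← map_pow, ← map_pow] at hx
  have e4 : c.pb (u ^ p) = c.p4 (w ^ p)⁻¹ := by
    rw [map_inv]
    exact eq_inv_of_mul_eq_one_left hx
  have g1 := (hdz _ (c.eq_of_pb_eq_p4 e4)).1
  have g2 : (u * u) ^ p = 1 := by
    apply c.pb_inj h2
    rw [(Commute.refl u).mul_pow, map_mul, g1, map_one]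
  have g4 : (w * w) ^ p = 1 := by
    rw [e4, ← map_mul, ← mul_inv_rev, map_inv, inv_eq_one] at g1
    apply c.p4_inj
    rw [(Commute.refl w).mul_pow, g1, map_one]
  have k1 := cent_inv_unip_pb c h2 hs hss h1 hz (pow_card_of_pow p g2) (by rw [map_mul]; exact f1)
  have k4 := cent_inv_unip_p4 c h2 hs hss h1 hz (pow_card_of_pow p g4) (by rw [map_mul]; exact f4)
  have k5 : (c.pb u * c.p4 w) ^ 2 = 1 := by
    rw [hcm.mul_pow, pow_two, pow_two, ← map_mul, ← map_mul, k1, k4, map_one, map_one, mul_one]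
  rw [e1, ← pow_add, ← two_mul, pow_mul, k5, one_pow]

include c in
theorem exists_aut (h2 : (2 : E) ≠ 0) {t : T} (ht : t * t = 1) (h1 : t ≠ 1) : ∃ φ : MulAut T, φ t = c.z := by
  obtain ⟨g, hg⟩ := isConj_iff.1 (c.isConj_z h2 ht h1)
  exact ⟨MulAut.conj g, hg⟩

include c in
/-- an elementary abelian `2`-subgroup of order `> 4` is its own centraliser -/
theorem cent_le (h2 : (2 : E) ≠ 0) {H : Subgroup T} (hH : ∀ x ∈ H, x * x = 1) (hc : ∀ x ∈ H, ∀ y ∈ H, x * y = y * x)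
    (h4 : 4 < Nat.card H) : Cz H ≤ H := by
  classical
  obtain ⟨z, hz, z1⟩ := exists_not_mem (H := H) {1} (by rw [Finset.card_singleton]; omega)
  rw [Finset.mem_singleton] at z1
  obtain ⟨a, ha, a1⟩ := exists_not_mem (H := H) {1, z} (lt_of_le_of_lt Finset.card_le_two (by omega))
  obtain ⟨b, hb, b1⟩ := exists_not_mem (H := H) {1, z, a, a * z} (lt_of_le_of_lt Finset.card_le_four h4)
  simp only [Finset.mem_insert, Finset.mem_singleton, not_or] at a1 b1
  obtain ⟨φ, hφ⟩ := exists_aut c h2 (hH z hz) z1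
  intro g hg
  have hinj : ∀ x y : T, x ≠ y → φ x ≠ φ y := fun x y h e => h (φ.injective e)
  have hone : ∀ x : T, x ≠ 1 → φ x ≠ 1 := fun x h e => h (φ.injective (e.trans (map_one φ).symm))
  have ab : ∀ v : T, b ≠ a * v → a * b ≠ v := by
    intro v h e
    apply h
    rw [← e, ← mul_assoc, hH a ha, one_mul]
  have h5 := mem_of_comm c h2 (H := H.map φ.toMonoidHom) (a := φ a) (b := φ b) (g := φ g) ?_ ?_ ⟨z, hz, hφ⟩ ⟨a, ha, rfl⟩
    ⟨b, hb, rfl⟩ (hone a a1.1) (hφ ▸ hinj _ _ a1.2) (hone b b1.1) (hφ ▸ hinj _ _ b1.2.1)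
    (by rw [← map_mul]; exact hone _ (ab 1 (by rw [mul_one]; exact b1.2.2.1)))
    (by rw [← map_mul, ← hφ]; exact hinj _ _ (ab z b1.2.2.2)) ?_
  · obtain ⟨x, hx, e⟩ := h5
    rw [← φ.injective e]
    exact hx
  · rintro _ ⟨x, hx, rfl⟩
    rw [← map_mul, hH x hx, map_one]
  · rintro _ ⟨x, hx, rfl⟩ _ ⟨y, hy, rfl⟩
    rw [← map_mul, hc x hx y hy, map_mul]
  · rintro _ ⟨x, hx, rfl⟩
    change φ x * φ g = φ g * φ x
    rw [← map_mul, mem_centralizer_iff.1 hg x hx, map_mul]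

include c in
theorem two_hex (h2 : (2 : E) ≠ 0) (p : ℕ) [CharP E p] (hp2 : p ≠ 2) : Two p (Nat.card ↥(fx σ)) (Nat.card E) T := by
  classical
  have hp : p.Prime := CharP.char_is_prime E p
  have : Fact p.Prime := ⟨hp⟩
  have hinv : ∀ z : T, orderOf z = 2 → ∃ φ : MulAut T, φ z = c.z := by
    intro z hz
    obtain ⟨h3, h4⟩ := orderOf_eq_prime_iff.1 hz
    exact exists_aut c h2 (by rw [← pow_two]; exact h3) h4
  refine ⟨fun z hz => ?_, fun hQ z hz hs => ?_, fun H hH => ?_⟩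
  · obtain ⟨φ, hφ⟩ := hinv z hz
    have h3 : cc z ≤ cc c.z := card_le_of_aut φ (fun x hx => by
      rw [mem_centralizer_singleton_iff] at hx ⊢
      rw [← hφ, ← map_mul, hx, map_mul])
    refine h3.trans (le_of_eq ?_)
    rw [cc, card_CZ c h2, card_sl2_nat, card_sl2_nat, mul_comm]
  · obtain ⟨φ, hφ⟩ := hinv z hz
    have := Fintype.ofFinite E
    refine C2.ns_sl2 (K := E) (by rw [← Nat.card_eq_fintype_card]; exact hQ) ?_
    let f : SL2 E →* centralizer ({z} : Set T) := (φ.symm.toMonoidHom.comp c.pb).codRestrict _ (fun x => by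
      rw [mem_centralizer_singleton_iff]
      apply φ.injective
      change φ (φ.symm (c.pb x) * z) = φ (z * φ.symm (c.pb x))
      rw [map_mul, map_mul, hφ, MulEquiv.apply_symm_apply]
      exact pb_comm_z c x)
    exact Group.isSolvable_of_isSolvable_injective (f := f)
      (fun x y e => c.pb_inj h2 (φ.symm.injective (congrArg Subtype.val e)))
  · have hsq : ∀ x ∈ H, x * x = 1 := fun x hx => by rw [← pow_two]; exact hH.pow x hx
    have hP : IsPGroup 2 H := fun a => ⟨1, by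
      rw [pow_one]
      exact Subtype.ext (hH.pow a a.2)⟩
    obtain ⟨n, hn⟩ := IsPGroup.iff_card.mp hP
    have h1 : 1 < Nat.card H := (one_lt_card_iff_ne_bot H).2 hH.ne_bot
    rcases Nat.lt_or_ge n 3 with h3 | h3
    · interval_cases n
      · omega
      · exact Or.inl hn
      · refine Or.inr (Or.inl ⟨hn, ?_⟩)
        obtain ⟨z, hz, z1⟩ := exists_not_mem (H := H) {1} (by rw [Finset.card_singleton]; omega)
        rw [Finset.mem_singleton] at z1
        obtain ⟨a, ha, a1⟩ := exists_not_mem (H := H) {1, z} (lt_of_le_of_lt Finset.card_le_two (by omega))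
        simp only [Finset.mem_insert, Finset.mem_singleton, not_or] at a1
        obtain ⟨φ, hφ⟩ := exists_aut c h2 (hsq z hz) z1
        have s1 : φ a * c.z = c.z * φ a := by rw [← hφ, ← map_mul, hH.comm a ha z hz, map_mul]
        have s2 : φ a * φ a = 1 := by rw [← map_mul, hsq a ha, map_one]
        have s3 : φ a ≠ 1 := fun e => a1.1 (φ.injective (e.trans (map_one φ).symm))
        have s4 : φ a ≠ c.z := fun e => a1.2 (φ.injective (e.trans hφ.symm))
        have hm : ∀ x ∈ Cz H, φ a * φ x = φ x * φ a ∧ φ x * c.z = c.z * φ x := by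
          intro x hx
          rw [← hφ, ← map_mul, ← map_mul, ← map_mul, ← map_mul, mem_centralizer_iff.1 hx a ha,
            mem_centralizer_iff.1 hx z hz]
          exact ⟨rfl, rfl⟩
        constructor
        · obtain ⟨e, he, -, -, h5⟩ := cent_inv c h2 s1 s2 s3 s4
          have h6 := cent_cent_le c h2 he h5
          have h7 : Nat.card (Cz H) ≤
              Nat.card (centralizer ({φ a} : Set T) ⊓ centralizer ({c.z} : Set T) : Subgroup T) :=
            card_le_of_aut φ (fun x hx => ⟨mem_centralizer_singleton_iff.2 (hm x hx).1.symm,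
              mem_centralizer_singleton_iff.2 (hm x hx).2⟩)
          have p1 : (2 : ℤ) ≤ Nat.card E := by exact_mod_cast Finite.one_lt_card
          have p4 : (2 : ℤ) ≤ Nat.card ↥(fx σ) := by exact_mod_cast Finite.one_lt_card
          have h8 : (Nat.card (Cz H) : ℤ) ≤ 2 * ((Nat.card E : ℤ) + 1) * (Nat.card ↥(fx σ) + 1) := by
            refine (Int.ofNat_le.2 h7).trans (h6.trans ?_)
            rcases he with rfl | rfl
            · linarith only []
            · exact le_of_eq (by ring)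
          exact_mod_cast h8
        · intro hd
          obtain ⟨x, hx⟩ := exists_prime_orderOf_dvd_card' p hd
          obtain ⟨x1, x2⟩ := orderOf_eq_prime_iff.1 hx
          have h5 := unip_eq_one c h2 (hp.odd_of_ne_two hp2) s1 s2 s3 s4 (x := φ x)
            (by rw [← map_pow, show (x : T) ^ p = 1 from congrArg Subtype.val x1, map_one]) (hm x x.2).2 (hm x x.2).1
          exact x2 (Subtype.ext (φ.injective (h5.trans (map_one φ).symm)))
    · refine Or.inr (Or.inr ?_)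
      have h4 : 8 ≤ Nat.card H := by
        rw [hn]
        exact Nat.pow_le_pow_right (n := 2) (by norm_num) h3
      have hle := cent_le c h2 hsq hH.comm (by omega)
      have h8 : Nat.card H ≤ 8 := by
        obtain ⟨X, hX⟩ := Sylow.exists_subgroup_card_pow_prime (G := H) 2 (n := 3) (hn ▸ pow_dvd_pow 2 h3)
        have hX' : Nat.card (X.map H.subtype) = 8 := by rw [card_map_of_injective H.subtype_injective, hX]; norm_num
        have hXH : X.map H.subtype ≤ H := map_subtype_le X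
        have h5 := cent_le c h2 (H := X.map H.subtype) (fun x hx => hsq x (hXH hx))
          (fun x hx y hy => hH.comm x (hXH hx) y (hXH hy)) (by omega)
        have h6 : H ≤ Cz (X.map H.subtype) := fun x hx => mem_centralizer_iff.2 fun y hy => hH.comm y (hXH hy) x hx
        exact hX' ▸ card_le_of_le (h6.trans h5)
      exact ⟨le_antisymm h8 h4, (card_le_of_le hle).trans (by omega), hP.to_le hle, fun v hv _ => hle hv⟩

theorem two_ne_zero_of {F : Type*} [Field F] [Finite F] (p : ℕ) [CharP F p] (h : p ≠ 2) : (2 : F) ≠ 0 := by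
  intro h0
  have h1 : ((2 : ℕ) : F) = 0 := by exact_mod_cast h0
  rw [CharP.cast_eq_zero_iff F p] at h1
  exact h ((Nat.prime_dvd_prime_iff_eq (CharP.char_is_prime F p) Nat.prime_two).1 h1)

end Cfsg.Agent.SB.Low.TwoL

namespace Cfsg.Agent.SB.Low

open Cfsg.Lie Cfsg.Agent.Cit.HexBase

/-- [Two] for `G₂(q)` -/
theorem boxTwoG : BoxTwoG := by
  intro p F _ _ _ hp
  have h2 := TwoL.two_ne_zero_of (F := F) p hp
  have h := TwoL.two_hex (Cit.HexG2.g2 F h2) h2 p hp
  have h3 : Nat.card ↥(fx (RingEquiv.refl F)) = Nat.card F :=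
    Nat.card_congr ⟨fun x => x, fun x => ⟨x, rfl⟩, fun x => rfl, fun x => rfl⟩
  rwa [h3, Nat.card_eq_fintype_card] at h

/-- [Two] for `³D₄(q)` -/
theorem boxTwoD : BoxTwoD := by
  intro p F _ _ _ q hp hq
  have h2 := TwoL.two_ne_zero_of (F := F) p hp
  obtain ⟨σ, hσ, ⟨c⟩⟩ := Cit.HexD4.exists_d4 hq
  have h := TwoL.two_hex c h2 p hp
  have hq1 : 1 < q := by
    have h1 := Fintype.one_lt_card (α := F)
    rw [hq] at h1
    exact (Nat.one_lt_pow_iff (by norm_num)).1 h1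
  have h3 : Nat.card ↥(fx σ) = q := by
    rw [← ChevalleyStructure.FixedCard.card_fixed hq1 hq]
    exact Nat.card_congr (Equiv.subtypeEquivRight fun x => by rw [mem_fx, hσ])
  rwa [h3, Nat.card_eq_fintype_card, hq] at h

end Cfsg.Agent.SB.Low
end

private theorem dce_3ef1b073d59c : _root_.True := by
  try have : _root_.True := by simp only [_root_.Cfsg.Agent.SB.Low.cc.eq_1]
  exact _root_.True.intro
end

-- part: SB/TwF/Main
section
set_option linter.all false
open scoped Cfsg.Agent.FastGrp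

-- part: SB/TwF/Crit
section
/-!
# S5765: the counting criterion in the non-parabolic case (helper64)

* `NPar.not_dvd` : a nilpotent `S`-invariant subgroup of `S ⊓ T` has order prime to `p`;
* `card_fit_inf_le`, `card_inf_le` : bounds for `F(S) ⊓ T` and `S ⊓ T`, if the nilpotent `p'`-subgroups of `K` have order at
  most `B`;
* `good_of_nil` : `f B⁵ C ≤ |K|` gives `FitReg`.
-/

set_option autoImplicit false

namespace Cfsg.Agent.SB.TwF

open Subgroup Cfsg Cfsg.Agent.H786.FC Cfsg.Agent.SB.R1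

section general

variable {A : Type*} [Group A] [Finite A] {T S : Subgroup A} {p : ℕ}

theorem not_dvd_of_nil (hp : p.Prime) (h : NPar p T S) {X : Subgroup A} (hX : X ≤ S ⊓ T)
    (hn : Group.IsNilpotent X) (hi : ∀ s ∈ S, ∀ x ∈ X, s * x * s⁻¹ ∈ X) : ¬ p ∣ Nat.card X := by
  have : Fact p.Prime := ⟨hp⟩
  let P : Sylow p X := default
  have hP : ∀ x : X, (∃ n, x ^ p ^ n = 1) → x ∈ (P : Subgroup X) := by
    rintro x ⟨n, hx⟩
    have h1 : IsPGroup p (zpowers x) := IsPGroup.of_card_dvd_pow (n := n) (by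
      rw [Nat.card_zpowers]; exact orderOf_dvd_of_pow_eq_one hx)
    obtain ⟨Q, hQ⟩ := h1.exists_le_sylow
    have := Sylow.unique_of_normal P inferInstance
    rw [Subsingleton.elim P Q]
    exact hQ (mem_zpowers x)
  have h1 := h ((P : Subgroup X).map X.subtype) ((map_subtype_le _).trans hX) (P.isPGroup'.map _) (by
    rintro s hs _ ⟨x, hx, rfl⟩
    refine ⟨⟨_, hi s hs x x.2⟩, hP _ ?_, rfl⟩
    obtain ⟨n, hn⟩ := P.isPGroup' ⟨x, hx⟩
    refine ⟨n, Subtype.ext ?_⟩
    have h2 : (x : A) ^ p ^ n = 1 := congrArg (fun y : (P : Subgroup X) => ((y : X) : A)) hn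
    change (s * x * s⁻¹) ^ p ^ n = 1
    rw [conj_pow, h2, mul_one, mul_inv_cancel])
  rw [map_eq_bot_iff_of_injective _ X.subtype_injective] at h1
  intro hd
  apply P.not_dvd_index
  rwa [h1, index_bot]

omit [Finite A] in
theorem nil_of_le {X Y : Subgroup A} (h : X ≤ Y) (hY : Group.IsNilpotent Y) : Group.IsNilpotent X :=
  Group.nilpotent_of_mulEquiv (subgroupOfEquivOfLe h)

theorem fit_nil (S : Subgroup A) : Group.IsNilpotent (fit S) :=
  have := Lib.Cores.fittingSubgroup_isNilpotent (G := S)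
  Group.nilpotent_of_mulEquiv ((fittingSubgroup S).equivMapOfInjective _ S.subtype_injective)

omit [Finite A] in
theorem fit_conj {s : A} (hs : ∀ x, x ∈ S ↔ s * x * s⁻¹ ∈ S) {x : A} (hx : x ∈ fit S) : s * x * s⁻¹ ∈ fit S := by
  obtain ⟨y, hy, rfl⟩ := hx
  let e : S ≃* S :=
    { toFun := fun a => ⟨s * a * s⁻¹, (hs a).1 a.2⟩
      invFun := fun a => ⟨s⁻¹ * a * s, (hs _).2 (by simp [mul_assoc])⟩
      left_inv := fun a => Subtype.ext (by simp [mul_assoc])
      right_inv := fun a => Subtype.ext (by simp [mul_assoc])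
      map_mul' := fun a b => Subtype.ext (by simp [mul_assoc]) }
  have h1 : e y ∈ fittingSubgroup S := (Lib.Cores.map_equiv_fittingSubgroup e).le ⟨y, hy, rfl⟩
  exact ⟨e y, h1, rfl⟩

theorem not_dvd_fit_inf (hT : T.Normal) (hp : p.Prime) (h : NPar p T S) : ¬ p ∣ Nat.card ↥(fit S ⊓ T) :=
  not_dvd_of_nil hp h (inf_le_inf_right _ (map_subtype_le _)) (nil_of_le inf_le_left (fit_nil S))
    fun s hs _ hx => ⟨fit_conj (fun x => ⟨fun h => mul_mem (mul_mem hs h) (inv_mem hs), fun h => by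
      simpa [mul_assoc] using mul_mem (mul_mem (inv_mem hs) h) hs⟩) hx.1, hT.conj_mem _ hx.2 s⟩

theorem not_dvd_fit (hT : T.Normal) (hp : p.Prime) (h : NPar p T S) : ¬ p ∣ Nat.card ↥(fit (S ⊓ T)) :=
  not_dvd_of_nil hp h (map_subtype_le _) (fit_nil _)
    fun s hs _ hx => fit_conj (S := S ⊓ T) (fun x => ⟨fun h =>
      ⟨S.mul_mem (S.mul_mem hs h.1) (S.inv_mem hs), hT.conj_mem _ h.2 s⟩,
      fun h => ⟨by simpa [mul_assoc] using S.mul_mem (S.mul_mem (S.inv_mem hs) h.1) hs,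
        by simpa [mul_assoc] using hT.conj_mem _ h.2 s⁻¹⟩⟩) hx

/-- the elements of `F(S) ⊓ T` have order prime to `p` -/
theorem orderOf_ne (hT : T.Normal) (hp : p.Prime) (h : NPar p T S) {c : A} (hc : c ∈ fit S) (hcT : c ∈ T) :
    orderOf c ≠ p := by
  intro ho
  apply not_dvd_fit_inf hT hp h
  rw [← ho]
  exact (fit S ⊓ T).orderOf_dvd_natCard (mem_inf.2 ⟨hc, hcT⟩)

variable {B : ℕ} (hT : T.Normal) (hp : p.Prime) (h : NPar p T S)
  (hB : ∀ N ≤ T, Group.IsNilpotent N → ¬ p ∣ Nat.card N → Nat.card N ≤ B)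

include hT hp h hB

theorem card_fit_inf_le : Nat.card ↥(fit S ⊓ T) ≤ B :=
  hB _ inf_le_right (nil_of_le inf_le_left (fit_nil S)) (not_dvd_fit_inf hT hp h)

theorem card_inf_le (hS : Group.IsSolvable S) : Nat.card ↥(S ⊓ T) ≤ B ^ 4 := by
  have : Group.IsSolvable ↥(S ⊓ T) :=
    Group.isSolvable_of_isSolvable_injective (f := inclusion (inf_le_left : S ⊓ T ≤ S)) (inclusion_injective _)
  refine card_le_fitting_pow.trans (Nat.pow_le_pow_left ?_ 4)
  rw [← card_fit]
  exact hB _ ((map_subtype_le _).trans inf_le_right) (fit_nil _) (not_dvd_fit hT hp h)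

theorem fitReg_of_nil (hS : Group.IsSolvable S) {f : ℕ} (hf : T.index ≤ f)
    (hc : ∀ c ∈ fit S, (orderOf c).Prime → f * B ^ 5 ≤ cls T c) : FitReg T S := by
  refine fitReg_of_bound hT _ hc ?_
  calc Nat.card (fit S) * Nat.card ↥(S ⊓ T) ≤ (B * f) * B ^ 4 :=
        Nat.mul_le_mul ((card_le_inf_mul_index hT).trans (Nat.mul_le_mul (card_fit_inf_le hT hp h hB) hf))
          (card_inf_le hT hp h hB hS)
    _ = _ := by ring

end general

section aut

variable {K : Type*} [Group K] [Finite K] [IsSimpleGroup K] (hK : ¬ IsMulCommutative K)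

include hK

/-- **The criterion.** -/
theorem good_of_nil {p B f C : ℕ} (hp : p.Prime) {S : Subgroup (MulAut K)} (hS : Group.IsSolvable S)
    (h : NPar p (InnG K) S) (hB : ∀ N : Subgroup K, Group.IsNilpotent N → ¬ p ∣ Nat.card N → Nat.card N ≤ B)
    (hf : Nat.card (Out K) ≤ f)
    (hi : ∀ x : K, (orderOf x).Prime → orderOf x ≠ p → Nat.card (centralizer ({x} : Set K)) ≤ C)
    (ho : ∀ α ∈ fit S, (orderOf α).Prime → (¬ ∃ g, α = MulAut.conj g) → Nat.card (fixS α) ≤ C)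
    (hn : f * B ^ 5 * C ≤ Nat.card K) : Good (InnG K) S := by
  refine Or.inl (fitReg_of_nil (innG_normal K) hp h (fun N hN h1 h2 => ?_) hS hf fun c hc hpr =>
    le_cls hK (le_trans (Nat.mul_le_mul_left _ ?_) hn))
  · have h3 := card_comap hK N
    rw [inf_eq_left.2 hN] at h3
    rw [h3] at h2 ⊢
    refine hB _ ?_ h2
    have h4 : (N.comap MulAut.conj).map MulAut.conj = N := map_comap_eq_self hN
    have h5 : Group.IsNilpotent ↥((N.comap MulAut.conj).map MulAut.conj) := by rwa [h4]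
    exact Group.nilpotent_of_mulEquiv ((N.comap MulAut.conj).equivMapOfInjective _ (conj_injective hK)).symm
  · by_cases hg : ∃ g, c = MulAut.conj g
    · obtain ⟨g, rfl⟩ := hg
      have h1 := orderOf_ne (innG_normal K) hp h hc ⟨g, rfl⟩
      rw [orderOf_injective _ (conj_injective hK)] at h1 hpr
      have h2 : fixS (MulAut.conj g) = centralizer ({g} : Set K) := by
        ext x
        rw [mem_fixS, mem_centralizer_singleton_iff, MulAut.conj_apply, mul_inv_eq_iff_eq_mul, eq_comm]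
      rw [h2]
      exact hi g hpr h1
    · exact ho c hc hpr hg

end aut

/-- conjugates and coprime powers -/
theorem card_fixS_le {K : Type*} [Group K] [Finite K] {α β δ : MulAut K} {i : ℕ} (h : α ^ i = δ * β * δ⁻¹) :
    Nat.card (fixS α) ≤ Nat.card (fixS β) := by
  refine Nat.card_le_card_of_injective (fun x : fixS α => (⟨δ⁻¹ x, ?_⟩ : fixS β)) fun a b hab =>
    Subtype.ext (δ⁻¹.injective (congrArg Subtype.val hab))
  have h1 : ∀ n : ℕ, (α ^ n) x = x := by
    intro n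
    induction n with
    | zero => rfl
    | succ n ih => rw [pow_succ, MulAut.mul_apply, show α x = x from x.2, ih]
  have h2 := h1 i
  rw [h, MulAut.mul_apply, MulAut.mul_apply] at h2
  rw [mem_fixS]
  apply δ.injective
  rw [h2, MulAut.apply_inv_self]

end Cfsg.Agent.SB.TwF
end

-- part: SB/TwF/Main
section
/-!
# S5765: the non-parabolic case for `²F₄(q)` (helper64)
-/

set_option autoImplicit false

namespace Cfsg.Agent.SB.TwF

open Subgroup Cfsg Cfsg.Lie Cfsg.Agent.H786.FC Cfsg.Agent.SB.R1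

theorem ord_le {q : ℕ} (hq : 1 ≤ q) : q ^ 12 * (q - 1) * (q ^ 3 + 1) * (q ^ 4 - 1) * (q ^ 6 + 1) ≤ q ^ 26 := by
  obtain ⟨t, rfl⟩ : ∃ t, q = t + 1 := ⟨q - 1, by omega⟩
  have h1 : t * ((t + 1) ^ 3 + 1) ≤ (t + 1) ^ 4 := by
    have : (t + 1) ^ 4 = t * ((t + 1) ^ 3 + 1) + (t ^ 3 + 3 * t ^ 2 + 2 * t + 1) := by ring
    omega
  have h2 : ((t + 1) ^ 4 - 1) * ((t + 1) ^ 6 + 1) ≤ (t + 1) ^ 10 := by
    obtain ⟨u, hu⟩ : ∃ u, (t + 1) ^ 4 = u + 1 := ⟨(t + 1) ^ 4 - 1, by have := Nat.one_le_pow 4 (t + 1) hq; omega⟩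
    have h3 : (t + 1) ^ 4 ≤ (t + 1) ^ 6 := Nat.pow_le_pow_right hq (by norm_num)
    rw [show (t + 1) ^ 10 = (t + 1) ^ 4 * (t + 1) ^ 6 by ring, hu, Nat.add_sub_cancel]
    nlinarith
  rw [Nat.add_sub_cancel]
  calc (t + 1) ^ 12 * t * ((t + 1) ^ 3 + 1) * ((t + 1) ^ 4 - 1) * ((t + 1) ^ 6 + 1)
      = (t + 1) ^ 12 * (t * ((t + 1) ^ 3 + 1)) * (((t + 1) ^ 4 - 1) * ((t + 1) ^ 6 + 1)) := by ring
    _ ≤ (t + 1) ^ 12 * (t + 1) ^ 4 * (t + 1) ^ 10 := by gcongr
    _ = _ := by ring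

theorem le_ord {q : ℕ} (hq : 8 ≤ q) :
    3 * q ^ 26 ≤ 4 * (q ^ 12 * (q - 1) * (q ^ 3 + 1) * (q ^ 4 - 1) * (q ^ 6 + 1)) := by
  have h1 : 7 * q ≤ 8 * (q - 1) := by omega
  have h2 : 7 * q ^ 4 ≤ 8 * (q ^ 4 - 1) := by
    have : 8 ≤ q ^ 4 := hq.trans (Nat.le_self_pow (by norm_num) q)
    omega
  have h3 : q ^ 12 * (7 * q) * q ^ 3 * (7 * q ^ 4) * q ^ 6 ≤
      q ^ 12 * (8 * (q - 1)) * (q ^ 3 + 1) * (8 * (q ^ 4 - 1)) * (q ^ 6 + 1) := by
    gcongr <;> omega
  have e1 : q ^ 12 * (7 * q) * q ^ 3 * (7 * q ^ 4) * q ^ 6 = 49 * q ^ 26 := by ring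
  have e2 : q ^ 12 * (8 * (q - 1)) * (q ^ 3 + 1) * (8 * (q ^ 4 - 1)) * (q ^ 6 + 1) =
      64 * (q ^ 12 * (q - 1) * (q ^ 3 + 1) * (q ^ 4 - 1) * (q ^ 6 + 1)) := by ring
  rw [e1, e2] at h3
  omega

theorem two_mul_le {m : ℕ} (hm : 1 ≤ m) : 2 * (2 * m + 1) ≤ 2 ^ (2 * m + 1) := by
  induction m, hm using Nat.le_induction with
  | base => norm_num
  | succ m _ ih =>
    rw [show 2 * (m + 1) + 1 = 2 * m + 1 + 2 by ring, pow_add]
    omega

theorem num {q f : ℕ} (hq : 8 ≤ q) (hf : 2 * f ≤ q) :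
    f * (12 * q ^ 2) ^ 5 * q ^ 9 ≤ q ^ 12 * (q - 1) * (q ^ 3 + 1) * (q ^ 4 - 1) * (q ^ 6 + 1) := by
  have h1 := le_ord hq
  have h2 : 8 ^ 6 ≤ q ^ 6 := Nat.pow_le_pow_left hq 6
  have h3 : (2 * f) * 8 ^ 6 * q ^ 19 ≤ q * q ^ 6 * q ^ 19 := by gcongr
  have e1 : q * q ^ 6 * q ^ 19 = q ^ 26 := by ring
  have e2 : f * (12 * q ^ 2) ^ 5 * q ^ 9 = 248832 * (f * q ^ 19) := by ring
  have e3 : (2 * f) * 8 ^ 6 * q ^ 19 = 524288 * (f * q ^ 19) := by ring
  rw [e1, e3] at h3
  rw [e2]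
  omega

variable {K : Type} [Field K] [Fintype K] {m : ℕ} (hm : 1 ≤ m) (hK : Fintype.card K = 2 ^ (2 * m + 1))

include hm hK

/-- the fixed points of an outer automorphism of prime order -/
theorem card_fix_outer {α : MulAut ↥(twistedF4 K (2 ^ m))} (hp : (orderOf α).Prime) (hni : ¬ ∃ g, α = MulAut.conj g) :
    Nat.card (fixS α) ≤ (2 ^ (2 * m + 1)) ^ 9 := by
  have h2p : Fact (Nat.Prime 2) := ⟨Nat.prime_two⟩
  have hcK : CharP K 2 := Cfsg.Agent.ChevalleyStructure.TwF4.Twisted.charP_two hK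
  have hpK : PerfectRing K 2 := inferInstance
  have hfin : Finite ↥(twistedF4 K (2 ^ m)) := inferInstance
  have hp2 : orderOf α ≠ 2 := by
    intro h2
    have h1 : orderOf (α : Out ↥(twistedF4 K (2 ^ m))) ∣ 2 :=
      (orderOf_map_dvd (QuotientGroup.mk' _) α).trans h2.dvd
    have h3 := orderOf_dvd_natCard (α : Out ↥(twistedF4 K (2 ^ m)))
    rw [S2128.result hm hK] at h3
    have h4 : orderOf (α : Out ↥(twistedF4 K (2 ^ m))) = 1 := by
      rcases (Nat.dvd_prime Nat.prime_two).1 h1 with h | h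
      · exact h
      · rw [h] at h3
        omega
    obtain ⟨g, hg⟩ := (QuotientGroup.eq_one_iff α).1 (orderOf_eq_one_iff.1 h4)
    exact hni ⟨g, hg.symm⟩
  obtain ⟨σ, j, s, i, δ, hms, hFx, hi, he⟩ := H628.BalTwF4.exists_std hK hm hp hp2 α rfl hni
  obtain ⟨f, hf, hfix⟩ := Cfsg.Agent.H270.StrP.tf4_fixed hK σ hFx (j := s) (by rw [hms]; ring)
  have hfinE : Fintype ↥(Cfsg.Agent.H967.CopMat.Fx σ) := Fintype.ofFinite _
  have hE' : Fintype.card ↥(Cfsg.Agent.H967.CopMat.Fx σ) = 2 ^ (2 * j + 1) := by rw [← Nat.card_eq_fintype_card, hFx]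
  have hrange : fixS (S2128.fld σ (2 ^ m)) = f.range := by
    ext g
    rw [mem_fixS, ← hfix]
    have h1 : (S2128.fld σ (2 ^ m) g) =
        Cfsg.Agent.H967.CopMat.fieldAut (Cfsg.Agent.H967.CopSz.stab_f4 (K := K) (2 ^ m)) σ g := by
      apply Subtype.ext
      apply Units.ext
      rfl
    rw [h1]
  have hc : Nat.card (fixS (S2128.fld σ (2 ^ m))) =
      Nat.card ↥(twistedF4 ↥(Cfsg.Agent.H967.CopMat.Fx σ) (2 ^ j)) := by
    rw [hrange]
    exact (Nat.card_congr (MonoidHom.ofInjective hf).toEquiv).symm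
  have hs : 1 ≤ s := by
    by_contra h0
    have h1 : s = 0 := by omega
    rw [h1, mul_zero, zero_add] at hms
    subst hms
    rw [S1068.result hE', ← S1068.result hK] at hc
    have h2 := (card_eq_iff_eq_top _).1 hc
    have h3 : S2128.fld σ (2 ^ m) = 1 := MulEquiv.ext fun x => mem_fixS.1 (h2 ▸ mem_top x)
    rw [h3, mul_one, mul_inv_cancel] at he
    exact hp.one_lt.ne' (Nat.Coprime.eq_one_of_dvd hi.symm (orderOf_dvd_of_pow_eq_one he))
  refine (card_fixS_le he).trans ?_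
  rw [hc, S1068.result hE']
  refine (ord_le Nat.one_le_two_pow).trans ?_
  rw [← pow_mul, ← pow_mul]
  refine Nat.pow_le_pow_right (by norm_num) ?_
  have h4 : 2 * j + 1 ≤ (2 * j + 1) * s := Nat.le_mul_of_pos_right _ hs
  omega

theorem rowN_twistedF4 [IsSimpleGroup ↥(twistedF4 K (2 ^ m))] (hc : ¬ IsMulCommutative ↥(twistedF4 K (2 ^ m))) :
    RowN 2 ↥(twistedF4 K (2 ^ m)) := by
  intro S hS _ hN
  have hfin : Finite ↥(twistedF4 K (2 ^ m)) := inferInstance
  have h8 : 8 ≤ 2 ^ (2 * m + 1) := by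
    calc 8 = 2 ^ 3 := by norm_num
      _ ≤ _ := Nat.pow_le_pow_right (by norm_num) (by omega)
  refine good_of_nil hc (B := 12 * (2 ^ (2 * m + 1)) ^ 2) (f := 2 * m + 1) (C := (2 ^ (2 * m + 1)) ^ 9) Nat.prime_two
    hS hN (fun N _ h2 => card_nil_le hm hK N.subtype N.subtype_injective h2) (S2128.result hm hK).le
    (fun x h1 h2 => (H67.RG.card_cent_le hm hK h1 h2 rfl).trans ?_) (fun α _ h1 h2 => card_fix_outer hm hK h1 h2) ?_
  · rw [Nat.card_eq_fintype_card, hK]
    exact Nat.pow_le_pow_right (by omega) (by norm_num)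
  · rw [S1068.result hK]
    exact num h8 (two_mul_le hm)

omit hm hK in
/-- **The box `n2F4`.** -/
theorem box2F4 : BoxN fun p K _ => p = 2 ∧ Lie.Iso2F4 K := by
  rintro p G _ _ _ hG - ⟨rfl, K, _, _, m, hm, hK, ⟨e⟩⟩
  have : IsSimpleGroup ↥(twistedF4 K (2 ^ m)) := e.symm.isSimpleGroup
  refine RowN.of_equiv e (rowN_twistedF4 hm hK fun h => hG ⟨⟨fun a b => e.injective ?_⟩⟩)
  rw [map_mul, map_mul]
  exact h.is_comm.comm _ _

end Cfsg.Agent.SB.TwF
end
end
end
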